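import Mathlib
import Cfsg.Agent.S4200
import Cfsg.Agent.S4201

/-!
Class numbers of all subgroups at once: the bound passes through extensions, quotients and
embeddings.
-/

set_option autoImplicit false
set_option linter.style.haveILetI false

namespace CfsgLib.KR

/-- The class number. -/
noncomputable def kc (G : Type*) [Group G] : ℕ := Nat.card (ConjClasses G)

theorem kc_pos (G : Type*) [Group G] [Finite G] : 0 < kc G :=
  haveI : Nonempty (ConjClasses G) := ⟨ConjClasses.mk 1⟩
  haveI : Finite (ConjClasses G) := Finite.of_surjective _ ConjClasses.mk_surjective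
  Nat.card_pos

theorem kc_le_card (G : Type*) [Group G] [Finite G] : kc G ≤ Nat.card G :=
  Nat.card_le_card_of_surjective _ ConjClasses.mk_surjective

theorem kc_of_surjective {G H : Type*} [Group G] [Finite G] [Group H] (f : G →* H)
    (hf : Function.Surjective f) : kc H ≤ kc G :=
  haveI : Finite (ConjClasses G) := Finite.of_surjective _ ConjClasses.mk_surjective
  Nat.card_le_card_of_surjective (ConjClasses.map f) (ConjClasses.map_surjective hf)

theorem kc_congr {G H : Type*} [Group G] [Finite G] [Group H] (e : G ≃* H) : kc G = kc H :=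
  haveI : Finite H := Finite.of_equiv G e.toEquiv
  le_antisymm (kc_of_surjective e.symm.toMonoidHom e.symm.surjective)
    (kc_of_surjective e.toMonoidHom e.surjective)

theorem kc_le_mul (G : Type*) [Group G] [Finite G] (N : Subgroup G) [N.Normal] :
    kc G ≤ kc N * kc (G ⧸ N) :=
  Cfsg.Agent.S4201.result N

theorem kc_le_index_mul (G : Type*) [Group G] [Finite G] (N : Subgroup G) :
    kc G ≤ N.index * kc N :=
  (Cfsg.Agent.S4200.result N).2.1

theorem kc_le_ker_mul_range {G H : Type*} [Group G] [Finite G] [Group H] (f : G →* H) :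
    kc G ≤ kc f.ker * kc f.range := by
  rw [← kc_congr (QuotientGroup.quotientKerEquivRange f)]
  exact kc_le_mul G f.ker

/-- At most `b` classes up to the few elements with large centralizers. -/
theorem kc_mul_card_le {G : Type*} [Group G] [Finite G] [Fintype G] (f : G → ℕ)
    (hf : ∀ x : G, Nat.card (Subgroup.centralizer ({x} : Set G)) ≤ f x) :
    kc G * Nat.card G ≤ ∑ x : G, f x := by
  classical
  rw [kc, ← card_comm_eq_card_conjClasses_mul_card]
  calc Nat.card {p : G × G // Commute p.1 p.2}
      = Nat.card (Σ x : G, {y : G // Commute x y}) := Nat.card_congr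
        { toFun := fun p => ⟨p.1.1, p.1.2, p.2⟩
          invFun := fun s => ⟨(s.1, s.2.1), s.2.2⟩
          left_inv := fun p => rfl
          right_inv := fun s => rfl }
    _ = ∑ x : G, Nat.card {y : G // Commute x y} := Nat.card_sigma
    _ ≤ ∑ x : G, f x := Finset.sum_le_sum fun x _ => (hf x).trans' (le_of_eq (Nat.card_congr
        (Equiv.subtypeEquivRight fun y => (Subgroup.mem_centralizer_singleton_iff.trans
          ⟨fun h => h.symm, fun h => h.symm⟩).symm)))

/-- A non-abelian group has at most five eighths as many classes as elements. -/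
theorem kc_le_five_eighths {G : Type*} [Group G] [Finite G] (h : ¬ ∀ x y : G, x * y = y * x) :
    8 * kc G ≤ 5 * Nat.card G := by
  classical
  haveI := Fintype.ofFinite G
  set Z := Subgroup.center G with hZ
  have hZc : 4 * Nat.card Z ≤ Nat.card G := by
    have hidx : 4 ≤ Z.index := by
      by_contra hlt
      have hnc : ¬ IsCyclic (G ⧸ Z) := fun hc => h fun x y => by
        haveI := hc
        letI := commutative_of_cyclic_center_quotient (QuotientGroup.mk' Z)
          (by rw [QuotientGroup.ker_mk'])
        exact this x y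
      have hpos : Z.index ≠ 0 := Subgroup.index_ne_zero_of_finite
      rcases (show Z.index = 1 ∨ Z.index = 2 ∨ Z.index = 3 by omega) with e | e | e
      · exact hnc (haveI : Subsingleton (G ⧸ Z) := (Nat.card_eq_one_iff_unique.mp
            (show Nat.card (G ⧸ Z) = 1 by rw [← Subgroup.index_eq_card, e])).1
          isCyclic_of_subsingleton)
      · haveI : Fact (Nat.Prime 2) := ⟨Nat.prime_two⟩
        exact hnc (isCyclic_of_prime_card (p := 2) (by rw [← Subgroup.index_eq_card, e]))
      · haveI : Fact (Nat.Prime 3) := ⟨Nat.prime_three⟩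
        exact hnc (isCyclic_of_prime_card (p := 3) (by rw [← Subgroup.index_eq_card, e]))
    calc 4 * Nat.card Z ≤ Z.index * Nat.card Z := Nat.mul_le_mul_right _ hidx
      _ = Nat.card G := Z.index_mul_card
  have hb := kc_mul_card_le (fun x : G => if x ∈ Z then Nat.card G else Nat.card G / 2) fun x => by
    split_ifs with hx
    · exact Subgroup.card_le_card_group _
    · have hne : Subgroup.centralizer ({x} : Set G) ≠ ⊤ := fun e => hx (Subgroup.mem_center_iff.mpr
        fun y => Subgroup.mem_centralizer_singleton_iff.mp (e ▸ Subgroup.mem_top y))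
      rw [Nat.le_div_iff_mul_le two_pos]
      calc Nat.card (Subgroup.centralizer ({x} : Set G)) * 2
          ≤ Nat.card (Subgroup.centralizer ({x} : Set G)) *
            (Subgroup.centralizer ({x} : Set G)).index :=
          Nat.mul_le_mul_left _ (Subgroup.one_lt_index_of_ne_top hne)
        _ = Nat.card G := Subgroup.card_mul_index _
  rw [Finset.sum_ite, Finset.sum_const, Finset.sum_const, smul_eq_mul, smul_eq_mul] at hb
  have hsplit := Finset.card_filter_add_card_filter_not (s := (Finset.univ : Finset G)) (p := (· ∈ Z))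
  have hcard : (Finset.univ.filter fun x : G => x ∈ Z).card = Nat.card Z := by
    rw [Nat.card_eq_fintype_card, Fintype.card_subtype]
  rw [Finset.card_univ, ← Nat.card_eq_fintype_card, hcard] at hsplit
  rw [hcard] at hb
  generalize hn : Nat.card G = n at *
  generalize Nat.card Z = z at *
  generalize (Finset.univ.filter fun x : G => x ∉ Z).card = w at *
  have h2 : w * (n / 2) * 2 ≤ w * n := by
    rw [mul_assoc]; exact Nat.mul_le_mul_left _ (Nat.div_mul_le_self n 2)
  have hn0 : 0 < n := hn ▸ Nat.card_pos
  refine Nat.le_of_mul_le_mul_right ?_ hn0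
  nlinarith [Nat.mul_le_mul_right n hZc]

/-- Every subgroup has at most `B` classes. -/
def Cb (G : Type*) [Group G] (B : ℕ) : Prop := ∀ Y : Subgroup G, kc Y ≤ B

theorem Cb.mono {G : Type*} [Group G] {B B' : ℕ} (h : Cb G B) (hB : B ≤ B') : Cb G B' :=
  fun Y => (h Y).trans hB

theorem Cb.self {G : Type*} [Group G] [Finite G] {B : ℕ} (h : Cb G B) : kc G ≤ B :=
  le_of_eq_of_le (kc_congr Subgroup.topEquiv).symm (h ⊤)

theorem Cb.of_card {G : Type*} [Group G] [Finite G] {B : ℕ} (h : Nat.card G ≤ B) : Cb G B :=
  fun Y => (kc_le_card Y).trans ((Subgroup.card_le_card_group Y).trans h)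

theorem Cb.of_subsingleton {G : Type*} [Group G] [Subsingleton G] : Cb G 1 :=
  Cb.of_card (Finite.card_le_one_iff_subsingleton.mpr ‹_›)

theorem Cb.of_injective {G H : Type*} [Group G] [Finite G] [Group H] {B : ℕ} (h : Cb H B) (f : G →* H)
    (hf : Function.Injective f) : Cb G B := fun Y =>
  le_of_eq_of_le (kc_congr (Y.equivMapOfInjective f hf)) (h _)

theorem Cb.of_surjective {G H : Type*} [Group G] [Finite G] [Group H] {B : ℕ} (h : Cb G B)
    (f : G →* H) (hf : Function.Surjective f) : Cb H B := fun Y => by
  let g : Y.comap f →* Y := f.subgroupComap Y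
  exact (kc_of_surjective g (f.subgroupComap_surjective_of_surjective Y hf)).trans (h _)

theorem Cb.of_hom {G H : Type*} [Group G] [Finite G] [Group H] {a b : ℕ} (f : G →* H)
    (hk : Cb f.ker a) (hH : Cb H b) : Cb G (a * b) := fun Y => by
  refine (kc_le_ker_mul_range (f.comp Y.subtype)).trans (Nat.mul_le_mul ?_ (hH _))
  let g : (f.comp Y.subtype).ker →* f.ker :=
    { toFun := fun y => ⟨((y : Y) : G), y.2⟩
      map_one' := rfl
      map_mul' := fun _ _ => rfl }
  refine ((Cb.of_injective hk g fun y z e => ?_).self)
  exact Subtype.ext (Subtype.ext (congrArg (fun w : f.ker => (w : G)) e))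

/-- A finite family of maps with trivial common kernel. -/
theorem Cb.of_family {ι : Type*} {G : Type*} [Group G] [Finite G] {H : ι → Type*}
    [∀ i, Group (H i)] (f : ∀ i, G →* H i) (B : ι → ℕ) (hB : ∀ i, Cb (H i) (B i)) (s : Finset ι)
    (h : ∀ g : G, (∀ i ∈ s, f i g = 1) → g = 1) : Cb G (∏ i ∈ s, B i) := by
  classical
  induction s using Finset.induction_on generalizing G with
  | empty =>
    haveI : Subsingleton G := ⟨fun a b => (h a (by simp)).trans (h b (by simp)).symm⟩
    simpa using Cb.of_subsingleton (G := G)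
  | insert a s ha ih =>
    rw [Finset.prod_insert ha, mul_comm]
    refine Cb.of_hom (f a) (ih (fun i => (f i).comp (f a).ker.subtype) fun g hg => ?_) (hB a)
    refine Subtype.ext (h g fun i hi => ?_)
    rcases Finset.mem_insert.mp hi with rfl | hi
    · exact g.2
    · exact hg i hi

theorem Cb.of_pair {G H K : Type*} [Group G] [Finite G] [Group H] [Group K] {a b : ℕ}
    (f : G →* H) (g : G →* K) (hH : Cb H a) (hK : Cb K b)
    (h : ∀ x, f x = 1 → g x = 1 → x = 1) : Cb G (b * a) := by
  refine Cb.of_hom f (Cb.of_injective hK (g.comp f.ker.subtype) fun x y e => ?_) hH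
  refine Subtype.ext (inv_mul_eq_one.mp (h _ ?_ ?_))
  · rw [map_mul, map_inv, x.2, y.2]; simp
  · rw [map_mul, map_inv]
    exact inv_mul_eq_one.mpr e

end CfsgLib.KR
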