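import Mathlib
import Cfsg.Agent.Lib.SolBase.Main

/-!
A solvable permutation group of degree `n` has order at most `3 ^ (n - 1)`.
-/

set_option autoImplicit false
set_option linter.style.haveILetI false

namespace CfsgLib.KR

universe u

open Equiv

/-- A minimal normal subgroup of a nontrivial solvable group is abelian. -/
theorem exists_minimal_abelian_normal (G : Type*) [Group G] [Finite G] [Nontrivial G]
    (hs : Group.IsSolvable G) :
    ∃ N : Subgroup G, N.Normal ∧ N ≠ ⊥ ∧ (∀ K : Subgroup G, K.Normal → K ≤ N → K = ⊥ ∨ K = N) ∧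
      ∀ a ∈ N, ∀ b ∈ N, a * b = b * a := by
  haveI := hs
  obtain ⟨N, hN, hmin⟩ := (Set.toFinite {N : Subgroup G | N.Normal ∧ N ≠ ⊥}).exists_minimal
    ⟨⊤, inferInstance, top_ne_bot⟩
  haveI := hN.1
  have hlt := Group.IsSolvable.commutator_lt_of_ne_bot hN.2
  have hb : ⁅N, N⁆ = ⊥ := by
    by_contra h
    exact hlt.not_ge (hmin ⟨inferInstance, h⟩ hlt.le)
  refine ⟨N, hN.1, hN.2, fun K h1 h2 => or_iff_not_imp_left.mpr fun h3 =>
    le_antisymm h2 (hmin ⟨h1, h3⟩ h2), fun a ha b hb' => ?_⟩
  have := Subgroup.commutator_mem_commutator ha hb'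
  rwa [hb, Subgroup.mem_bot, commutatorElement_eq_one_iff_mul_comm] at this

/-- A finite abelian group has a generating set of logarithmic size. -/
theorem exists_small_generators (N : Type*) [CommGroup N] [Finite N] :
    ∃ S : Finset N, Subgroup.closure (S : Set N) = ⊤ ∧ (∀ s ∈ S, s ≠ 1) ∧ 2 ^ S.card ≤ Nat.card N := by
  classical
  haveI := Fintype.ofFinite N
  have hex : ∃ n, ∃ S : Finset N, S.card = n ∧ Subgroup.closure (S : Set N) = ⊤ :=
    ⟨_, Finset.univ, rfl, by rw [Finset.coe_univ]; exact Subgroup.closure_univ⟩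
  obtain ⟨S, hc, hS⟩ := Nat.find_spec hex
  have hmin : ∀ s ∈ S, s ∉ Subgroup.closure ((S.erase s : Finset N) : Set N) := by
    intro s hs hmem
    refine Nat.find_min hex (m := (S.erase s).card) (hc ▸ Finset.card_erase_lt_of_mem hs)
      ⟨S.erase s, rfl, ?_⟩
    rw [eq_top_iff, ← hS, Subgroup.closure_le]
    intro x hx
    by_cases hxs : x = s
    · exact hxs ▸ hmem
    · exact Subgroup.subset_closure (Finset.mem_erase.mpr ⟨hxs, hx⟩)
  refine ⟨S, hS, fun s hs e => hmin s hs (e ▸ one_mem _), ?_⟩
  have key : ∀ U ⊆ S, ∀ W ⊆ S, ∀ a ∈ U, a ∉ W → ∏ x ∈ U, x ≠ ∏ x ∈ W, x := by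
    intro U hU W hW a ha haW e
    refine hmin a (hU ha) ?_
    have e' : a * ∏ x ∈ U.erase a, x = ∏ x ∈ W, x := (Finset.mul_prod_erase U (fun x => x) ha).trans e
    have h1 : a = (∏ x ∈ W, x) * (∏ x ∈ U.erase a, x)⁻¹ := eq_mul_inv_of_mul_eq e'
    have h2 : (∏ x ∈ W, x) * (∏ x ∈ U.erase a, x)⁻¹ ∈
        Subgroup.closure ((S.erase a : Finset N) : Set N) := by
      refine mul_mem (Subgroup.prod_mem _ fun x hx => Subgroup.subset_closure (Finset.mem_erase.mpr
        ⟨fun h => haW (h ▸ hx), hW hx⟩)) (inv_mem (Subgroup.prod_mem _ fun x hx =>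
          Subgroup.subset_closure (Finset.mem_erase.mpr
            ⟨(Finset.mem_erase.mp hx).1, hU (Finset.mem_of_mem_erase hx)⟩)))
    rwa [← h1] at h2
  rw [← Finset.card_powerset, ← Nat.card_eq_finsetCard]
  refine Nat.card_le_card_of_injective (fun U : S.powerset => ∏ x ∈ (U : Finset N), x) fun U W e => ?_
  by_contra hne
  have hU := Finset.mem_powerset.mp U.2
  have hW := Finset.mem_powerset.mp W.2
  obtain ⟨a, ha⟩ : ∃ a, ¬ (a ∈ (U : Finset N) ↔ a ∈ (W : Finset N)) := by
    by_contra h
    push Not at h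
    exact hne (Subtype.ext (Finset.ext h))
  by_cases h : a ∈ (U : Finset N)
  · exact key _ hU _ hW a h (fun h' => ha (iff_of_true h h')) e
  · exact key _ hW _ hU a (by_contra fun h' => ha (iff_of_false h h')) h e.symm

theorem four_pow_le {n : ℕ} (hn : 9 ≤ n) : n ^ 4 ≤ 3 ^ (n - 1) := by
  induction n, hn using Nat.le_induction with
  | base => norm_num
  | succ n hn ih =>
    rw [show n + 1 - 1 = (n - 1) + 1 by omega, pow_succ]
    calc (n + 1) ^ 4 ≤ 3 * n ^ 4 := by
          nlinarith [Nat.mul_le_mul hn hn, Nat.mul_le_mul_right (n ^ 2) hn]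
      _ ≤ 3 * 3 ^ (n - 1) := Nat.mul_le_mul_left _ ih
      _ = _ := mul_comm _ _

/-- The degree bound for order. -/
def PBnd (n : ℕ) : Prop :=
  ∀ (T : Type u) [Group T] [Finite T], Group.IsSolvable T → ∀ (β : Type u) [Finite β],
    Nat.card β = n → ∀ f : T →* Perm β, Function.Injective f → Nat.card T ≤ 3 ^ (n - 1)

theorem card_range_le {T : Type u} [Group T] [Finite T] (hs : Group.IsSolvable T) {β : Type u}
    [Finite β] {n : ℕ} (h : PBnd.{u} n) (hn : Nat.card β = n) (f : T →* Perm β) :
    Nat.card f.range ≤ 3 ^ (n - 1) := by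
  haveI := hs
  exact h f.range (Group.isSolvable_of_surjective f.rangeRestrict_surjective) β hn f.range.subtype
    f.range.subtype_injective

/-- An invariant partition. -/
theorem le_of_partition {T : Type u} [Group T] [Finite T] (hs : Group.IsSolvable T) {α : Type u}
    [Finite α] (f : T →* Perm α) (hf : Function.Injective f) (ih : ∀ m < Nat.card α, PBnd.{u} m)
    {ι : Type u} [Finite ι] (c : α → ι) (hc : Function.Surjective c) (h : T →* Perm ι)
    (heq : ∀ g x, c (f g x) = h g (c x)) (h1 : 1 < Nat.card ι) (h2 : ¬ Function.Injective c) :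
    Nat.card T ≤ 3 ^ (Nat.card α - 1) := by
  classical
  haveI := Fintype.ofFinite α
  haveI := Fintype.ofFinite ι
  have hlt : Nat.card ι < Nat.card α := by
    refine lt_of_le_of_ne (Nat.card_le_card_of_surjective c hc) fun e => h2 ?_
    exact ((Nat.bijective_iff_surjective_and_card c).mpr ⟨hc, e.symm⟩).1
  have hfix : ∀ (g : h.ker) (i : ι) (x : α), c x = i ↔ c (f g x) = i := fun g i x => by
    rw [heq, MonoidHom.mem_ker.mp g.2]; rfl
  let π : ∀ i, h.ker →* Perm {x // c x = i} := fun i =>
    { toFun := fun g => (f g).subtypePerm fun x => (hfix g i x).symm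
      map_one' := by ext x; simp
      map_mul' := fun a b => by ext x; simp; rfl }
  have hsum : ∑ i, Nat.card {x // c x = i} = Nat.card α := by
    rw [← Nat.card_sigma]
    exact Nat.card_congr (Equiv.sigmaFiberEquiv c)
  have hpos : ∀ i, 1 ≤ Nat.card {x // c x = i} := fun i => by
    obtain ⟨x, hx⟩ := hc i
    haveI : Nonempty {x // c x = i} := ⟨⟨x, hx⟩⟩
    exact Nat.card_pos
  have hsmall : ∀ i, Nat.card {x // c x = i} < Nat.card α := fun i => by
    have hrest : ∑ j ∈ Finset.univ.erase i, Nat.card {x // c x = j} ≥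
        ∑ _j ∈ Finset.univ.erase i, 1 := Finset.sum_le_sum fun j _ => hpos j
    rw [Finset.sum_const, smul_eq_mul, mul_one, Finset.card_erase_of_mem (Finset.mem_univ i),
      Finset.card_univ, ← Nat.card_eq_fintype_card] at hrest
    rw [← hsum, ← Finset.add_sum_erase _ _ (Finset.mem_univ i)]
    omega
  haveI := hs
  have hk : Nat.card h.ker ≤ ∏ i, 3 ^ (Nat.card {x // c x = i} - 1) := by
    refine (Nat.card_le_card_of_injective (fun (g : h.ker) i => (π i).rangeRestrict g) ?_).trans ?_
    · intro a b e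
      refine Subtype.ext (hf (Equiv.ext fun x => ?_))
      exact congrArg Subtype.val (Equiv.congr_fun (congrArg Subtype.val (congrFun e (c x))) ⟨x, rfl⟩)
    · rw [Nat.card_pi]
      exact Finset.prod_le_prod' fun i _ =>
        card_range_le inferInstance (ih _ (hsmall i)) rfl (π i)
  have hr := card_range_le hs (ih _ hlt) rfl h
  rw [← h.ker.card_mul_index, Subgroup.index_ker]
  refine (Nat.mul_le_mul hk hr).trans (le_of_eq ?_)
  rw [Finset.prod_pow_eq_pow_sum, ← pow_add]
  congr 1
  rw [Finset.sum_tsub_distrib _ fun i _ => hpos i, hsum, Finset.sum_const, smul_eq_mul, mul_one,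
    Finset.card_univ, ← Nat.card_eq_fintype_card]
  omega

/-- An abelian regular normal subgroup. -/
theorem le_of_regular {T : Type u} [Group T] [Finite T] (hs : Group.IsSolvable T) {α : Type u}
    [Finite α] [Nonempty α] (f : T →* Perm α) (hf : Function.Injective f) (N : Subgroup T) [N.Normal]
    (hmin : ∀ K : Subgroup T, K.Normal → K ≤ N → K = ⊥ ∨ K = N)
    (hab : ∀ a ∈ N, ∀ b ∈ N, a * b = b * a) (htr : ∀ x y : α, ∃ a ∈ N, f a x = y) :
    Nat.card T ≤ 3 ^ (Nat.card α - 1) := by
  classical
  haveI := hs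
  obtain ⟨x₀⟩ := ‹Nonempty α›
  set n := Nat.card α
  letI : CommGroup N :=
    { (inferInstance : Group N) with mul_comm := fun a b => Subtype.ext (hab a a.2 b b.2) }
  have hfree : ∀ a ∈ N, f a x₀ = x₀ → a = 1 := by
    intro a ha e
    refine hf (Equiv.ext fun y => ?_)
    obtain ⟨b, hb, rfl⟩ := htr x₀ y
    rw [map_one, ← Perm.mul_apply, ← map_mul, hab a ha b hb, map_mul, Perm.mul_apply, e]
    rfl
  have hN : Nat.card N = n := Nat.card_congr (Equiv.ofBijective (fun a : N => f a x₀) ⟨fun a b e => by
    have e' : f ((a : T)⁻¹ * b) x₀ = x₀ := by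
      rw [map_mul, map_inv, Perm.mul_apply]
      exact Perm.inv_eq_iff_eq.mpr e.symm
    exact Subtype.ext (inv_mul_eq_one.mp (hfree _ (mul_mem (inv_mem a.2) b.2) e')), fun y => by
    obtain ⟨a, ha, h⟩ := htr x₀ y; exact ⟨⟨a, ha⟩, h⟩⟩)
  let H : Subgroup T :=
    { carrier := {g | f g x₀ = x₀}
      one_mem' := by simp
      mul_mem' := fun {a b} (ha : f a x₀ = x₀) (hb : f b x₀ = x₀) => by
        show f (a * b) x₀ = x₀
        rw [map_mul, Perm.mul_apply, hb, ha]
      inv_mem' := fun {a} (ha : f a x₀ = x₀) => by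
        show f a⁻¹ x₀ = x₀
        rw [map_inv]; exact Perm.inv_eq_iff_eq.mpr ha.symm }
  have hidx : H.index = n := by
    refine Nat.card_congr (Equiv.ofBijective
      (Quotient.lift (fun g : T => f g x₀) fun a b hab' => ?_) ⟨?_, ?_⟩)
    · have h : f (a⁻¹ * b) x₀ = x₀ := QuotientGroup.leftRel_apply.mp hab'
      rw [map_mul, map_inv, Perm.mul_apply] at h
      exact (Perm.inv_eq_iff_eq.mp h).symm
    · rintro ⟨a⟩ ⟨b⟩ (e : f a x₀ = f b x₀)
      refine Quotient.sound (QuotientGroup.leftRel_apply.mpr ?_)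
      show f (a⁻¹ * b) x₀ = x₀
      rw [map_mul, map_inv, Perm.mul_apply, ← e]
      exact Perm.inv_eq_iff_eq.mpr rfl
    · intro y
      obtain ⟨a, -, h⟩ := htr x₀ y
      exact ⟨Quotient.mk'' a, h⟩
  rw [← H.card_mul_index, hidx]
  have hcomm : ∀ g : H, (∀ a : N, (g : T) * a * (g : T)⁻¹ = a) → g = 1 := by
    intro g hg
    refine Subtype.ext (hf (Equiv.ext fun y => ?_))
    obtain ⟨a, ha, rfl⟩ := htr x₀ y
    rw [← Perm.mul_apply, ← map_mul, mul_inv_eq_iff_eq_mul.mp (hg ⟨a, ha⟩), map_mul, Perm.mul_apply,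
      show f g x₀ = x₀ from g.2, OneMemClass.coe_one, map_one]
    rfl
  rcases Nat.lt_or_ge n 9 with hlt | hge
  · obtain ⟨S, hS, hS1, hSc⟩ := exists_small_generators N
    have hH : Nat.card H ≤ (n - 1).descFactorial S.card := by
      have hinj : Function.Injective fun (g : H) =>
          (⟨fun s : S => ⟨MulAut.conjNormal (g : T) (s : N), fun e => hS1 _ s.2
            ((MulAut.conjNormal (g : T)).injective (e.trans (map_one _).symm))⟩, fun s t e =>
            Subtype.ext ((MulAut.conjNormal (g : T)).injective (congrArg Subtype.val e))⟩ :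
            S ↪ {a : N // a ≠ 1}) := by
        intro g g' e
        have hall : (MulAut.conjNormal (g : T) : MulAut N).toMonoidHom =
            (MulAut.conjNormal (g' : T) : MulAut N).toMonoidHom := by
          refine MonoidHom.eq_of_eqOn_dense hS fun s hs => ?_
          exact congrArg Subtype.val (DFunLike.congr_fun e ⟨s, hs⟩)
        rw [← inv_mul_eq_one]
        refine hcomm _ fun a => ?_
        have h2 := congrArg Subtype.val (DFunLike.congr_fun hall a)
        simp only [MulEquiv.coe_toMonoidHom, MulAut.conjNormal_apply] at h2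
        rw [Subgroup.coe_mul, Subgroup.coe_inv, mul_inv_rev, inv_inv]
        calc _ = (g : T)⁻¹ * ((g' : T) * a * (g' : T)⁻¹) * (g : T) := by group
          _ = _ := by rw [← h2]; group
      haveI := Fintype.ofFinite N
      refine (Nat.card_le_card_of_injective _ hinj).trans (le_of_eq ?_)
      rw [Nat.card_eq_fintype_card, Fintype.card_embedding_eq, Fintype.card_coe,
        Fintype.card_subtype_compl, Fintype.card_subtype_eq, ← Nat.card_eq_fintype_card, hN]
    refine (Nat.mul_le_mul_right _ hH).trans ?_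
    have hn1 : 1 ≤ n := Nat.card_pos
    rw [hN] at hSc
    have : S.card ≤ 3 := by
      by_contra h
      have := Nat.pow_le_pow_right (show 1 ≤ 2 by norm_num) (show 4 ≤ S.card by omega)
      omega
    interval_cases n <;> interval_cases S.card <;> first | decide | omega
  · let φ : H →* AddMonoid.End (Additive N) :=
      { toFun := fun g => MonoidHom.toAdditive (MulAut.conjNormal (g : T) : MulAut N).toMonoidHom
        map_one' := CfsgLib.OddBase.ext_end fun a => Subtype.ext (by
          show (((1 : H) : T) * ((Additive.toMul a : N) : T) * ((1 : H) : T)⁻¹) = _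
          simp; rfl)
        map_mul' := fun g h => CfsgLib.OddBase.ext_end fun a => Subtype.ext (by
          show ((g : T) * h) * ((Additive.toMul a : N) : T) * ((g : T) * h)⁻¹ =
            (g : T) * ((h : T) * ((Additive.toMul a : N) : T) * (h : T)⁻¹) * (g : T)⁻¹
          group) }
    have hirr : ∀ U : AddSubgroup (Additive N), CfsgLib.OddBase.Inv φ U → U = ⊥ ∨ U = ⊤ := by
      intro U hU
      set K : Subgroup T := (AddSubgroup.toSubgroup' U).map N.subtype with hK
      have hKn : K.Normal := by
        constructor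
        rintro _ ⟨a, ha, rfl⟩ g
        obtain ⟨b, hb, hbe⟩ := htr x₀ (f g x₀)
        have hh : b⁻¹ * g ∈ H := by
          show f (b⁻¹ * g) x₀ = x₀
          rw [map_mul, map_inv, Perm.mul_apply]
          exact Perm.inv_eq_iff_eq.mpr hbe.symm
        refine ⟨MulAut.conjNormal ((⟨_, hh⟩ : H) : T) a, hU ⟨_, hh⟩ (Additive.ofMul a) ha, ?_⟩
        set c : N := MulAut.conjNormal ((⟨_, hh⟩ : H) : T) a with hc
        have hcb : b * (c : T) = (c : T) * b := hab b hb c c.2
        have he : (c : T) = b⁻¹ * g * (a : T) * (b⁻¹ * g)⁻¹ := MulAut.conjNormal_apply _ _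
        show (c : T) = g * (a : T) * g⁻¹
        calc (c : T) = b * (c : T) * b⁻¹ := by rw [hcb]; group
          _ = _ := by rw [he]; group
      rcases hmin K hKn (Subgroup.map_subtype_le _) with e | e
      · left
        rw [Subgroup.map_eq_bot_iff_of_injective _ N.subtype_injective] at e
        exact (AddSubgroup.eq_bot_iff_forall _).mpr fun x hx =>
          congrArg Additive.ofMul ((Subgroup.eq_bot_iff_forall _).mp e (Additive.toMul x) hx)
      · right
        refine AddSubgroup.ext fun x => ⟨fun _ => trivial, fun _ => ?_⟩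
        have hxK : ((Additive.toMul x : N) : T) ∈ K := by rw [e]; exact (Additive.toMul x).2
        obtain ⟨a, ha, hae⟩ := hxK
        rw [show x = Additive.ofMul a from congrArg Additive.ofMul (Subtype.ext hae.symm)]
        exact ha
    obtain ⟨a, b, c, habc⟩ := CfsgLib.SolBase.smallBase3 (Nat.card N + 1) H
      inferInstance (Additive N) (Nat.lt_succ_self _) φ
      (CfsgLib.SolBase.cr_of_irreducible φ hirr)
    have hH : Nat.card H ≤ n * (n * n) := by
      refine (Nat.card_le_card_of_injective (fun g : H => (φ g a, φ g b, φ g c)) fun g g' e => ?_).trans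
        (le_of_eq ?_)
      · simp only [Prod.mk.injEq] at e
        have h1 : ∀ x, φ g x = φ g' x → φ (g'⁻¹ * g) x = x := fun x hx => by
          rw [CfsgLib.OddBase.map_mul_apply, hx, CfsgLib.OddBase.inv_apply]
        have h2 := habc (g'⁻¹ * g) (h1 a e.1) (h1 b e.2.1) (h1 c e.2.2)
        refine (inv_mul_eq_one.mp (hcomm _ fun x => ?_)).symm
        exact congrArg (fun e : AddMonoid.End (Additive N) =>
          ((Additive.toMul (e (Additive.ofMul x)) : N) : T)) h2
      · simp only [Nat.card_prod]
        rw [show Nat.card (Additive N) = n from hN]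
    calc Nat.card H * n ≤ n * (n * n) * n := Nat.mul_le_mul_right _ hH
      _ = n ^ 4 := by ring
      _ ≤ _ := four_pow_le hge

theorem pbnd : ∀ n, PBnd.{u} n := by
  intro n
  induction n using Nat.strong_induction_on with
  | _ n ih =>
  intro T _ _ hs α _ hn f hf
  subst hn
  rcases subsingleton_or_nontrivial T with hT | hT
  · rw [Nat.card_unique]
    exact Nat.one_le_pow _ _ (by norm_num)
  obtain ⟨N, hNn, hN1, hmin, hab⟩ := exists_minimal_abelian_normal T hs
  haveI : Nonempty α := by
    by_contra h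
    haveI := not_nonempty_iff.mp h
    exact not_subsingleton T hf.subsingleton
  letI : MulAction N α := MulAction.compHom α (f.comp N.subtype)
  by_cases htr : ∀ x y : α, ∃ a ∈ N, f a x = y
  · exact le_of_regular hs f hf N hmin hab htr
  let ι := MulAction.orbitRel.Quotient N α
  have hwd : ∀ (g : T) (x y : α), MulAction.orbitRel N α x y → MulAction.orbitRel N α (f g x) (f g y) := by
    intro g x y hxy
    obtain ⟨a, rfl⟩ := MulAction.orbitRel_apply.mp hxy
    refine MulAction.orbitRel_apply.mpr ⟨⟨g * a * g⁻¹, hNn.conj_mem _ a.2 g⟩, ?_⟩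
    show f (g * a * g⁻¹) (f g y) = f g (f a y)
    rw [← Perm.mul_apply, ← map_mul, ← Perm.mul_apply, ← map_mul]
    congr 2
    group
  let h : T →* Perm ι :=
    MonoidHom.toHomPerm
      { toFun := fun g => Quotient.map' (f g) (hwd g)
        map_one' := funext fun q => by
          induction q using Quotient.inductionOn' with
          | _ x => exact congrArg Quotient.mk'' (by rw [map_one]; rfl)
        map_mul' := fun a b => funext fun q => by
          induction q using Quotient.inductionOn' with
          | _ x => exact congrArg Quotient.mk'' (by rw [map_mul]; rfl) }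
  refine le_of_partition hs f hf ih (Quotient.mk'' : α → ι) Quotient.mk''_surjective h (fun g x => rfl)
    ?_ ?_
  · by_contra hle
    haveI : Subsingleton ι := Finite.card_le_one_iff_subsingleton.mp (not_lt.mp hle)
    refine htr fun x y => ?_
    obtain ⟨a, ha⟩ := MulAction.orbitRel_apply.mp (Quotient.exact' (Subsingleton.elim
      (Quotient.mk'' y : ι) (Quotient.mk'' x)))
    exact ⟨a, a.2, ha⟩
  · intro hinj
    refine hN1 ((Subgroup.eq_bot_iff_forall _).mpr fun a ha => hf (Equiv.ext fun x => ?_))
    rw [map_one]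
    exact hinj (Quotient.sound' (MulAction.orbitRel_apply.mpr ⟨⟨a, ha⟩, rfl⟩))

/-- A solvable permutation group of degree `n` has order at most `3 ^ (n - 1)`. -/
theorem card_le_three_pow {T : Type u} [Group T] [Finite T] (hs : Group.IsSolvable T) {β : Type u}
    [Finite β] (f : T →* Perm β) (hf : Function.Injective f) :
    Nat.card T ≤ 3 ^ (Nat.card β - 1) :=
  pbnd _ T hs β rfl f hf

end CfsgLib.KR
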