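import Mathlib
import Cfsg.Agent.Lib.KR.Basic
import Cfsg.Agent.Lib.OddBase.Basic

/-!
Affine groups of completely reducible groups: blocks and normal subgroups.
-/

set_option autoImplicit false
set_option linter.style.haveILetI false

namespace CfsgLib.KR

open CfsgLib.OddBase (Inv CR IsMinInv res ext_end)

universe u

variable {G V : Type u} [Group G] [AddCommGroup V]

/-- Invertible endomorphisms as automorphisms of the multiplicative copy. -/
def mact (ρ : G →* AddMonoid.End V) : G →* MulAut (Multiplicative V) where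
  toFun g :=
    { toFun := fun v => Multiplicative.ofAdd (ρ g (Multiplicative.toAdd v))
      invFun := fun v => Multiplicative.ofAdd (ρ g⁻¹ (Multiplicative.toAdd v))
      left_inv := fun v => congrArg Multiplicative.ofAdd (OddBase.inv_apply ρ g _)
      right_inv := fun v => congrArg Multiplicative.ofAdd (OddBase.apply_inv ρ g _)
      map_mul' := fun a b => congrArg Multiplicative.ofAdd (map_add (ρ g) _ _) }
  map_one' := by
    ext v
    show Multiplicative.ofAdd (ρ 1 (Multiplicative.toAdd v)) = v
    rw [map_one]; rfl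
  map_mul' g h := by
    ext v
    show Multiplicative.ofAdd (ρ (g * h) (Multiplicative.toAdd v)) =
      Multiplicative.ofAdd (ρ g (ρ h (Multiplicative.toAdd v)))
    rw [OddBase.map_mul_apply]

/-- The affine group. -/
abbrev Aff (ρ : G →* AddMonoid.End V) : Type u := SemidirectProduct (Multiplicative V) G (mact ρ)

instance aff_finite [Finite G] [Finite V] (ρ : G →* AddMonoid.End V) : Finite (Aff ρ) :=
  haveI : Finite (Multiplicative V) := inferInstanceAs (Finite V)
  Finite.of_injective (fun x : Aff ρ => (x.left, x.right)) fun a b e =>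
    SemidirectProduct.ext (congrArg Prod.fst e) (congrArg Prod.snd e)

theorem mact_eq {ρ : G →* AddMonoid.End V} (g : G) (v : Multiplicative V) :
    mact ρ g v = Multiplicative.ofAdd (ρ g (Multiplicative.toAdd v)) := rfl

/-- A normal subgroup of a completely reducible group is completely reducible. -/
theorem cr_normal [Finite V] (ρ : G →* AddMonoid.End V) (hcr : CR ρ) (C : Subgroup G) [C.Normal] :
    CR (ρ.comp C.subtype) := by
  let σ := ρ.comp C.subtype
  have hmap : ∀ g U, IsMinInv σ U → IsMinInv σ (U.map (ρ g)) := by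
    intro g U hU
    refine ⟨fun e => hU.1 ?_, fun c y hy => ?_, fun T hTU hT => ?_⟩
    · exact (AddSubgroup.map_eq_bot_iff_of_injective _ (OddBase.apply_injective ρ g)).1 e
    · obtain ⟨z, hz, rfl⟩ := hy
      refine ⟨ρ (g⁻¹ * c * g) z, hU.2.1 ⟨g⁻¹ * c * g, ?_⟩ z hz, ?_⟩
      · simpa using (‹C.Normal›.conj_mem c c.2 g⁻¹)
      · show ρ g (ρ (g⁻¹ * c * g) z) = ρ (c : G) (ρ g z)
        rw [← OddBase.map_mul_apply, ← OddBase.map_mul_apply]; group
    · have hcomap : Inv σ (T.comap (ρ g)) := fun c y hy => by
        show ρ g (ρ c y) ∈ T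
        have : ρ g (ρ c y) = ρ (g * c * g⁻¹) (ρ g y) := by
          rw [← OddBase.map_mul_apply, ← OddBase.map_mul_apply]; group
        rw [this]
        exact hT ⟨g * c * g⁻¹, ‹C.Normal›.conj_mem c c.2 g⟩ _ hy
      have hle : T.comap (ρ g) ≤ U := fun y hy => by
        obtain ⟨z, hz, e⟩ := hTU hy
        exact OddBase.apply_injective ρ g e ▸ hz
      have hback : (T.comap (ρ g)).map (ρ g) = T := by
        refine le_antisymm (AddSubgroup.map_comap_le _ _) fun y hy => ?_
        exact ⟨ρ g⁻¹ y, show ρ g (ρ g⁻¹ y) ∈ T by rw [OddBase.apply_inv]; exact hy,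
          OddBase.apply_inv ρ g y⟩
      rcases hU.2.2 _ hle hcomap with e | e
      · left; rw [← hback, e]; exact AddSubgroup.map_bot _
      · right; rw [← hback, e]
  set S : AddSubgroup V := ⨆ (U : AddSubgroup V) (_ : IsMinInv σ U), U with hS
  have hSi : Inv ρ S := fun g x hx => by
    have : S ≤ S.comap (ρ g) := iSup₂_le fun U hU y hy =>
      le_iSup₂ (f := fun U (_ : IsMinInv σ U) => U) _ (hmap g U hU) ⟨y, hy, rfl⟩
    exact this hx
  refine OddBase.cr_of_sum_minimal _ ?_
  obtain ⟨W, hW, hd, hs⟩ := hcr S hSi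
  by_cases hW0 : W = ⊥
  · rwa [hW0, sup_bot_eq] at hs
  · obtain ⟨T, hTW, hT⟩ := OddBase.exists_isMinInv σ hW0 (fun c x hx => hW c x hx)
    refine absurd (le_bot_iff.mp ?_) hT.1
    rw [← hd]
    exact le_inf (le_iSup₂ (f := fun U (_ : IsMinInv σ U) => U) T hT) hTW

/-- Complete reducibility only depends on the image. -/
theorem cr_of_range {H : Type u} [Group H] (ρ : G →* AddMonoid.End V) (σ : H →* AddMonoid.End V)
    (h : ∀ g, ∃ x, σ x = ρ g) (h' : ∀ x, ∃ g, ρ g = σ x) (hcr : CR ρ) : CR σ := by
  intro U hU
  have hU' : Inv ρ U := fun g x hx => by obtain ⟨y, hy⟩ := h g; rw [← hy]; exact hU y x hx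
  obtain ⟨W, hW, h1, h2⟩ := hcr U hU'
  exact ⟨W, fun y x hx => by obtain ⟨g, hg⟩ := h' y; rw [← hg]; exact hW g x hx, h1, h2⟩

/-- In a completely reducible faithful group there is no normal `p`-subgroup. -/
theorem eq_bot_of_isPGroup [Finite V] (ρ : G →* AddMonoid.End V) (hρ : Function.Injective ρ) (hcr : CR ρ)
    {p : ℕ} [hp : Fact p.Prime] (hV : IsPGroup p (Multiplicative V)) (N : Subgroup G) [N.Normal]
    (hN : IsPGroup p N) : N = ⊥ := by
  let S : AddSubgroup V :=
    { carrier := {v | ∀ n : N, ρ n v = v}
      zero_mem' := fun n => map_zero _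
      add_mem' := fun {a b} ha hb n => by rw [map_add, ha n, hb n]
      neg_mem' := fun {a} ha n => by rw [map_neg, ha n] }
  have hmem : ∀ v, v ∈ S ↔ ∀ n : N, ρ n v = v := fun v => Iff.rfl
  have hSi : Inv ρ S := fun g v hv => (hmem _).mpr fun n => by
    have h := (hmem v).mp hv ⟨g⁻¹ * n * g, by simpa using ‹N.Normal›.conj_mem n n.2 g⁻¹⟩
    calc ρ n (ρ g v) = ρ g (ρ (g⁻¹ * n * g) v) := by
          rw [← OddBase.map_mul_apply, ← OddBase.map_mul_apply]; group
      _ = ρ g v := congrArg _ h
  obtain ⟨W, hW, hd, hs⟩ := hcr S hSi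
  have hW0 : W = ⊥ := by
    by_contra hne
    haveI : Nontrivial W := (AddSubgroup.nontrivial_iff_ne_bot W).mpr hne
    letI : MulAction N W :=
      { smul := fun n w => ⟨ρ n w, hW n w w.2⟩
        one_smul := fun w => Subtype.ext (by show ρ 1 (w : V) = w; rw [map_one]; rfl)
        mul_smul := fun a b w => Subtype.ext (OddBase.map_mul_apply ρ _ _ _) }
    have hWp : IsPGroup p (Multiplicative W) :=
      hV.of_injective (AddMonoidHom.toMultiplicative W.subtype) fun a b e => Subtype.ext e
    have hdvd : p ∣ Nat.card W := by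
      haveI : Finite (Multiplicative W) := inferInstanceAs (Finite W)
      haveI : Nontrivial (Multiplicative W) := inferInstanceAs (Nontrivial W)
      obtain ⟨k, hk0, hk⟩ := hWp.nontrivial_iff_card.mp inferInstance
      exact (show Nat.card W = p ^ k from hk) ▸ dvd_pow_self p hk0.ne'
    obtain ⟨w, hw, hne0⟩ := hN.exists_fixed_point_of_prime_dvd_card_of_fixed_point W hdvd
      (a := (0 : W)) (fun n => Subtype.ext (map_zero _))
    have : (w : V) ∈ S ⊓ W := ⟨(hmem _).mpr fun n => congrArg Subtype.val (hw n), w.2⟩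
    rw [hd, AddSubgroup.mem_bot] at this
    exact hne0.symm (Subtype.ext this)
  rw [hW0, sup_bot_eq] at hs
  refine (Subgroup.eq_bot_iff_forall _).mpr fun n hn => hρ (ext_end fun v => ?_)
  rw [map_one]
  exact (hmem v).mp (hs ▸ AddSubgroup.mem_top v) ⟨n, hn⟩

/-- A subgroup of an affine group containing the translations. -/
theorem kc_of_contains [Finite G] [Finite V] (ρ : G →* AddMonoid.End V) (H : Subgroup (Aff ρ))
    (hH : ∀ v, SemidirectProduct.inl v ∈ H) :
    kc H = kc (Aff (ρ.comp (H.map SemidirectProduct.rightHom).subtype)) := by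
  set C := H.map SemidirectProduct.rightHom
  have hmem : ∀ v : Multiplicative V, ∀ c : C, (⟨v, (c : G)⟩ : Aff ρ) ∈ H := by
    intro v c
    obtain ⟨h, hh, he⟩ := Subgroup.mem_map.mp c.2
    rw [show (⟨v, (c : G)⟩ : Aff ρ) =
      SemidirectProduct.inl (v * h.left⁻¹) * h from SemidirectProduct.ext (by simp) (by
        simp [← he])]
    exact mul_mem (hH _) hh
  refine (kc_congr (MulEquiv.ofBijective
    ({ toFun := fun x => ⟨⟨x.left, (x.right : G)⟩, hmem x.left x.right⟩
       map_one' := rfl
       map_mul' := fun a b => rfl } : Aff (ρ.comp C.subtype) →* H) ⟨?_, ?_⟩)).symm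
  · intro a b e
    have e' := congrArg Subtype.val e
    exact SemidirectProduct.ext (congrArg (fun x : Aff ρ => x.left) e')
      (Subtype.ext (congrArg (fun x : Aff ρ => x.right) e'))
  · rintro ⟨⟨v, g⟩, hx⟩
    exact ⟨⟨v, ⟨g, ⟨_, hx, rfl⟩⟩⟩, rfl⟩

/-- The affine group over a subgroup. -/
theorem kc_le_index [Finite G] [Finite V] (ρ : G →* AddMonoid.End V) (C : Subgroup G) :
    kc (Aff ρ) ≤ C.index * kc (Aff (ρ.comp C.subtype)) := by
  set H : Subgroup (Aff ρ) := C.comap SemidirectProduct.rightHom
  have hH : ∀ v, SemidirectProduct.inl v ∈ H := fun v => by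
    show (SemidirectProduct.inl v : Aff ρ).right ∈ C
    exact one_mem C
  have h1 : H.map SemidirectProduct.rightHom = C :=
    Subgroup.map_comap_eq_self_of_surjective SemidirectProduct.rightHom_surjective C
  have h2 := kc_of_contains ρ H hH
  rw [h1] at h2
  rw [← h2, ← Subgroup.index_comap_of_surjective C (SemidirectProduct.rightHom_surjective (φ := mact ρ))]
  exact kc_le_index_mul _ H

/-- The affine group over a normal subgroup. -/
theorem kc_le_normal [Finite G] [Finite V] (ρ : G →* AddMonoid.End V) (C : Subgroup G) [C.Normal] :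
    kc (Aff ρ) ≤ kc (Aff (ρ.comp C.subtype)) * kc (G ⧸ C) := by
  set H : Subgroup (Aff ρ) := C.comap SemidirectProduct.rightHom
  have hH : ∀ v, SemidirectProduct.inl v ∈ H := fun v => by
    show (SemidirectProduct.inl v : Aff ρ).right ∈ C
    exact one_mem C
  have h1 : H.map SemidirectProduct.rightHom = C :=
    Subgroup.map_comap_eq_self_of_surjective SemidirectProduct.rightHom_surjective C
  have h2 := kc_of_contains ρ H hH
  rw [h1] at h2
  rw [← h2]
  let f : Aff ρ →* G ⧸ C := (QuotientGroup.mk' C).comp SemidirectProduct.rightHom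
  have hf : Function.Surjective f :=
    (QuotientGroup.mk'_surjective C).comp SemidirectProduct.rightHom_surjective
  refine (kc_le_ker_mul_range f).trans (Nat.mul_le_mul (le_of_eq ?_) (le_of_eq ?_))
  · have hk : f.ker = H := by
      show ((QuotientGroup.mk' C).comp SemidirectProduct.rightHom).ker = C.comap _
      rw [← MonoidHom.comap_ker, QuotientGroup.ker_mk']
    exact kc_congr (MulEquiv.subgroupCongr hk)
  · exact kc_congr ((MulEquiv.subgroupCongr (MonoidHom.range_eq_top.mpr hf)).trans Subgroup.topEquiv)

/-- Blocks: the affine group is bounded by the product over the blocks. -/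
theorem kc_le_prod {ι : Type u} [Fintype ι] [Finite G] [Finite V] (ρ : G →* AddMonoid.End V)
    (hρ : Function.Injective ρ) (W : ι → AddSubgroup V) (hW : ∀ i, Inv ρ (W i)) (π : ∀ i, V →+ W i)
    (hπ : ∀ i g v, ((π i (ρ g v) : W i) : V) = ρ g (π i v : V))
    (hsep : ∀ v, (∀ i, π i v = 0) → v = 0) (hdiag : ∀ i (w : W i), π i (w : V) = w)
    (hoff : ∀ i j (w : W i), j ≠ i → π j (w : V) = 0) (b : ι → ℕ)
    (hb : ∀ i, ∀ C : Subgroup (res ρ (W i) (hW i)).toHomUnits.range, C.Normal →
      kc (Aff (((Units.coeHom (AddMonoid.End (W i))).comp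
        (res ρ (W i) (hW i)).toHomUnits.range.subtype).comp C.subtype)) ≤ b i) :
    kc (Aff ρ) ≤ ∏ i, b i := by
  classical
  let τ : ∀ i, (res ρ (W i) (hW i)).toHomUnits.range →* AddMonoid.End (W i) := fun i =>
    (Units.coeHom _).comp (res ρ (W i) (hW i)).toHomUnits.range.subtype
  let ψ : ∀ i, Aff ρ →* Aff (τ i) := fun i =>
    { toFun := fun x => ⟨Multiplicative.ofAdd (π i (Multiplicative.toAdd x.left)),
        ⟨(res ρ (W i) (hW i)).toHomUnits x.right, x.right, rfl⟩⟩
      map_one' := SemidirectProduct.ext (congrArg Multiplicative.ofAdd (map_zero _))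
        (Subtype.ext (map_one _))
      map_mul' := fun a c => SemidirectProduct.ext (congrArg Multiplicative.ofAdd (by
          show π i (Multiplicative.toAdd a.left + ρ a.right (Multiplicative.toAdd c.left)) =
            π i (Multiplicative.toAdd a.left) +
              res ρ (W i) (hW i) a.right (π i (Multiplicative.toAdd c.left))
          rw [map_add]
          congr 1
          exact Subtype.ext (hπ i _ _)))
        (Subtype.ext (map_mul _ _ _)) }
  haveI : ∀ i, Finite (res ρ (W i) (hW i)).toHomUnits.range := fun i =>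
    Finite.of_surjective _ (res ρ (W i) (hW i)).toHomUnits.rangeRestrict_surjective
  have hN : ∀ s : Finset ι, ∀ N : Subgroup (Aff ρ), N.Normal →
      (∀ x, x ∈ N ↔ ∀ i ∉ s, ψ i x = 1) → kc N ≤ ∏ i ∈ s, b i := by
    intro s
    induction s using Finset.induction_on with
    | empty =>
      intro N _ hN
      haveI : Subsingleton N := by
        refine ⟨fun x y => ?_⟩
        have h1 : ∀ z : N, (z : Aff ρ) = 1 := fun z => by
          have hz := fun i => (hN z).mp z.2 i (Finset.notMem_empty i)
          refine SemidirectProduct.ext ?_ ?_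
          · refine congrArg Multiplicative.ofAdd (hsep _ fun i => ?_)
            exact congrArg (fun y : Aff (τ i) => Multiplicative.toAdd y.left) (hz i)
          · refine hρ (ext_end fun v => ?_)
            rw [SemidirectProduct.one_right, map_one, OddBase.one_apply', ← sub_eq_zero]
            refine hsep _ fun i => ?_
            rw [map_sub, sub_eq_zero]
            refine Subtype.ext ?_
            rw [hπ]
            exact congrArg (fun y : Aff (τ i) =>
              (((y.right : (AddMonoid.End (W i))ˣ) : AddMonoid.End (W i)) (π i v) : V)) (hz i)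
        exact Subtype.ext ((h1 x).trans (h1 y).symm)
      rw [Finset.prod_empty]
      exact (kc_le_card N).trans (Finite.card_le_one_iff_subsingleton.mpr ‹_›)
    | insert a s ha ih =>
      intro N hNn hN
      rw [Finset.prod_insert ha, mul_comm]
      refine (kc_le_ker_mul_range ((ψ a).comp N.subtype)).trans (Nat.mul_le_mul ?_ ?_)
      · set N' := N ⊓ (ψ a).ker with hN'
        let e : ((ψ a).comp N.subtype).ker ≃* N' :=
          { toFun := fun x => ⟨((x : N) : Aff ρ), ⟨(x : N).2, x.2⟩⟩
            invFun := fun x => ⟨⟨(x : Aff ρ), x.2.1⟩, x.2.2⟩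
            left_inv := fun x => rfl
            right_inv := fun x => rfl
            map_mul' := fun x y => rfl }
        rw [kc_congr e]
        refine ih N' (Subgroup.normal_inf_normal _ _) fun x => ⟨fun hx i hi => ?_, fun hx => ⟨?_, ?_⟩⟩
        · by_cases hia : i = a
          · exact hia ▸ hx.2
          · exact (hN x).mp hx.1 i (by simp [hi, hia])
        · exact (hN x).mpr fun i hi => hx i fun h => hi (Finset.mem_insert_of_mem h)
        · exact hx a ha
      · set H := ((ψ a).comp N.subtype).range with hH
        have hcont : ∀ v, SemidirectProduct.inl v ∈ H := by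
          intro v
          have hm : (SemidirectProduct.inl (Multiplicative.ofAdd ((Multiplicative.toAdd v : W a) : V)) :
              Aff ρ) ∈ N := by
            refine (hN _).mpr fun i hi => SemidirectProduct.ext ?_ (Subtype.ext (map_one _))
            refine congrArg Multiplicative.ofAdd ?_
            show π i ((Multiplicative.toAdd v : W a) : V) = 0
            exact hoff a i _ fun e => hi (e ▸ Finset.mem_insert_self a s)
          refine ⟨⟨_, hm⟩, SemidirectProduct.ext ?_ (Subtype.ext (map_one _))⟩
          exact congrArg Multiplicative.ofAdd (hdiag a _)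
        rw [kc_of_contains _ H hcont]
        refine hb a _ ?_
        have hsurj : Function.Surjective
            ((SemidirectProduct.rightHom (φ := mact (τ a))).comp (ψ a)) := by
          rintro ⟨_, g, rfl⟩
          exact ⟨SemidirectProduct.inr g, rfl⟩
        haveI : (N.map ((SemidirectProduct.rightHom (φ := mact (τ a))).comp (ψ a))).Normal :=
          hNn.map _ hsurj
        have e : H.map (SemidirectProduct.rightHom (φ := mact (τ a))) =
            N.map ((SemidirectProduct.rightHom (φ := mact (τ a))).comp (ψ a)) := by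
          rw [hH, MonoidHom.range_comp, Subgroup.range_subtype, Subgroup.map_map]
        rw [e]; infer_instance
  have h := hN Finset.univ ⊤ inferInstance fun x =>
    ⟨fun _ i hi => absurd (Finset.mem_univ i) hi, fun _ => trivial⟩
  rwa [kc_congr Subgroup.topEquiv] at h

end CfsgLib.KR
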