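import Mathlib
import Cfsg.Agent.Lib.KR.Affine
import Cfsg.Agent.Lib.Fitting.Basic
import Cfsg.Prelude.Def_Solvable

/-!
The head of a faithful module of a solvable group without normal `p`-subgroup is faithful.
-/

set_option autoImplicit false
set_option linter.style.haveILetI false

namespace CfsgLib.KR

open CfsgLib.OddBase (Inv CR ext_end)

universe u

variable {H A : Type u} [Group H] [AddCommGroup A] (σ : H →* AddMonoid.End A)

/-- A maximal proper invariant subgroup. -/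
def IsMaxInv (M : AddSubgroup A) : Prop :=
  M ≠ ⊤ ∧ Inv σ M ∧ ∀ T, M ≤ T → Inv σ T → T = M ∨ T = ⊤

theorem exists_isMaxInv [Finite A] {C : AddSubgroup A} (hC : C ≠ ⊤) (hi : Inv σ C) :
    ∃ M, C ≤ M ∧ IsMaxInv σ M := by
  classical
  let S : Set (AddSubgroup A) := {M | C ≤ M ∧ M ≠ ⊤ ∧ Inv σ M}
  obtain ⟨M, hM⟩ := (Set.toFinite S).exists_maximal ⟨C, le_rfl, hC, hi⟩
  refine ⟨M, hM.1.1, hM.1.2.1, hM.1.2.2, fun T hMT hT => ?_⟩
  by_cases h : T = ⊤
  · exact Or.inr h
  · exact Or.inl (le_antisymm (hM.2 ⟨hM.1.1.trans hMT, h, hT⟩ hMT) hMT)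

/-- The intersection of the maximal invariant subgroups. -/
def radI : AddSubgroup A := ⨅ M ∈ {M | IsMaxInv σ M}, M

theorem mem_radI {x : A} : x ∈ radI σ ↔ ∀ M, IsMaxInv σ M → x ∈ M := by
  simp [radI, AddSubgroup.mem_iInf]

theorem radI_le {M : AddSubgroup A} (h : IsMaxInv σ M) : radI σ ≤ M :=
  fun _ hx => (mem_radI σ).mp hx M h

theorem inv_radI : Inv σ (radI σ) := fun g x hx =>
  (mem_radI σ).mpr fun M hM => hM.2.1 g x ((mem_radI σ).mp hx M hM)

theorem radI_complement [Finite A] {W : AddSubgroup A} (hW : Inv σ W) (hUW : radI σ ≤ W) :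
    ∃ S, radI σ ≤ S ∧ Inv σ S ∧ W ⊓ S = radI σ ∧ W ⊔ S = ⊤ := by
  classical
  let P : Set (AddSubgroup A) := {S | radI σ ≤ S ∧ Inv σ S ∧ W ⊔ S = ⊤}
  obtain ⟨S, hS⟩ := (Set.toFinite P).exists_minimal
    ⟨⊤, le_top, fun _ _ _ => AddSubgroup.mem_top _, sup_top_eq _⟩
  obtain ⟨h1, h2, h3⟩ := hS.1
  refine ⟨S, h1, h2, ?_, h3⟩
  refine le_antisymm (fun x hx => (mem_radI σ).mpr fun M hM => ?_) (le_inf hUW h1)
  by_contra hxM
  have hTM : M ⊔ (W ⊓ S) = ⊤ := (hM.2.2 _ le_sup_left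
    (OddBase.inv_sup σ hM.2.1 (OddBase.inv_inf σ hW h2))).resolve_left
    fun h => hxM (h ▸ AddSubgroup.mem_sup_right hx)
  have hS' : S ⊓ M ∈ P := by
    refine ⟨le_inf h1 (radI_le σ hM), OddBase.inv_inf σ h2 hM.2.1, ?_⟩
    refine top_le_iff.mp (h3.ge.trans (sup_le le_sup_left fun s hs => ?_))
    obtain ⟨m, hm, a, ha, rfl⟩ := AddSubgroup.mem_sup.mp (hTM ▸ AddSubgroup.mem_top s)
    refine add_mem (AddSubgroup.mem_sup_right ⟨?_, hm⟩) (AddSubgroup.mem_sup_left ha.1)
    have := sub_mem hs ha.2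
    simpa using this
  exact hxM (hS.2 hS' inf_le_left hx.2).2

theorem cr_of_head [Finite A] {B : Type u} [AddCommGroup B] (f : A →+ B) (hf : Function.Surjective f)
    (hker : f.ker = radI σ) (τ : H →* AddMonoid.End B) (hτ : ∀ g a, τ g (f a) = f (σ g a)) : CR τ := by
  intro U hU
  have hW : Inv σ (U.comap f) := fun g x hx => by
    show f (σ g x) ∈ U
    rw [← hτ]
    exact hU g _ hx
  obtain ⟨S, h1, h2, h3, h4⟩ := radI_complement σ hW (hker ▸ (f.ker_le_comap U))
  refine ⟨S.map f, ?_, ?_, ?_⟩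
  · rintro g _ ⟨x, hx, rfl⟩
    exact ⟨σ g x, h2 g x hx, (hτ g x).symm⟩
  · refine le_bot_iff.mp ?_
    rintro y ⟨hyU, x, hx, rfl⟩
    have : x ∈ f.ker := by rw [hker, ← h3]; exact ⟨hyU, hx⟩
    exact this
  · have h := congrArg (AddSubgroup.map f) h4
    rw [AddSubgroup.map_sup, AddSubgroup.map_comap_eq_self_of_surjective hf,
      AddSubgroup.map_top_of_surjective f hf] at h
    exact h

theorem injective_of_head [Finite H] [Finite A] {p : ℕ} [hp : Fact p.Prime] (hσ : Function.Injective σ)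
    (hexp : ∀ a : A, p • a = 0) (hH : Group.IsSolvable H) (hO : Cfsg.pCore p H = ⊥)
    {B : Type u} [AddCommGroup B] (f : A →+ B)
    (hker : f.ker = radI σ) (τ : H →* AddMonoid.End B) (hτ : ∀ g a, τ g (f a) = f (σ g a)) :
    Function.Injective τ := by
  classical
  rw [← MonoidHom.ker_eq_bot_iff]
  by_contra hK
  haveI := hH
  obtain ⟨L, hL⟩ := (Set.toFinite {N : Subgroup H | N.Normal ∧ N ≠ ⊥ ∧ N ≤ τ.ker}).exists_minimal
    ⟨τ.ker, inferInstance, hK, le_rfl⟩
  obtain ⟨hLn, hL0, hLK⟩ := hL.1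
  haveI := hLn
  have hlt : ⁅L, L⁆ < L := IsSolvable.commutator_lt_of_ne_bot hL0
  have hcomm : ∀ a ∈ L, ∀ b ∈ L, a * b = b * a := by
    have h0 : ⁅L, L⁆ = ⊥ := by
      by_contra h
      exact absurd (hL.2 ⟨Subgroup.commutator_normal L L, h, hlt.le.trans hLK⟩ hlt.le) (not_le_of_gt hlt)
    intro a ha b hb
    exact commutatorElement_eq_one_iff_mul_comm.mp
      (Subgroup.mem_bot.mp (h0 ▸ Subgroup.commutator_mem_commutator ha hb))
  have hcop : (Nat.card L).Coprime p := by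
    rw [Nat.coprime_comm, hp.out.coprime_iff_not_dvd]
    intro hdvd
    obtain ⟨x, hx⟩ := exists_prime_orderOf_dvd_card' p hdvd
    let P : Subgroup H :=
      { carrier := {y | y ∈ L ∧ ∃ k : ℕ, y ^ p ^ k = 1}
        one_mem' := ⟨one_mem _, 0, one_pow _⟩
        mul_mem' := by
          rintro a b ⟨ha, i, hi⟩ ⟨hb, j, hj⟩
          refine ⟨mul_mem ha hb, i + j, ?_⟩
          rw [(show Commute a b from hcomm a ha b hb).mul_pow, pow_add]
          rw [pow_mul a, hi, one_pow, mul_comm (p ^ i), pow_mul b, hj, one_pow, one_mul]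
        inv_mem' := by
          rintro a ⟨ha, i, hi⟩
          exact ⟨inv_mem ha, i, by rw [inv_pow, hi, inv_one]⟩ }
    have hPn : P.Normal := ⟨fun a ⟨ha, i, hi⟩ g => ⟨hLn.conj_mem a ha g, i, by
      rw [conj_pow, hi, mul_one, mul_inv_cancel]⟩⟩
    have hPp : IsPGroup p P := fun a => a.2.2.imp fun k hk => Subtype.ext hk
    have hxP : (x : H) ∈ P := ⟨x.2, 1, by
      rw [pow_one, ← Subgroup.coe_pow, ← hx, pow_orderOf_eq_one]; rfl⟩
    have := CfsgLib.Fitting.le_pCore hPn hPp hxP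
    rw [hO, Subgroup.mem_bot] at this
    replace this : x = 1 := Subtype.ext this
    rw [this, orderOf_one] at hx
    exact hp.out.ne_one hx.symm
  let C : AddSubgroup A :=
    { carrier := {a | ∀ l ∈ L, σ l a = a}
      add_mem' := fun {a b} ha hb l hl => by rw [map_add, ha l hl, hb l hl]
      zero_mem' := fun l _ => map_zero _
      neg_mem' := fun {a} ha l hl => by rw [map_neg, ha l hl] }
  have hCi : Inv σ C := fun g a ha l hl => by
    have h := ha (g⁻¹ * l * g) (by simpa using hLn.conj_mem l hl g⁻¹)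
    have h' := congrArg (σ g) h
    rwa [← OddBase.map_mul_apply, show g * (g⁻¹ * l * g) = l * g by group, OddBase.map_mul_apply] at h'
  have hC : C ≠ ⊤ := by
    intro h
    apply hL0
    rw [Subgroup.eq_bot_iff_forall]
    intro l hl
    refine hσ (ext_end fun a => ?_)
    rw [map_one]
    exact (h ▸ AddSubgroup.mem_top a : a ∈ C) l hl
  obtain ⟨M, hCM, hM⟩ := exists_isMaxInv σ hC hCi
  apply hM.1
  rw [AddSubgroup.eq_top_iff']
  intro a
  haveI : Fintype L := Fintype.ofFinite L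
  have hd : ∀ l : L, a - σ (l : H) a ∈ M := fun l => radI_le σ hM (by
    rw [← hker, AddMonoidHom.mem_ker, map_sub, ← hτ, MonoidHom.mem_ker.mp (hLK l.2)]
    exact sub_self _)
  have hsum : (∑ l : L, σ (l : H) a) ∈ C := fun m hm => by
    rw [map_sum]
    refine Fintype.sum_equiv (Equiv.mulLeft (⟨m, hm⟩ : L)) _ _ fun l => ?_
    exact (OddBase.map_mul_apply σ m l a).symm
  have hmul : Fintype.card L • a ∈ M := by
    have h := add_mem (hCM hsum) (sum_mem (t := Finset.univ) fun l _ => hd l)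
    rwa [← Finset.sum_add_distrib, Finset.sum_congr rfl (g := fun _ => a)
      (fun (l : L) _ => add_sub_cancel (σ (l : H) a) a), Finset.sum_const, Finset.card_univ] at h
  have hord : (addOrderOf a).Coprime (Fintype.card L) := by
    rw [← Nat.card_eq_fintype_card]
    exact hcop.symm.coprime_dvd_left (addOrderOf_dvd_of_nsmul_eq_zero (hexp a))
  obtain ⟨m, hm⟩ := exists_nsmul_eq_self_of_coprime hord.symm
  exact hm ▸ nsmul_mem hmul m

end CfsgLib.KR
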