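import Mathlib

/-!
Primitive idempotents of a reduced finite-dimensional commutative algebra.
-/

set_option autoImplicit false
set_option linter.style.haveILetI false

namespace CfsgLib.KR

/-- A nonzero idempotent above no other. -/
def IsPrimIdem {R : Type*} [CommRing R] (e : R) : Prop :=
  e * e = e ∧ e ≠ 0 ∧ ∀ f : R, f * f = f → e * f = f → f = 0 ∨ f = e

variable {F R : Type*} [Field F] [CommRing R] [Algebra F R] [FiniteDimensional F R]

theorem IsPrimIdem.mul_eq_zero {e f : R} (he : IsPrimIdem e) (hf : IsPrimIdem f) (h : e ≠ f) :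
    e * f = 0 := by
  have h2 : (e * f) * (e * f) = e * f := by rw [mul_mul_mul_comm, he.1, hf.1]
  rcases he.2.2 _ h2 (by rw [← mul_assoc, he.1]) with h0 | h1
  · exact h0
  rcases hf.2.2 _ h2 (by rw [mul_left_comm, hf.1]) with h0 | h1'
  · exact h0
  · exact absurd (h1.symm.trans h1') h

theorem linearIndependent_primIdem :
    LinearIndependent F (fun e : {e : R // IsPrimIdem e} => (e : R)) := by
  classical
  rw [linearIndependent_iff']
  intro s c hc i hi
  have h := congrArg ((i : R) * ·) hc
  simp only [Finset.mul_sum, mul_smul_comm, mul_zero] at h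
  rw [Finset.sum_eq_single i (fun j _ hj => by
    rw [i.2.mul_eq_zero j.2 fun e => hj (Subtype.ext e).symm, smul_zero])
    (fun hni => absurd hi hni), i.2.1] at h
  exact (smul_eq_zero.mp h).resolve_right i.2.2.1

include F in
theorem finite_primIdem : Finite {e : R // IsPrimIdem e} :=
  (linearIndependent_primIdem (F := F) (R := R)).finite

omit [FiniteDimensional F R] in
/-- The range of multiplication. -/
theorem range_mul_le {e f : R} (h : e * f = f) :
    LinearMap.range (LinearMap.mulLeft F f) ≤ LinearMap.range (LinearMap.mulLeft F e) := by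
  rintro _ ⟨x, rfl⟩
  exact ⟨f * x, by show e * (f * x) = f * x; rw [← mul_assoc, h]⟩

theorem exists_prim_below : ∀ (n : ℕ) (e : R), e * e = e → e ≠ 0 →
    Module.finrank F (LinearMap.range (LinearMap.mulLeft F e)) = n →
    ∃ f, IsPrimIdem f ∧ e * f = f := by
  intro n
  induction n using Nat.strong_induction_on with
  | _ n ih =>
  intro e he he0 hn
  by_cases hp : IsPrimIdem e
  · exact ⟨e, hp, he⟩
  obtain ⟨f, hf, hef, hf0, hfe⟩ : ∃ f, f * f = f ∧ e * f = f ∧ f ≠ 0 ∧ f ≠ e := by
    by_contra h
    push Not at h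
    exact hp ⟨he, he0, fun f h1 h2 => or_iff_not_imp_left.mpr (h f h1 h2)⟩
  have hlt : Module.finrank F (LinearMap.range (LinearMap.mulLeft F f)) < n := by
    rw [← hn]
    refine Submodule.finrank_lt_finrank_of_lt (lt_of_le_of_ne (range_mul_le hef) fun h => hfe ?_)
    obtain ⟨x, hx⟩ : e ∈ LinearMap.range (LinearMap.mulLeft F f) := h ▸ ⟨e, he⟩
    have hx' : f * x = e := hx
    calc f = e * f := hef.symm
      _ = f * f * x := by rw [← hx']; ring
      _ = e := by rw [hf, hx']
  obtain ⟨g, hg, hfg⟩ := ih _ hlt f hf hf0 rfl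
  exact ⟨g, hg, by rw [← hfg, ← mul_assoc, hef]⟩

include F in
theorem sum_primIdem [Fintype {e : R // IsPrimIdem e}] :
    ∑ e : {e : R // IsPrimIdem e}, (e : R) = 1 := by
  classical
  set s := ∑ e : {e : R // IsPrimIdem e}, (e : R) with hs
  have hmul : ∀ f : {e : R // IsPrimIdem e}, (f : R) * s = f := fun f => by
    rw [hs, Finset.mul_sum, Finset.sum_eq_single f (fun j _ hj =>
      f.2.mul_eq_zero j.2 fun e => hj (Subtype.ext e).symm) (by simp), f.2.1]
  have hss : s * s = s := by
    conv_lhs => arg 1; rw [hs]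
    rw [Finset.sum_mul]
    exact Finset.sum_congr rfl fun f _ => hmul f
  by_contra hne
  obtain ⟨f, hf, hff⟩ := exists_prim_below (F := F) _ (1 - s)
    (by ring_nf; rw [show s ^ 2 = s by rw [pow_two, hss]]; ring)
    (fun h => hne (sub_eq_zero.mp h).symm) rfl
  refine hf.2.1 ?_
  rw [← hff, sub_mul, one_mul, mul_comm s, hmul ⟨f, hf⟩, sub_self]

include F in
/-- A reduced algebra without idempotents is a field. -/
theorem isField_of_trivial_idem [IsReduced R] [Nontrivial R]
    (h : ∀ e : R, e * e = e → e = 0 ∨ e = 1) : IsField R := by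
  refine ⟨exists_pair_ne R, mul_comm, fun {x} hx => ?_⟩
  set W := LinearMap.range (LinearMap.mulLeft F x)
  let μ : W →ₗ[F] W := (LinearMap.mulLeft F x).restrict fun w _ => ⟨w, rfl⟩
  have hinj : Function.Injective μ := by
    rw [← LinearMap.ker_eq_bot, Submodule.eq_bot_iff]
    rintro ⟨w, y, rfl⟩ hw
    have hw' : x * (x * y) = 0 := congrArg Subtype.val (LinearMap.mem_ker.mp hw)
    refine Subtype.ext (IsReduced.eq_zero _ ⟨2, ?_⟩)
    show (x * y) ^ 2 = 0
    calc (x * y) ^ 2 = x * (x * y) * y := by ring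
      _ = 0 := by rw [hw', zero_mul]
  obtain ⟨⟨w, z, rfl⟩, hz⟩ := LinearMap.surjective_of_injective hinj ⟨x * 1, 1, rfl⟩
  have hz' : x * (x * z) = x := (congrArg Subtype.val hz).trans (mul_one x)
  rcases h (x * z) (by rw [← mul_assoc, mul_comm (x * z) x, hz']) with e | e
  · exact absurd (by rw [← hz', e, mul_zero]) hx
  · exact ⟨z, e⟩

end CfsgLib.KR
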