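import Mathlib

/-!
Isometries of a binary alternating space commuting with a fixed-point-free element of order three.
-/

set_option autoImplicit false
set_option linter.style.haveILetI false

namespace CfsgLib.KR

/-- The number of vectors of norm one. -/
def normCount : ℕ → ℕ
  | 0 => 0
  | d + 1 => normCount d + 3 * (4 ^ d - normCount d)

/-- The bound for the centralizer. -/
def centBound : ℕ → ℕ
  | 0 => 1
  | d + 1 => normCount (d + 1) * centBound d

theorem zmod_two (a : ZMod 2) : a = 0 ∨ a = 1 := by revert a; decide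

variable {V : Type*} [AddCommGroup V] [Module (ZMod 2) V] [Finite V]
  (B : LinearMap.BilinForm (ZMod 2) V) (x : V ≃ₗ[ZMod 2] V)

theorem card_norm_plane :
    Nat.card {t : ZMod 2 × ZMod 2 // t.1 + t.1 * t.2 + t.2 = 1} = 3 := by
  rw [Nat.card_eq_fintype_card]; decide

theorem count (hA : B.IsAlt) (hxB : ∀ u v, B (x u) (x v) = B u v)
    (hx : ∀ v, x (x v) + x v + v = 0) :
    ∀ (d : ℕ) (W : Submodule (ZMod 2) V), (∀ w ∈ W, x w ∈ W) →
      (∀ w ∈ W, (∀ u ∈ W, B w u = 0) → w = 0) → Nat.card W = 4 ^ d →
      Nat.card {v : W // B v (x v) = 1} = normCount d ∧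
      ∀ G : Subgroup (V ≃ₗ[ZMod 2] V), (∀ g ∈ G, ∀ u v, B (g u) (g v) = B u v) →
        (∀ g ∈ G, ∀ v, g (x v) = x (g v)) → (∀ g ∈ G, ∀ w ∈ W, g w ∈ W) →
        (∀ g ∈ G, ∀ v, (∀ w ∈ W, B w v = 0) → g v = v) → Nat.card G ≤ centBound d := by
  classical
  intro d
  induction d with
  | zero =>
    intro W _ _ hcard
    haveI : Subsingleton W := (Nat.card_eq_one_iff_unique.mp (by simpa using hcard)).1
    refine ⟨?_, fun G _ _ _ hfix => ?_⟩
    · rw [normCount]
      refine Nat.card_eq_zero.mpr (Or.inl ⟨fun v => ?_⟩)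
      have h := v.2
      rw [show ((v : W) : V) = 0 from congrArg Subtype.val (Subsingleton.elim (v : W) 0)] at h
      simp at h
    · haveI : Subsingleton G := ⟨fun a b => by
        have h : ∀ g : G, (g : V ≃ₗ[ZMod 2] V) = LinearEquiv.refl _ _ := fun g =>
          LinearEquiv.ext fun v => hfix g g.2 v fun w hw => by
            rw [show w = 0 from congrArg Subtype.val (Subsingleton.elim (⟨w, hw⟩ : W) 0)]
            simp
        exact Subtype.ext ((h a).trans (h b).symm)⟩
      exact Finite.card_le_one_iff_subsingleton.mpr ‹_›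
  | succ d ih =>
    intro W hW hnd hcard
    have hsym : ∀ u v, B u v = B v u := fun u v => by
      rw [← hA.neg_eq v u, ZModModule.neg_eq_self]
    have hx2 : ∀ v, x (x v) = x v + v := fun v => by
      have h := hx v
      rw [add_assoc] at h
      exact (eq_neg_of_add_eq_zero_left h).trans (ZModModule.neg_eq_self _)
    -- the polar form of the norm is the form itself
    have hpol : ∀ u v, B u (x v) + B v (x u) = B u v := fun u v => by
      rw [hsym v (x u), ← hxB (x u) v, hx2, map_add, LinearMap.add_apply, hxB]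
      generalize B u (x v) = a
      generalize B u v = b
      revert a b; decide
    have hQ : ∀ u v, B (u + v) (x (u + v)) = B u (x u) + B v (x v) + B u v := fun u v => by
      rw [map_add, map_add, LinearMap.add_apply, map_add, map_add, ← hpol u v]
      ring
    obtain ⟨a, haW, ha⟩ : ∃ a ∈ W, B a (x a) = 1 := by
      by_contra h
      push Not at h
      have h0 : ∀ w ∈ W, B w (x w) = 0 := fun w hw => (zmod_two _).resolve_right (h w hw)
      have hbot : ∀ w ∈ W, w = 0 := fun w hw => hnd w hw fun u hu => by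
        have := hQ w u
        rw [h0 _ (W.add_mem hw hu), h0 w hw, h0 u hu, add_zero, zero_add] at this
        exact this.symm
      haveI : Subsingleton W := ⟨fun u v => Subtype.ext ((hbot u u.2).trans (hbot v v.2).symm)⟩
      rw [Nat.card_of_subsingleton (0 : W)] at hcard
      exact absurd hcard (ne_of_lt (Nat.one_lt_pow d.succ_ne_zero (by norm_num)))
    have hxa : B (x a) a = 1 := (hsym _ _).trans ha
    have hL : ∀ (s t : ZMod 2), s • a + t • x a ∈ W := fun s t =>
      W.add_mem (W.smul_mem _ haW) (W.smul_mem _ (hW a haW))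
    let W' : Submodule (ZMod 2) V := W ⊓ LinearMap.ker (B a) ⊓ LinearMap.ker (B (x a))
    have hmem : ∀ w, w ∈ W' ↔ w ∈ W ∧ B a w = 0 ∧ B (x a) w = 0 := fun w => by
      simp [W', and_assoc]
    let proj : V → V := fun v => v - (B (x a) v • a + B a v • x a)
    have hproj : ∀ v, B a (proj v) = 0 ∧ B (x a) (proj v) = 0 := fun v => by
      constructor <;> simp [proj, hA.self_eq_zero, ha, hxa]
    have hprojW : ∀ v ∈ W, proj v ∈ W' := fun v hv =>
      (hmem _).mpr ⟨W.sub_mem hv (hL _ _), hproj v⟩
    let e : W ≃ (ZMod 2 × ZMod 2) × W' :=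
      { toFun := fun v => ((B (x a) v, B a v), ⟨proj v, hprojW v v.2⟩)
        invFun := fun q => ⟨q.1.1 • a + q.1.2 • x a + q.2, W.add_mem (hL _ _) ((hmem _).mp q.2.2).1⟩
        left_inv := fun v => Subtype.ext (by simp [proj])
        right_inv := fun q => by
          obtain ⟨⟨s, t⟩, w, hw⟩ := q
          obtain ⟨-, h1, h2⟩ := (hmem w).mp hw
          refine Prod.ext (Prod.ext ?_ ?_) (Subtype.ext ?_)
          · simp [hA.self_eq_zero, hxa, h2]
          · simp [hA.self_eq_zero, ha, h1]
          · simp [proj, hA.self_eq_zero, ha, hxa, h1, h2] }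
    have hW' : ∀ w ∈ W', x w ∈ W' := fun w hw => by
      obtain ⟨h0, h1, h2⟩ := (hmem w).mp hw
      refine (hmem _).mpr ⟨hW w h0, ?_, by rw [hxB, h1]⟩
      have h3 : a = x (x a) + x a := by
        rw [hx2, add_right_comm, ZModModule.add_self, zero_add]
      rw [h3, map_add, LinearMap.add_apply, hxB, hxB, h1, h2, add_zero]
    have hnd' : ∀ w ∈ W', (∀ u ∈ W', B w u = 0) → w = 0 := fun w hw h => by
      obtain ⟨h0, h1, h2⟩ := (hmem w).mp hw
      refine hnd w h0 fun u hu => ?_
      have h3 := h _ (hprojW u hu)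
      simpa [proj, hsym w a, hsym w (x a), h1, h2] using h3
    have hcard' : Nat.card W' = 4 ^ d := by
      have h := Nat.card_congr e
      rw [hcard, Nat.card_prod, Nat.card_prod, Nat.card_zmod, pow_succ] at h
      omega
    obtain ⟨hN, hG⟩ := ih W' hW' hnd' hcard'
    -- the count
    have hQe : ∀ v : W, B v (x v) = (e v).1.1 + (e v).1.1 * (e v).1.2 + (e v).1.2 +
        B ((e v).2 : V) (x ((e v).2 : V)) := fun v => by
      obtain ⟨⟨⟨s, t⟩, w, hw⟩, rfl⟩ := e.symm.surjective v
      rw [e.apply_symm_apply]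
      obtain ⟨-, h1, h2⟩ := (hmem w).mp hw
      show B (s • a + t • x a + w) (x (s • a + t • x a + w)) = _
      rw [hQ, hQ]
      simp [ha, h1, h2, hxB, hA.self_eq_zero, mul_comm]
      generalize B w (x w) = q
      revert s t q; decide
    have hcount : Nat.card {v : W // B v (x v) = 1} = normCount (d + 1) := by
      rw [Nat.card_congr (Equiv.subtypeEquiv e (q := fun q : (ZMod 2 × ZMod 2) × W' =>
        q.1.1 + q.1.1 * q.1.2 + q.1.2 + B (q.2 : V) (x (q.2 : V)) = 1) fun v => by rw [hQe])]
      have hsplit : Nat.card {q : (ZMod 2 × ZMod 2) × W' //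
          q.1.1 + q.1.1 * q.1.2 + q.1.2 + B (q.2 : V) (x (q.2 : V)) = 1} =
          Nat.card {w : W' // B w (x w) = 1} * 1 + Nat.card {w : W' // ¬ B w (x w) = 1} * 3 := by
        rw [← card_norm_plane,
          show (1 : ℕ) = Nat.card {t : ZMod 2 × ZMod 2 // t.1 + t.1 * t.2 + t.2 = 0} by
            rw [Nat.card_eq_fintype_card]; decide,
          ← Nat.card_prod, ← Nat.card_prod, ← Nat.card_sum]
        exact Nat.card_congr
          { toFun := fun q => if h : B (q.1.2 : V) (x (q.1.2 : V)) = 1 then
                Sum.inl (⟨q.1.2, h⟩, ⟨q.1.1, by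
                  have := q.2; rw [h] at this; revert this; generalize q.1.1 = t; revert t; decide⟩)
              else Sum.inr (⟨q.1.2, h⟩, ⟨q.1.1, by
                  have := q.2
                  rw [(zmod_two _).resolve_right h, add_zero] at this
                  exact this⟩)
            invFun := fun s => Sum.elim
              (fun r => ⟨(r.2.1, r.1.1), by rw [r.2.2, r.1.2, zero_add]⟩)
              (fun r => ⟨(r.2.1, r.1.1), by rw [r.2.2, (zmod_two _).resolve_right r.1.2, add_zero]⟩) s
            left_inv := fun q => by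
              dsimp only
              split_ifs <;> rfl
            right_inv := fun s => by
              rcases s with r | r <;> dsimp only [Sum.elim_inl, Sum.elim_inr]
              · rw [dif_pos r.1.2]
              · rw [dif_neg r.1.2] }
      have htot : Nat.card {w : W' // B w (x w) = 1} + Nat.card {w : W' // ¬ B w (x w) = 1} = 4 ^ d := by
        rw [← Nat.card_sum, ← hcard']
        exact Nat.card_congr (Equiv.sumCompl _)
      rw [hsplit, hN, normCount]
      omega
    refine ⟨hcount, fun G hGB hGx hGW hGfix => ?_⟩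
    let S : Subgroup (V ≃ₗ[ZMod 2] V) :=
      { carrier := {g | g ∈ G ∧ g a = a}
        one_mem' := ⟨G.one_mem, rfl⟩
        mul_mem' := fun {g h} hg hh => ⟨G.mul_mem hg.1 hh.1, (congrArg g hh.2).trans hg.2⟩
        inv_mem' := fun {g} hg => ⟨G.inv_mem hg.1, by
          show g.symm a = a
          exact g.symm_apply_eq.mpr hg.2.symm⟩ }
    have hSG : S ≤ G := fun g hg => hg.1
    have hS : Nat.card S ≤ centBound d := by
      refine hG S (fun g hg => hGB g hg.1) (fun g hg => hGx g hg.1) (fun g hg w hw => ?_)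
        (fun g hg v hv => ?_)
      · obtain ⟨h0, h1, h2⟩ := (hmem w).mp hw
        have hgxa : g (x a) = x a := by rw [hGx g hg.1, hg.2]
        refine (hmem _).mpr ⟨hGW g hg.1 w h0, ?_, ?_⟩
        · rw [← hg.2, hGB g hg.1, h1]
        · rw [← hgxa, hGB g hg.1, h2]
      · have hgxa : g (x a) = x a := by rw [hGx g hg.1, hg.2]
        have hp : g (proj v) = proj v := hGfix g hg.1 _ fun u hu => by
          have hu' : u = (B (x a) u • a + B a u • x a) + proj u := by simp [proj]
          obtain ⟨h1, h2⟩ := hproj v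
          have h3 : B (proj u) (proj v) = 0 := by
            obtain ⟨-, h4, h5⟩ := (hmem _).mp (hprojW u hu)
            show B (proj u) (v - (B (x a) v • a + B a v • x a)) = 0
            rw [map_sub, map_add, map_smul, map_smul, hv _ (hprojW u hu), hsym (proj u) a,
              hsym (proj u) (x a), h4, h5, smul_zero, smul_zero, add_zero, sub_zero]
          rw [hu', map_add, map_add, LinearMap.add_apply, LinearMap.add_apply, map_smul, map_smul,
            LinearMap.smul_apply, LinearMap.smul_apply, h1, h2, h3, smul_zero, smul_zero, add_zero,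
            add_zero]
        have hv' : v = (B (x a) v • a + B a v • x a) + proj v := by simp [proj]
        rw [hv', map_add, map_add, map_smul, map_smul, hg.2, hgxa, hp]
    haveI : Finite (V ≃ₗ[ZMod 2] V) := Finite.of_injective (fun g => (g : V → V)) DFunLike.coe_injective
    have hidx : (S.subgroupOf G).index ≤ normCount (d + 1) := by
      rw [← hcount]
      refine Nat.card_le_card_of_injective (Quotient.lift
        (fun g : G => (⟨⟨(g : V ≃ₗ[ZMod 2] V) a, hGW g g.2 a haW⟩, by
          show B ((g : V ≃ₗ[ZMod 2] V) a) (x ((g : V ≃ₗ[ZMod 2] V) a)) = 1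
          rw [← hGx g g.2, hGB g g.2, ha]⟩ : {v : W // B v (x v) = 1})) fun g h hgh => ?_) ?_
      · have h' : ((g⁻¹ * h : G) : V ≃ₗ[ZMod 2] V) a = a :=
          (Subgroup.mem_subgroupOf.mp (QuotientGroup.leftRel_apply.mp hgh)).2
        refine Subtype.ext (Subtype.ext ?_)
        have h2 := congrArg (g : V ≃ₗ[ZMod 2] V) h'
        refine h2.symm.trans ?_
        show (g : V ≃ₗ[ZMod 2] V) ((g : V ≃ₗ[ZMod 2] V).symm ((h : V ≃ₗ[ZMod 2] V) a)) = _
        simp
      · rintro ⟨g⟩ ⟨h⟩ e'
        have e1 : (g : V ≃ₗ[ZMod 2] V) a = (h : V ≃ₗ[ZMod 2] V) a :=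
          congrArg (fun v : {v : W // B v (x v) = 1} => ((v : W) : V)) e'
        refine Quotient.sound (QuotientGroup.leftRel_apply.mpr (Subgroup.mem_subgroupOf.mpr
          ⟨(g⁻¹ * h : G).2, ?_⟩))
        show (g : V ≃ₗ[ZMod 2] V).symm ((h : V ≃ₗ[ZMod 2] V) a) = a
        rw [← e1]; simp
    rw [← (S.subgroupOf G).card_mul_index, Nat.card_congr (Subgroup.subgroupOfEquivOfLe hSG).toEquiv,
      mul_comm]
    exact Nat.mul_le_mul hidx hS

end CfsgLib.KR
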