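import Mathlib
import Cfsg.Agent.Lib.KR.Basic
import Cfsg.Agent.Lib.Classical.SympTrans
import Cfsg.Agent.Lib.Classical.Forms
import Cfsg.Agent.Lib.FormRep.Symplectic
import Cfsg.Agent.S0245

/-!
Class numbers for the small symplectic groups.
-/

set_option autoImplicit false
set_option linter.style.haveILetI false

namespace CfsgLib.KR

open Matrix

/-- A group permuting three points has at most three classes in every subgroup. -/
theorem cb_of_three {G : Type*} [Group G] [Finite G] {β : Type*} [Finite β] (hβ : Nat.card β ≤ 3)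
    (f : G →* Equiv.Perm β) (hf : Function.Injective f) : Cb G 3 := by
  rcases Nat.lt_or_ge (Nat.card β) 3 with h | h
  · refine Cb.of_card ((Nat.card_le_card_of_injective f hf).trans ?_)
    rw [Nat.card_perm]
    interval_cases (Nat.card β) <;> decide
  refine Cb.of_injective (H := Equiv.Perm (Fin 3)) ?_
    ((Equiv.permCongrHom (Finite.equivFinOfCardEq (le_antisymm hβ h))).toMonoidHom.comp f)
    ((Equiv.permCongrHom _).injective.comp hf)
  intro Y
  have hY : Nat.card Y ∣ 6 := by
    have h6 : Nat.card (Equiv.Perm (Fin 3)) = 6 := by rw [Nat.card_perm, Nat.card_fin]; rfl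
    exact h6 ▸ Subgroup.card_subgroup_dvd_card Y
  by_cases h3 : Nat.card Y ≤ 3
  · exact (kc_le_card Y).trans h3
  have h6 : Nat.card Y = 6 := by
    have := Nat.le_of_dvd (by norm_num) hY
    interval_cases (Nat.card Y) <;> omega
  have htop : Y = ⊤ := Subgroup.eq_top_of_card_eq Y (by rw [h6, Nat.card_perm, Nat.card_fin]; rfl)
  subst htop
  have hb := kc_le_five_eighths (G := (⊤ : Subgroup (Equiv.Perm (Fin 3)))) fun hc => by
    have h1 := congrArg Subtype.val
      (hc ⟨Equiv.swap 0 1, trivial⟩ ⟨Equiv.swap 1 2, trivial⟩)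
    revert h1
    decide
  omega

theorem sl2_three_central :
    (Finset.univ.filter fun x : SpecialLinearGroup (Fin 2) (ZMod 3) =>
      6 < (Finset.univ.filter fun y : SpecialLinearGroup (Fin 2) (ZMod 3) => x * y = y * x).card).card
      ≤ 2 := by
  decide +kernel

/-- Every subgroup of `SL(2, 3)` has at most eight classes. -/
theorem cb_sl2_three : Cb (SpecialLinearGroup (Fin 2) (ZMod 3)) 8 := by
  classical
  intro Y
  haveI : Fintype Y := Fintype.ofFinite Y
  let big : SpecialLinearGroup (Fin 2) (ZMod 3) → Prop := fun x =>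
    6 < (Finset.univ.filter fun y : SpecialLinearGroup (Fin 2) (ZMod 3) => x * y = y * x).card
  have hb := kc_mul_card_le (fun y : Y => if big y then Nat.card Y else 6) fun y => by
    split_ifs with h
    · exact Subgroup.card_le_card_group _
    · refine le_trans ?_ (not_lt.mp h)
      rw [← Nat.card_eq_finsetCard]
      refine Nat.card_le_card_of_injective (fun z => ⟨((z : Y) : SpecialLinearGroup (Fin 2) (ZMod 3)),
        Finset.mem_filter.mpr ⟨Finset.mem_univ _,
          (congrArg Subtype.val (Subgroup.mem_centralizer_singleton_iff.mp z.2)).symm⟩⟩) fun a b e => ?_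
      exact Subtype.ext (Subtype.ext (congrArg Subtype.val e :))
  rw [Finset.sum_ite, Finset.sum_const, Finset.sum_const, smul_eq_mul, smul_eq_mul] at hb
  have h2 : (Finset.univ.filter fun y : Y => big y).card ≤ 2 := by
    refine le_trans ?_ sl2_three_central
    exact Finset.card_le_card_of_injOn (fun y => (y : SpecialLinearGroup (Fin 2) (ZMod 3)))
      (fun y hy => Finset.mem_filter.mpr ⟨Finset.mem_univ _, (Finset.mem_filter.mp hy).2⟩)
      (fun a _ b _ e => Subtype.ext e)
  have h3 : (Finset.univ.filter fun y : Y => ¬ big y).card ≤ Nat.card Y := by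
    rw [Nat.card_eq_fintype_card]; exact Finset.card_le_univ _
  refine Nat.le_of_mul_le_mul_right (hb.trans ?_) Nat.card_pos
  nlinarith [Nat.mul_le_mul_right (Nat.card Y) h2]

section Matrix

variable {p : ℕ} [Fact p.Prime] {V : Type*} [AddCommGroup V] [Module (ZMod p) V]
  {X : Type*} [Group X] (ρ : X →* (V ≃ₗ[ZMod p] V)) {B : LinearMap.BilinForm (ZMod p) V} {m : ℕ}

/-- A group preserving a form with a symplectic basis sits in the matrix symplectic group. -/
theorem exists_symp_hom (hB : ∀ g x y, B (ρ g x) (ρ g y) = B x y) (hA : B.IsAlt)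
    (b : Module.Basis (Fin m ⊕ Fin m) (ZMod p) V)
    (h1 : ∀ i j : Fin m, B (b (.inl i)) (b (.inr j)) = if i = j then 1 else 0)
    (h2 : ∀ i j : Fin m, B (b (.inl i)) (b (.inl j)) = 0)
    (h3 : ∀ i j : Fin m, B (b (.inr i)) (b (.inr j)) = 0) (hρ : Function.Injective ρ) :
    ∃ f : X →* Matrix.symplecticGroup (Fin m) (ZMod p), Function.Injective f := by
  have h4 : ∀ i j : Fin m, B (b (.inr i)) (b (.inl j)) = if j = i then -1 else 0 := fun i j => by
    rw [← hA.neg_eq, h1]; split_ifs <;> simp
  have hform : ∀ x y : V, B x y = -Cfsg.sympForm m (ZMod p) (b.equivFun x) (b.equivFun y) := by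
    intro x y
    conv_lhs => rw [← b.sum_equivFun x, ← b.sum_equivFun y]
    generalize b.equivFun x = u
    generalize b.equivFun y = v
    rw [Cfsg.sympForm]
    simp [map_sum, Fintype.sum_sum_type, h1, h2, h3, h4, Matrix.J, Matrix.fromBlocks_mulVec, dotProduct, Matrix.neg_mulVec, Matrix.one_mulVec, mul_neg,
      Finset.sum_add_distrib, Finset.mul_sum]
    ring
  let M : X → Matrix (Fin m ⊕ Fin m) (Fin m ⊕ Fin m) (ZMod p) := fun g =>
    LinearMap.toMatrix b b (ρ g : V →ₗ[ZMod p] V)
  have happ : ∀ g x, M g *ᵥ b.equivFun x = b.equivFun (ρ g x) := fun g x =>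
    LinearMap.toMatrix_mulVec_repr b b _ x
  have hmem : ∀ g, M g ∈ Matrix.symplecticGroup (Fin m) (ZMod p) := fun g => by
    rw [CfsgLib.Classical.SympTrans.mem_iff_f]
    intro u v
    obtain ⟨x, rfl⟩ := b.equivFun.surjective u
    obtain ⟨y, rfl⟩ := b.equivFun.surjective v
    rw [happ, happ]
    exact neg_injective ((hform _ _).symm.trans ((hB g x y).trans (hform _ _)))
  refine ⟨{ toFun := fun g => ⟨M g, hmem g⟩
            map_one' := Subtype.ext ?_
            map_mul' := fun g h => Subtype.ext ?_ }, fun g h e => hρ (LinearEquiv.ext fun x => ?_)⟩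
  · show M 1 = 1
    simp only [M, map_one]
    exact LinearMap.toMatrix_one b
  · show M (g * h) = M g * M h
    simp only [M, map_mul]
    exact LinearMap.toMatrix_mul b _ _
  · have h' : M g = M h := congrArg Subtype.val e
    apply b.equivFun.injective
    rw [← happ, ← happ, h']

/-- A group preserving a form with a symplectic pair sits in `SL(2, p)`. -/
theorem exists_sl2_hom (hB : ∀ g x y, B (ρ g x) (ρ g y) = B x y) (hA : B.IsAlt)
    (b : Module.Basis (Fin 2) (ZMod p) V) (h1 : B (b 0) (b 1) = 1) (hρ : Function.Injective ρ) :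
    ∃ f : X →* SpecialLinearGroup (Fin 2) (ZMod p), Function.Injective f := by
  have h10 : B (b 1) (b 0) = -1 := by rw [← hA.neg_eq, h1]
  have hdet : ∀ g, (LinearMap.toMatrix b b (ρ g : V →ₗ[ZMod p] V)).det = 1 := fun g => by
    have h := hB g (b 0) (b 1)
    rw [h1, ← b.sum_repr (ρ g (b 0)), ← b.sum_repr (ρ g (b 1)), Fin.sum_univ_two, Fin.sum_univ_two] at h
    simp only [map_add, map_smul, LinearMap.add_apply, LinearMap.smul_apply, hA.self_eq_zero, h1, h10,
      smul_eq_mul, mul_zero, mul_one, mul_neg, add_zero, zero_add] at h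
    rw [Matrix.det_fin_two, LinearMap.toMatrix_apply, LinearMap.toMatrix_apply, LinearMap.toMatrix_apply,
      LinearMap.toMatrix_apply]
    simp only [LinearEquiv.coe_coe]
    linear_combination h
  refine ⟨{ toFun := fun g => ⟨_, hdet g⟩
            map_one' := Subtype.ext ?_
            map_mul' := fun g h => Subtype.ext ?_ }, fun g h e => hρ ?_⟩
  · show LinearMap.toMatrix b b _ = 1
    rw [map_one]
    exact LinearMap.toMatrix_one b
  · show LinearMap.toMatrix b b _ = LinearMap.toMatrix b b _ * LinearMap.toMatrix b b _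
    rw [map_mul]
    exact LinearMap.toMatrix_mul b _ _
  · exact LinearEquiv.toLinearMap_injective ((LinearMap.toMatrix b b).injective (congrArg Subtype.val e))

end Matrix

/-- A solvable group inside a perfect symplectic group is small. -/
theorem card_le_of_index {m q : ℕ} [Fact q.Prime] (hm : 1 ≤ m)
    (hperf : commutator (Matrix.symplecticGroup (Fin m) (ZMod q)) = ⊤) {n : ℕ}
    (hn : (n - 1).factorial * q < Nat.card (Matrix.symplecticGroup (Fin m) (ZMod q)))
    (X : Subgroup (Matrix.symplecticGroup (Fin m) (ZMod q))) (hX : Group.IsSolvable X) :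
    n * Nat.card X ≤ Nat.card (Matrix.symplecticGroup (Fin m) (ZMod q)) := by
  classical
  haveI := hX
  set G := Matrix.symplecticGroup (Fin m) (ZMod q)
  rw [← X.card_mul_index, mul_comm n]
  refine Nat.mul_le_mul_left _ ?_
  by_contra hlt
  push Not at hlt
  have hK : X.normalCore ≤ Subgroup.center G := by
    rcases CfsgLib.Classical.SympTrans.commutator_le_or_le_center X.normalCore with h | h
    · exact h
    · rw [hperf, top_le_iff] at h
      have htop : X = ⊤ := top_le_iff.mp (h ▸ X.normalCore_le)
      exfalso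
      obtain ⟨v, hv⟩ := CfsgLib.Classical.SympTrans.T_notMem_center (F := ZMod q) (m := m) hm
      have hsol : Group.IsSolvable G := Group.isSolvable_of_surjective
        (show Function.Surjective X.subtype from fun g => ⟨⟨g, htop ▸ Subgroup.mem_top g⟩, rfl⟩)
      haveI : Nontrivial G := ⟨⟨CfsgLib.Classical.SympTrans.T v 1, 1, fun e => hv (by
        rw [e]; exact one_mem _)⟩⟩
      exact (Group.IsSolvable.commutator_lt_top_of_nontrivial G).ne hperf
  have hKc : Nat.card X.normalCore ≤ q := by
    have hc : ∀ g : G, g ∈ X.normalCore →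
        ∃ c : ZMod q, (g : Matrix (Fin m ⊕ Fin m) (Fin m ⊕ Fin m) (ZMod q)) = c • 1 := fun g hg =>
      (CfsgLib.FormRep.Symplectic.center_iff g).mp (hK hg)
    choose c hc using hc
    refine (Nat.card_le_card_of_injective (fun g : X.normalCore => c g g.2) fun a b e => ?_).trans
      (le_of_eq (Nat.card_zmod q))
    have e' : c a a.2 = c b b.2 := e
    exact Subtype.ext (Subtype.ext (by rw [hc a a.2, hc b b.2, e']))
  have hidx : X.normalCore.index ≤ (n - 1).factorial := by
    rw [Subgroup.normalCore_eq_ker, Subgroup.index_ker]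
    refine (Subgroup.card_le_card_group _).trans ?_
    rw [Nat.card_perm, ← Subgroup.index_eq_card]
    exact Nat.factorial_le (by omega)
  have := Nat.mul_le_mul hKc hidx
  rw [Subgroup.card_mul_index, mul_comm q] at this
  exact absurd hn (not_lt.mpr this)

instance : Fact (Nat.Prime 5) := ⟨Nat.prime_five⟩

theorem card_sp_one_five : Nat.card (Matrix.symplecticGroup (Fin 1) (ZMod 5)) = 120 := by
  rw [Cfsg.Agent.S0245.result (ZMod.card 5) 1]
  decide

theorem card_sp_two_three : Nat.card (Matrix.symplecticGroup (Fin 2) (ZMod 3)) = 51840 := by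
  rw [Cfsg.Agent.S0245.result (ZMod.card 3) 2]
  decide

theorem card_solvable_sp_one_five
    (X : Subgroup (Matrix.symplecticGroup (Fin 1) (ZMod 5))) (hX : Group.IsSolvable X) :
    Nat.card X ≤ 60 := by
  have h := card_le_of_index (m := 1) (q := 5) (n := 2) le_rfl
    (CfsgLib.Classical.SympTrans.commutator_of_card (Or.inr (Or.inr (by rw [Nat.card_zmod]; norm_num))))
    (by rw [card_sp_one_five]; norm_num [Nat.factorial]) X hX
  rw [card_sp_one_five] at h
  exact Nat.le_of_mul_le_mul_left (h.trans_eq (by norm_num : 120 = 2 * 60)) two_pos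

theorem card_solvable_sp_two_three
    (X : Subgroup (Matrix.symplecticGroup (Fin 2) (ZMod 3))) (hX : Group.IsSolvable X) :
    Nat.card X ≤ 6561 := by
  have h := card_le_of_index (m := 2) (q := 3) (n := 8) (by norm_num)
    (CfsgLib.Classical.SympTrans.commutator_of_card
      (Or.inr (Or.inl ⟨rfl, by rw [Nat.card_zmod]⟩)))
    (by rw [card_sp_two_three]; norm_num [Nat.factorial]) X hX
  rw [card_sp_two_three] at h
  exact Nat.le_of_mul_le_mul_left (h.trans (by norm_num : 51840 ≤ 8 * 6561)) (by norm_num)

end CfsgLib.KR
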