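import Mathlib
import Cfsg.Agent.Lib.KR.Basic
import Cfsg.Agent.Lib.SolBase.Main

/-!
Solvable groups on symplectic spaces: the general tools.
-/

set_option autoImplicit false
set_option linter.style.haveILetI false

namespace CfsgLib.KR

universe u

variable {p : ℕ} [hp : Fact p.Prime] {X V : Type u} [Group X] [AddCommGroup V] [Module (ZMod p) V]
  (ρ : X →* (V ≃ₗ[ZMod p] V))

/-- An invariant subspace. -/
def SInv (W : Submodule (ZMod p) V) : Prop := ∀ g, ∀ w ∈ W, ρ g w ∈ W

/-- The hypotheses: a form without invariant totally isotropic subspace. -/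
structure Symp (B : LinearMap.BilinForm (ZMod p) V) : Prop where
  alt : B.IsAlt
  inv : ∀ g u v, B (ρ g u) (ρ g v) = B u v
  nd : ∀ v, (∀ w, B v w = 0) → v = 0
  noiso : ∀ W, SInv ρ W → (∀ u ∈ W, ∀ v ∈ W, B u v = 0) → W = ⊥

/-- The orthogonal subspace. -/
def perp (B : LinearMap.BilinForm (ZMod p) V) (W : Submodule (ZMod p) V) : Submodule (ZMod p) V where
  carrier := {v | ∀ w ∈ W, B w v = 0}
  zero_mem' := fun w _ => map_zero _
  add_mem' := fun {a b} ha hb w hw => by rw [map_add, ha w hw, hb w hw, add_zero]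
  smul_mem' := fun c v hv w hw => by rw [map_smul, hv w hw, smul_zero]

variable {ρ} {B : LinearMap.BilinForm (ZMod p) V}

theorem SInv.perp (hS : Symp ρ B) {W : Submodule (ZMod p) V} (hW : SInv ρ W) :
    SInv ρ (KR.perp B W) := fun g v hv w hw => by
  have h := hS.inv g⁻¹ w (ρ g v)
  have e : ρ g⁻¹ (ρ g v) = v := by
    show (ρ g⁻¹ * ρ g) v = v
    rw [← map_mul, inv_mul_cancel, map_one]; rfl
  rw [e] at h
  rw [← h]
  exact hv _ (hW g⁻¹ w hw)

theorem inf_perp_eq_bot (hS : Symp ρ B) {W : Submodule (ZMod p) V} (hW : SInv ρ W) :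
    W ⊓ KR.perp B W = ⊥ :=
  hS.noiso _ (fun g v hv => ⟨hW g v hv.1, hW.perp hS g v hv.2⟩) fun u hu v hv => hv.2 u hu.1

/-- A nondegenerate subspace splits the space. -/
theorem sup_perp_eq_top [Finite V] {W : Submodule (ZMod p) V}
    (hd : W ⊓ KR.perp B W = ⊥) : W ⊔ KR.perp B W = ⊤ := by
  haveI : Module.Finite (ZMod p) V := Module.Finite.of_finite
  let φ : V →ₗ[ZMod p] Module.Dual (ZMod p) W :=
    { toFun := fun v => (B.flip v).comp W.subtype
      map_add' := fun a b => by ext; simp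
      map_smul' := fun a b => by ext; simp }
  have hinj : Function.Injective (φ.comp W.subtype) := by
    rw [← LinearMap.ker_eq_bot, Submodule.eq_bot_iff]
    intro w hw
    have : (w : V) ∈ W ⊓ KR.perp B W := ⟨w.2, fun u hu =>
      LinearMap.congr_fun (LinearMap.mem_ker.mp hw) ⟨u, hu⟩⟩
    rw [hd, Submodule.mem_bot] at this
    exact Subtype.ext this
  have hsur := (LinearMap.injective_iff_surjective_of_finrank_eq_finrank
    (Subspace.dual_finrank_eq).symm).mp hinj
  rw [eq_top_iff]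
  intro v _
  obtain ⟨w, hw⟩ := hsur (φ v)
  rw [Submodule.mem_sup]
  refine ⟨w, w.2, v - w, fun u hu => ?_, by abel⟩
  have h := LinearMap.congr_fun hw ⟨u, hu⟩
  rw [map_sub, sub_eq_zero]
  exact h.symm

/-- The action on an invariant subspace. -/
def sres (W : Submodule (ZMod p) V) (hW : SInv ρ W) : X →* (W ≃ₗ[ZMod p] W) where
  toFun g :=
    { toFun := fun w => ⟨ρ g w, hW g w w.2⟩
      invFun := fun w => ⟨ρ g⁻¹ w, hW g⁻¹ w w.2⟩
      left_inv := fun w => Subtype.ext (by
        show (ρ g⁻¹ * ρ g) (w : V) = w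
        rw [← map_mul, inv_mul_cancel, map_one]; rfl)
      right_inv := fun w => Subtype.ext (by
        show (ρ g * ρ g⁻¹) (w : V) = w
        rw [← map_mul, mul_inv_cancel, map_one]; rfl)
      map_add' := fun a b => Subtype.ext (map_add (ρ g) _ _)
      map_smul' := fun c a => Subtype.ext (map_smul (ρ g) c (a : V)) }
  map_one' := LinearEquiv.ext fun w => Subtype.ext (by
    show ρ 1 (w : V) = w
    rw [map_one]; rfl)
  map_mul' g h := LinearEquiv.ext fun w => Subtype.ext (by
    show ρ (g * h) (w : V) = ρ g (ρ h w)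
    rw [map_mul]; rfl)

theorem sres_apply (W : Submodule (ZMod p) V) (hW : SInv ρ W) (g : X) (w : W) :
    (sres W hW g w : V) = ρ g w := rfl

/-- The image on an invariant subspace keeps the hypotheses. -/
theorem Symp.res [Finite V] (hS : Symp ρ B) {W : Submodule (ZMod p) V} (hW : SInv ρ W) :
    Symp (sres W hW).range.subtype (B.restrict W) := by
  refine ⟨fun w => hS.alt w, ?_, fun w hw => ?_, ?_⟩
  · rintro ⟨_, g, rfl⟩ u v
    exact hS.inv g u v
  · have : (w : V) ∈ W ⊓ KR.perp B W := ⟨w.2, fun u hu => by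
      rw [← hS.alt.neg_eq, show B (w : V) u = 0 from hw ⟨u, hu⟩, neg_zero]⟩
    rw [inf_perp_eq_bot hS hW, Submodule.mem_bot] at this
    exact Subtype.ext this
  · intro U hU hiso
    have h := hS.noiso (U.map W.subtype) (fun g v hv => by
      obtain ⟨w, hw, rfl⟩ := Submodule.mem_map.mp hv
      exact Submodule.mem_map.mpr ⟨sres W hW g w, hU ⟨_, g, rfl⟩ w hw, rfl⟩) (by
      rintro _ ⟨u, hu, rfl⟩ _ ⟨v, hv, rfl⟩
      exact hiso u hu v hv)
    exact Submodule.map_injective_of_injective W.injective_subtype (h.trans (Submodule.map_bot _).symm)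

/-- The action by additive endomorphisms. -/
def endRep (ρ : X →* (V ≃ₗ[ZMod p] V)) : X →* AddMonoid.End V where
  toFun g := (ρ g : V →ₗ[ZMod p] V).toAddMonoidHom
  map_one' := CfsgLib.OddBase.ext_end fun v => by
    show ρ 1 v = v
    rw [map_one]; rfl
  map_mul' g h := CfsgLib.OddBase.ext_end fun v => by
    show ρ (g * h) v = ρ g (ρ h v)
    rw [map_mul]; rfl

theorem exists_triple [Finite X] [Finite V] [Nontrivial V] (hX : Group.IsSolvable X)
    (hρ : Function.Injective ρ) (hirr : ∀ W, SInv ρ W → W = ⊥ ∨ W = ⊤) :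
    ∃ a b c : V, a ≠ 0 ∧ Function.Injective fun g : X => (ρ g a, ρ g b, ρ g c) := by
  have hirr' : ∀ U : AddSubgroup V, CfsgLib.OddBase.Inv (endRep ρ) U → U = ⊥ ∨ U = ⊤ := by
    intro U hU
    have h : ∀ v, v ∈ AddSubgroup.toZModSubmodule p U ↔ v ∈ U := fun v => Iff.rfl
    rcases hirr (AddSubgroup.toZModSubmodule p U) (fun g v hv => hU g v hv) with e | e
    · exact Or.inl ((AddSubgroup.eq_bot_iff_forall _).mpr fun v hv =>
        (Submodule.eq_bot_iff _).mp e v ((h v).mpr hv))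
    · exact Or.inr (AddSubgroup.ext fun v => ⟨fun _ => trivial, fun _ => (h v).mp (e ▸ trivial)⟩)
  obtain ⟨a, b, c, ha, h⟩ := (CfsgLib.SolBase.smallBase3 (Nat.card V + 1) X hX V (Nat.lt_succ_self _)
    (endRep ρ) (CfsgLib.SolBase.cr_of_irreducible _ hirr')).exists_ne_zero
  refine ⟨a, b, c, ha, fun g g' e => ?_⟩
  simp only [Prod.mk.injEq] at e
  have h1 : ∀ v, ρ g v = ρ g' v → ρ (g'⁻¹ * g) v = v := fun v hv => by
    rw [map_mul, map_inv]
    show (ρ g').symm (ρ g v) = v
    rw [hv, LinearEquiv.symm_apply_apply]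
  have h2 := h (g'⁻¹ * g) (h1 a e.1) (h1 b e.2.1) (h1 c e.2.2)
  have h3 : ρ (g'⁻¹ * g) = 1 := LinearEquiv.ext fun v => DFunLike.congr_fun h2 v
  exact (inv_mul_eq_one.mp (hρ (h3.trans (map_one ρ).symm))).symm

/-- Pairs of a given product. -/
theorem card_pairs_le [Finite V] (hnd : ∀ v, (∀ w, B v w = 0) → v = 0) (c : ZMod p) :
    p * Nat.card {q : V × V // q.1 ≠ 0 ∧ B q.1 q.2 = c} ≤ Nat.card V * Nat.card V := by
  classical
  haveI := Fintype.ofFinite V
  have hfib : ∀ u : {u : V // u ≠ 0}, p * Nat.card {v : V // B u.1 v = c} = Nat.card V := by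
    intro u
    obtain ⟨w, hw⟩ : ∃ w, B u.1 w = 1 := by
      obtain ⟨w, hw⟩ := not_forall.mp fun h => u.2 (hnd _ h)
      exact ⟨(B u.1 w)⁻¹ • w, by rw [map_smul, smul_eq_mul, inv_mul_cancel₀ hw]⟩
    conv_lhs => enter [1]; rw [← Nat.card_zmod p]
    rw [← Nat.card_prod]
    exact Nat.card_congr
      { toFun := fun t => (t.2 : V) + t.1 • w
        invFun := fun v => (B u.1 v - c, ⟨v - (B u.1 v - c) • w, by simp [hw]⟩)
        left_inv := fun t => by
          refine Prod.ext ?_ (Subtype.ext ?_)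
          · simp [hw, t.2.2]
          · simp [hw, t.2.2]
        right_inv := fun v => by simp }
  let e : {q : V × V // q.1 ≠ 0 ∧ B q.1 q.2 = c} ≃ Σ u : {u : V // u ≠ 0}, {v : V // B u.1 v = c} :=
    { toFun := fun q => ⟨⟨q.1.1, q.2.1⟩, q.1.2, q.2.2⟩
      invFun := fun s => ⟨(s.1.1, s.2.1), s.1.2, s.2.2⟩
      left_inv := fun q => rfl
      right_inv := fun s => rfl }
  rw [Nat.card_congr e, Nat.card_sigma, Finset.mul_sum, Finset.sum_congr rfl fun u _ => hfib u,
    Finset.sum_const, Finset.card_univ, ← Nat.card_eq_fintype_card, smul_eq_mul]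
  exact Nat.mul_le_mul_right _ (Finite.card_subtype_le _)

end CfsgLib.KR
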