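import Mathlib
import Cfsg.Agent.Lib.KR.SympSetup
import Cfsg.Agent.Lib.KR.SmallGroups
import Cfsg.Agent.Lib.KR.PermBound

/-!
An irreducible solvable group on a binary symplectic space: blocks, or a semiregular normal subgroup.
-/

set_option autoImplicit false
set_option linter.style.haveILetI false

namespace CfsgLib.KR

universe u

variable {X V : Type u} [Group X] [Finite X] [AddCommGroup V] [Module (ZMod 2) V] [Finite V]
  {ρ : X →* (V ≃ₗ[ZMod 2] V)} {B : LinearMap.BilinForm (ZMod 2) V}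

/-- The vectors fixed by a subgroup. -/
def fixS (ρ : X →* (V ≃ₗ[ZMod 2] V)) (S : Subgroup X) : Submodule (ZMod 2) V where
  carrier := {v | ∀ s ∈ S, ρ s v = v}
  zero_mem' := fun s _ => map_zero _
  add_mem' := fun {a b} ha hb s hs => by rw [map_add, ha s hs, hb s hs]
  smul_mem' := fun c v hv s hs => by rw [map_smul, hv s hs]

theorem rho_mul (g h : X) (v : V) : ρ (g * h) v = ρ g (ρ h v) := by rw [map_mul]; rfl

theorem rho_one (v : V) : ρ 1 v = v := by rw [map_one]; rfl

theorem exists_card_eq (hA : B.IsAlt) (hnd : ∀ v, (∀ w, B v w = 0) → v = 0) :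
    ∃ m, Nat.card V = 4 ^ m := by
  haveI : Module.Finite (ZMod 2) V := Module.Finite.of_finite
  obtain ⟨m, b, -, -, -⟩ := CfsgLib.Forms.exists_symplectic_basis_nondeg B hA hnd
  refine ⟨m, ?_⟩
  rw [Nat.card_congr b.equivFun.toEquiv, Nat.card_fun, Nat.card_zmod, Nat.card_sum, Nat.card_fin,
    show (4 : ℕ) = 2 ^ 2 by rfl, ← pow_mul]
  congr 1; ring

/-- A space with more than one element in an odd order group's fixed space. -/
theorem exists_fixed_of_two_group [Nontrivial V] {N : Subgroup X} (hN : IsPGroup 2 N) :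
    ∃ v : V, v ≠ 0 ∧ ∀ s ∈ N, ρ s v = v := by
  letI : MulAction N V :=
    { smul := fun s v => ρ s v
      one_smul := fun v => rho_one v
      mul_smul := fun a b v => rho_mul _ _ v }
  haveI : Module.Finite (ZMod 2) V := Module.Finite.of_finite
  haveI : Fact (Nat.Prime 2) := ⟨Nat.prime_two⟩
  have hdvd : 2 ∣ Nat.card V := by
    rw [Module.natCard_eq_pow_finrank (K := ZMod 2), Nat.card_zmod]
    exact dvd_pow_self 2 Module.finrank_pos.ne'
  obtain ⟨v, hv, hne⟩ := hN.exists_fixed_point_of_prime_dvd_card_of_fixed_point V hdvd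
    (a := (0 : V)) (fun s => map_zero (ρ (s : X)))
  exact ⟨v, hne.symm, fun s hs => hv ⟨s, hs⟩⟩

/-- Averaging: fixed spaces of odd groups are nondegenerate. -/
theorem fixS_nondeg (hS : Symp ρ B) {S : Subgroup X} (hodd : Odd (Nat.card S)) {u : V}
    (hu : u ∈ fixS ρ S) (h : ∀ w ∈ fixS ρ S, B u w = 0) : u = 0 := by
  haveI := Fintype.ofFinite S
  refine hS.nd u fun v => ?_
  have hw : (∑ s : S, ρ s v) ∈ fixS ρ S := fun t ht => by
    rw [map_sum]
    refine Fintype.sum_equiv (Equiv.mulLeft (⟨t, ht⟩ : S)) _ _ fun s => ?_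
    exact (rho_mul t s v).symm
  have h0 := h _ hw
  rw [map_sum, Finset.sum_congr rfl fun (s : S) _ => (show B u (ρ s v) = B u v by
    conv_lhs => rw [← hu s s.2, hS.inv]), Finset.sum_const, Finset.card_univ,
    ← Nat.card_eq_fintype_card, nsmul_eq_mul] at h0
  obtain ⟨k, hk⟩ := hodd
  rw [hk, show ((2 * k + 1 : ℕ) : ZMod 2) = 1 by
    rw [Nat.cast_add, Nat.cast_mul, show ((2 : ℕ) : ZMod 2) = 0 from ZMod.natCast_self 2, zero_mul,
      zero_add, Nat.cast_one], one_mul] at h0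
  exact h0

/-- The block case, or a semiregular minimal normal subgroup. -/
theorem blocks_or_semiregular (hX : Group.IsSolvable X) [Nontrivial X] (hρ : Function.Injective ρ)
    (hS : Symp ρ B) (hirr : ∀ W, SInv ρ W → W = ⊥ ∨ W = ⊤) {m : ℕ} (hV : Nat.card V = 4 ^ m) :
    (∃ d t : ℕ, 2 ≤ t ∧ 1 ≤ d ∧ d * t = m ∧ (d = 1 → Cb X (3 ^ t * t.factorial))) ∨
    ∃ (r : ℕ) (N : Subgroup X), r.Prime ∧ r ≠ 2 ∧ N.Normal ∧ (∃ k, Nat.card N = r ^ k) ∧ N ≠ ⊥ ∧
      (∀ a ∈ N, ∀ b ∈ N, a * b = b * a) ∧ (∀ a ∈ N, a ^ r = 1) ∧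
      ∀ a ∈ N, a ≠ 1 → ∀ v, ρ a v = v → v = 0 := by
  classical
  obtain ⟨N, hNn, hN1, hmin, hab⟩ := exists_minimal_abelian_normal X hX
  haveI : Nontrivial V := by
    by_contra h
    haveI := not_nontrivial_iff_subsingleton.mp h
    haveI : Subsingleton X :=
      ⟨fun a b => hρ (LinearEquiv.ext fun v => Subsingleton.elim _ _)⟩
    exact not_subsingleton X this
  -- a prime exponent
  obtain ⟨r, hr, hrd⟩ := Nat.exists_prime_and_dvd (n := Nat.card N)
    (fun e => hN1 (Subgroup.eq_bot_of_card_eq N e))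
  haveI : Fact r.Prime := ⟨hr⟩
  have hexp : ∀ a ∈ N, a ^ r = 1 := by
    let R : Subgroup X :=
      { carrier := {a | a ∈ N ∧ a ^ r = 1}
        one_mem' := ⟨one_mem _, one_pow _⟩
        mul_mem' := fun {a b} ha hb => ⟨mul_mem ha.1 hb.1, by
          rw [(show Commute a b from hab a ha.1 b hb.1).mul_pow, ha.2, hb.2, one_mul]⟩
        inv_mem' := fun {a} ha => ⟨inv_mem ha.1, by rw [inv_pow, ha.2, inv_one]⟩ }
    have hRn : R.Normal := ⟨fun a ha g => ⟨hNn.conj_mem a ha.1 g, by rw [conj_pow, ha.2]; group⟩⟩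
    rcases hmin R hRn (fun a ha => ha.1) with e | e
    · obtain ⟨a, ha⟩ := exists_prime_orderOf_dvd_card' r hrd
      have h1 : (a : X) ∈ R := ⟨a.2, by
        rw [← SubmonoidClass.coe_pow, ← ha, pow_orderOf_eq_one, OneMemClass.coe_one]⟩
      rw [e, Subgroup.mem_bot, OneMemClass.coe_eq_one] at h1
      rw [h1, orderOf_one] at ha
      exact absurd ha.symm hr.ne_one
    · intro a ha
      exact ((e ▸ ha : a ∈ R)).2
  have hNp : IsPGroup r N := fun a => ⟨1, Subtype.ext (by
    rw [pow_one, SubmonoidClass.coe_pow, OneMemClass.coe_one]; exact hexp a a.2)⟩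
  have hfixinv : SInv ρ (fixS ρ N) := fun g v hv s hs => by
    have h := hv _ (hNn.conj_mem s hs g⁻¹)
    rw [inv_inv] at h
    calc ρ s (ρ g v) = ρ g (ρ (g⁻¹ * s * g) v) := by rw [← rho_mul, ← rho_mul]; congr 2; group
      _ = ρ g v := by rw [h]
  have hfix0 : fixS ρ N = ⊥ := by
    rcases hirr _ hfixinv with e | e
    · exact e
    · refine absurd ((Subgroup.eq_bot_iff_forall _).mpr fun a ha => hρ (LinearEquiv.ext fun v => ?_)) hN1
      rw [rho_one]
      exact (e ▸ Submodule.mem_top : v ∈ fixS ρ N) a ha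
  have hr2 : r ≠ 2 := by
    rintro rfl
    obtain ⟨v, hv0, hv⟩ := exists_fixed_of_two_group (ρ := ρ) hNp
    exact hv0 ((Submodule.eq_bot_iff _).mp hfix0 v hv)
  by_cases hsemi : ∀ a ∈ N, a ≠ 1 → ∀ v, ρ a v = v → v = 0
  · exact Or.inr ⟨r, N, hr, hr2, hNn, IsPGroup.iff_card.mp hNp, hN1, hab, hexp, hsemi⟩
  left
  push Not at hsemi
  obtain ⟨x, hx, hx1, v₀, hv₀, hv0⟩ := hsemi
  have hodd : ∀ S : Subgroup X, S ≤ N → Odd (Nat.card S) := fun S hS => by
    obtain ⟨k, hk⟩ := IsPGroup.iff_card.mp (hNp.to_le hS)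
    rw [hk]
    exact (hr.odd_of_ne_two hr2).pow
  -- a minimal fixed space
  have hne0 : v₀ ∈ fixS ρ (Subgroup.zpowers x) := fun s hs => by
    obtain ⟨k, rfl⟩ := Subgroup.mem_zpowers_iff.mp hs
    let St : Subgroup X :=
      { carrier := {g | ρ g v₀ = v₀}
        one_mem' := rho_one v₀
        mul_mem' := fun {a b} (ha : ρ a v₀ = v₀) (hb : ρ b v₀ = v₀) => by
          show ρ (a * b) v₀ = v₀
          rw [rho_mul, hb, ha]
        inv_mem' := fun {a} (ha : ρ a v₀ = v₀) => by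
          show ρ a⁻¹ v₀ = v₀
          conv_lhs => rw [← ha, ← rho_mul, inv_mul_cancel, rho_one] }
    exact St.zpow_mem (show x ∈ St from hv₀) k
  let Fam : Set (Submodule (ZMod 2) V) := {W | ∃ S ≤ N, W = fixS ρ S ∧ W ≠ ⊥}
  have hzN : Subgroup.zpowers x ≤ N := Subgroup.zpowers_le.mpr hx
  obtain ⟨W, ⟨⟨⟨S, hSN, hWS, hW0⟩, hWx⟩, hWmin⟩⟩ :=
    (Set.toFinite {W | W ∈ Fam ∧ W ≤ fixS ρ (Subgroup.zpowers x)}).exists_minimal
      ⟨fixS ρ (Subgroup.zpowers x), ⟨_, hzN, rfl, fun e => hv0 ((Submodule.eq_bot_iff _).mp e v₀ hne0)⟩,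
        le_rfl⟩
  have hmin' : ∀ W' ∈ Fam, W' ≤ W → W' = W := fun W' h1 h2 =>
    le_antisymm h2 (hWmin ⟨h1, h2.trans hWx⟩ h2)
  let blk : X → Submodule (ZMod 2) V := fun g => W.map (ρ g : V →ₗ[ZMod 2] V)
  have hblk : ∀ g h, (blk h).map (ρ g : V →ₗ[ZMod 2] V) = blk (g * h) := fun g h => by
    simp only [blk, ← Submodule.map_comp]
    congr 1
    exact LinearMap.ext fun v => (rho_mul g h v).symm
  -- translates are fixed spaces
  have hblkfix : ∀ g, blk g = fixS ρ (S.map (MulAut.conj g).toMonoidHom) := by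
    intro g
    refine le_antisymm ?_ fun v hv => ?_
    · rintro _ ⟨w, hw, rfl⟩ _ ⟨s, hs, rfl⟩
      show ρ (g * s * g⁻¹) (ρ g w) = ρ g w
      rw [← rho_mul, inv_mul_cancel_right, rho_mul, (hWS ▸ hw : w ∈ fixS ρ S) s hs]
    · refine Submodule.mem_map.mpr ⟨ρ g⁻¹ v, ?_, ?_⟩
      · rw [hWS]
        intro s hs
        have h := hv _ ⟨s, hs, rfl⟩
        conv_rhs => rw [← h]
        show ρ s (ρ g⁻¹ v) = ρ g⁻¹ (ρ (g * s * g⁻¹) v)
        rw [← rho_mul, ← rho_mul]; congr 2; group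
      · show ρ g (ρ g⁻¹ v) = v
        rw [← rho_mul, mul_inv_cancel, rho_one]
  have hSg : ∀ g, S.map (MulAut.conj g).toMonoidHom ≤ N := by
    rintro g _ ⟨s, hs, rfl⟩
    exact hNn.conj_mem s (hSN hs) g
  have hblk0 : ∀ g, blk g ≠ ⊥ := fun g e => hW0 (by
    refine (Submodule.eq_bot_iff _).mpr fun w hw => ?_
    have : ρ g w ∈ blk g := Submodule.mem_map.mpr ⟨w, hw, rfl⟩
    rw [e, Submodule.mem_bot] at this
    exact (map_eq_zero_iff _ (ρ g).injective).mp this)
  have hblkcard : ∀ g, Nat.card (blk g) = Nat.card W := fun g =>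
    (Nat.card_congr (Submodule.equivMapOfInjective _ (ρ g).injective W).toEquiv).symm
  have hblkmin : ∀ g, ∀ W' ∈ Fam, W' ≤ blk g → W' = blk g := by
    intro g W' ⟨S', hS', hW', hW'0⟩ hle
    set S'' := S'.map (MulAut.conj g⁻¹).toMonoidHom with hS''
    have hle' : S'' ≤ N := by
      rintro _ ⟨s, hs, rfl⟩
      exact hNn.conj_mem s (hS' hs) g⁻¹
    have e : W'.map (ρ g⁻¹ : V →ₗ[ZMod 2] V) = fixS ρ S'' := by
      refine le_antisymm ?_ fun v hv => ?_
      · rintro _ ⟨w, hw, rfl⟩ _ ⟨s, hs, rfl⟩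
        show ρ (g⁻¹ * s * g⁻¹⁻¹) (ρ g⁻¹ w) = ρ g⁻¹ w
        rw [← rho_mul, inv_mul_cancel_right, rho_mul, (hW' ▸ hw : w ∈ fixS ρ S') s hs]
      · refine Submodule.mem_map.mpr ⟨ρ g v, ?_, ?_⟩
        · rw [hW']
          intro s hs
          have h := hv _ ⟨s, hs, rfl⟩
          conv_rhs => rw [← h]
          show ρ s (ρ g v) = ρ g (ρ (g⁻¹ * s * g⁻¹⁻¹) v)
          rw [← rho_mul, ← rho_mul]; congr 2; group
        · show ρ g⁻¹ (ρ g v) = v
          rw [← rho_mul, inv_mul_cancel, rho_one]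
    have hne : fixS ρ S'' ≠ ⊥ := by
      intro e'
      rw [e'] at e
      refine hW'0 ((Submodule.eq_bot_iff _).mpr fun w hw => ?_)
      have : ρ g⁻¹ w ∈ W'.map (ρ g⁻¹ : V →ₗ[ZMod 2] V) := Submodule.mem_map.mpr ⟨w, hw, rfl⟩
      rw [e, Submodule.mem_bot] at this
      exact (map_eq_zero_iff _ (ρ g⁻¹).injective).mp this
    have h1 := hmin' _ ⟨S'', hle', rfl, hne⟩ (by
      rw [← e]
      refine (Submodule.map_mono hle).trans (le_of_eq ?_)
      rw [hblk, inv_mul_cancel]
      exact (congrArg (fun f : V →ₗ[ZMod 2] V => W.map f)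
        (LinearMap.ext fun v => rho_one v)).trans (Submodule.map_id W))
    refine le_antisymm hle ?_
    rintro _ ⟨w, hw, rfl⟩
    rw [← h1, ← e] at hw
    obtain ⟨w', hw', rfl⟩ := hw
    show ρ g (ρ g⁻¹ w') ∈ W'
    rwa [← rho_mul, mul_inv_cancel, rho_one]
  let ι := ↥(Set.range blk)
  haveI : Finite ι := Set.finite_range blk |>.to_subtype
  haveI : Fintype ι := Fintype.ofFinite _
  have horth : ∀ i j : ι, i ≠ j → ∀ u ∈ (i : Submodule (ZMod 2) V), ∀ v ∈ (j : Submodule (ZMod 2) V),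
      B u v = 0 := by
    rintro ⟨_, g, rfl⟩ ⟨_, h, rfl⟩ hne u hu v hv
    set T := S.map (MulAut.conj h).toMonoidHom with hT
    obtain ⟨s, hsT, hs⟩ : ∃ s ∈ T, ¬ ∀ w ∈ blk g, ρ s w = w := by
      by_contra hcon
      push Not at hcon
      refine hne (Subtype.ext ?_)
      have hle : blk g ≤ blk h := fun w hw => (hblkfix h).symm ▸ fun s hs => hcon s hs w hw
      exact hblkmin h _ ⟨_, hSg g, hblkfix g, hblk0 g⟩ hle
    have hfpf : ∀ w ∈ blk g, ρ s w = w → w = 0 := by
      intro w hw hsw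
      by_contra hw0
      have hle : S.map (MulAut.conj g).toMonoidHom ⊔ Subgroup.zpowers s ≤ N :=
        sup_le (hSg g) (Subgroup.zpowers_le.mpr (hSg h hsT))
      have hsub : fixS ρ (S.map (MulAut.conj g).toMonoidHom ⊔ Subgroup.zpowers s) ≤ blk g := fun z hz => by
        rw [hblkfix g]
        exact fun t ht => hz t (Subgroup.mem_sup_left ht)
      have hwmem : w ∈ fixS ρ (S.map (MulAut.conj g).toMonoidHom ⊔ Subgroup.zpowers s) := by
        intro t ht
        let St : Subgroup X :=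
          { carrier := {a | ρ a w = w}
            one_mem' := rho_one w
            mul_mem' := fun {a b} (ha : ρ a w = w) (hb : ρ b w = w) => by
              show ρ (a * b) w = w
              rw [rho_mul, hb, ha]
            inv_mem' := fun {a} (ha : ρ a w = w) => by
              show ρ a⁻¹ w = w
              conv_lhs => rw [← ha, ← rho_mul, inv_mul_cancel, rho_one] }
        have : S.map (MulAut.conj g).toMonoidHom ⊔ Subgroup.zpowers s ≤ St :=
          sup_le (fun a ha => ((hblkfix g) ▸ hw : w ∈ fixS ρ _) a ha) (Subgroup.zpowers_le.mpr hsw)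
        exact this ht
      have heq := hblkmin g _ ⟨_, hle, rfl, fun e => hw0 ((Submodule.eq_bot_iff _).mp e w hwmem)⟩ hsub
      exact hs fun z hz => (heq ▸ hz : z ∈ fixS ρ _) s (Subgroup.mem_sup_right (Subgroup.mem_zpowers s))
    have hinvs : ∀ w ∈ blk g, ρ s w ∈ blk g := by
      intro w hw
      rw [hblkfix g] at hw ⊢
      intro t ht
      rw [← rho_mul, hab t (hSg g ht) s (hSg h hsT), rho_mul, hw t ht]
    let L : blk g →ₗ[ZMod 2] blk g :=
      { toFun := fun w => ⟨ρ s w - w, (blk g).sub_mem (hinvs w w.2) w.2⟩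
        map_add' := fun a b => Subtype.ext (by simp only [Submodule.coe_add, map_add]; abel)
        map_smul' := fun c a => Subtype.ext (by simp [map_smul, smul_sub]) }
    have hLi : Function.Injective L := by
      rw [← LinearMap.ker_eq_bot, Submodule.eq_bot_iff]
      intro w hw
      exact Subtype.ext (hfpf w w.2 (sub_eq_zero.mp (congrArg Subtype.val (LinearMap.mem_ker.mp hw))))
    obtain ⟨w, hw⟩ := Finite.injective_iff_surjective.mp hLi ⟨u, hu⟩
    have hw' : ρ s w - w = u := congrArg Subtype.val hw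
    rw [← hw', map_sub, LinearMap.sub_apply]
    conv_lhs => arg 1; rw [← ((hblkfix h ▸ hv : v ∈ fixS ρ _) s hsT), hS.inv]
    exact sub_self _
  have hnd : ∀ i : ι, ∀ u ∈ (i : Submodule (ZMod 2) V),
      (∀ w ∈ (i : Submodule (ZMod 2) V), B u w = 0) → u = 0 := by
    rintro ⟨_, g, rfl⟩ u hu h
    refine fixS_nondeg hS (hodd _ (hSg g)) (hblkfix g ▸ hu) fun w hw => h w ?_
    show w ∈ blk g
    rw [hblkfix g]; exact hw
  let Φ : ((i : ι) → (i : Submodule (ZMod 2) V)) →ₗ[ZMod 2] V :=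
    ∑ i : ι, (i : Submodule (ZMod 2) V).subtype.comp (LinearMap.proj i)
  have hΦ : ∀ f, Φ f = ∑ i : ι, (f i : V) := fun f => by simp [Φ]
  have hperm : ∀ g (i : ι), (i : Submodule (ZMod 2) V).map (ρ g : V →ₗ[ZMod 2] V) ∈ Set.range blk := by
    rintro g ⟨_, h, rfl⟩
    exact ⟨g * h, (hblk g h).symm⟩
  have hΦs : Function.Surjective Φ := by
    have htop : (⨆ i : ι, (i : Submodule (ZMod 2) V)) = ⊤ := by
      rcases hirr (⨆ i : ι, (i : Submodule (ZMod 2) V)) (fun g => by
        have : (⨆ i : ι, (i : Submodule (ZMod 2) V)).map (ρ g : V →ₗ[ZMod 2] V) ≤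
            ⨆ i : ι, (i : Submodule (ZMod 2) V) := by
          rw [Submodule.map_iSup]
          exact iSup_le fun i => le_iSup_of_le (⟨_, hperm g i⟩ : ι) le_rfl
        exact fun v hv => this (Submodule.mem_map.mpr ⟨v, hv, rfl⟩)) with e | e
      · exact absurd (le_bot_iff.mp (e ▸ le_iSup_of_le (⟨blk 1, 1, rfl⟩ : ι) le_rfl)) (hblk0 1)
      · exact e
    rw [← LinearMap.range_eq_top, eq_top_iff, ← htop]
    refine iSup_le fun i v hv => ⟨Pi.single i ⟨v, hv⟩, ?_⟩
    rw [hΦ, Finset.sum_eq_single i (fun j _ hj => by simp [Pi.single_eq_of_ne hj]) (by simp),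
      Pi.single_eq_same]
  have hΦi : Function.Injective Φ := by
    rw [← LinearMap.ker_eq_bot, Submodule.eq_bot_iff]
    intro f hf
    funext i
    refine Subtype.ext (hnd i _ (f i).2 fun u hu => ?_)
    have h0 : B u (Φ f) = 0 := by rw [LinearMap.mem_ker.mp hf, map_zero]
    rw [hΦ, map_sum, Finset.sum_eq_single i (fun j _ hj => horth i j hj.symm u hu _ (f j).2) (by simp)] at h0
    rw [← hS.alt.neg_eq, h0, neg_zero]
  have hcard : Nat.card V = Nat.card W ^ Fintype.card ι := by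
    rw [← Nat.card_congr (Equiv.ofBijective Φ ⟨hΦi, hΦs⟩), Nat.card_pi]
    rw [Finset.prod_congr rfl (fun (i : ι) _ => (show Nat.card (i : Submodule (ZMod 2) V) = Nat.card W by
      obtain ⟨_, g, rfl⟩ := i; exact hblkcard g)), Finset.prod_const, Finset.card_univ]
  obtain ⟨d, hd⟩ := exists_card_eq (V := W) (B := B.restrict W) (fun w => hS.alt w) fun w hw =>
    Subtype.ext (fixS_nondeg hS (hodd S hSN) (hWS ▸ w.2) fun u hu => hw ⟨u, hWS.symm ▸ hu⟩)
  have hd1 : 1 ≤ d := by
    by_contra h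
    rw [show d = 0 by omega, pow_zero] at hd
    haveI : Subsingleton W := (Nat.card_eq_one_iff_unique.mp hd).1
    exact hW0 ((Submodule.eq_bot_iff _).mpr fun w hw =>
      congrArg Subtype.val (Subsingleton.elim (⟨w, hw⟩ : W) 0))
  set t := Fintype.card ι
  have hdt : d * t = m := by
    rw [hV, hd, ← pow_mul] at hcard
    exact (Nat.pow_right_injective (by norm_num : 2 ≤ 4) hcard).symm
  have ht : 2 ≤ t := by
    by_contra h
    refine hx1 (hρ (LinearEquiv.ext fun v => ?_))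
    rw [rho_one]
    obtain ⟨f, rfl⟩ := hΦs v
    haveI : Subsingleton ι := Fintype.card_le_one_iff_subsingleton.mp (by omega)
    rw [hΦ, map_sum]
    refine Finset.sum_congr rfl fun i _ => ?_
    have hi : i = ⟨blk 1, 1, rfl⟩ := Subsingleton.elim _ _
    have hfi : (f i : V) ∈ W := by
      have h1 : (f i : V) ∈ (i : Submodule (ZMod 2) V) := (f i).2
      subst hi
      obtain ⟨w, hw, hwe⟩ := h1
      rw [← hwe]
      show ρ 1 w ∈ W
      rwa [rho_one]
    exact hWx hfi x (Subgroup.mem_zpowers x)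
  refine ⟨d, t, ht, hd1, hdt, fun hd1' => ?_⟩
  subst hd1'
  let π : X →* Equiv.Perm ι :=
    MonoidHom.toHomPerm
      { toFun := fun g i => ⟨_, hperm g i⟩
        map_one' := funext fun i => Subtype.ext
          ((congrArg (fun f : V →ₗ[ZMod 2] V => (i : Submodule (ZMod 2) V).map f)
            (LinearMap.ext fun v => rho_one v)).trans (Submodule.map_id _))
        map_mul' := fun a b => funext fun i => Subtype.ext
          ((congrArg (fun f : V →ₗ[ZMod 2] V => (i : Submodule (ZMod 2) V).map f)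
            (LinearMap.ext fun v => rho_mul a b v)).trans (Submodule.map_comp _ _ _)) }
  have hkv : ∀ (g : π.ker) (i : ι), ∀ v ∈ (i : Submodule (ZMod 2) V), ρ g v ∈ (i : Submodule (ZMod 2) V) := by
    intro g i v hv
    have h : π g i = i := by rw [MonoidHom.mem_ker.mp g.2]; rfl
    exact (congrArg Subtype.val h).le (Submodule.mem_map.mpr ⟨v, hv, rfl⟩)
  let pts : ι → Type u := fun i => {v : (i : Submodule (ZMod 2) V) // v ≠ 0}
  let act : ∀ i, π.ker →* Equiv.Perm (pts i) := fun i =>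
    MonoidHom.toHomPerm
      { toFun := fun g v => ⟨⟨ρ g v.1.1, hkv g i _ v.1.2⟩, fun e => v.2 (Subtype.ext
          ((map_eq_zero_iff _ (ρ g).injective).mp (congrArg Subtype.val e)))⟩
        map_one' := funext fun v => Subtype.ext (Subtype.ext (rho_one _))
        map_mul' := fun a b => funext fun v => Subtype.ext (Subtype.ext (rho_mul _ _ _)) }
  have hpts : ∀ i, Nat.card (pts i) ≤ 3 := by
    rintro ⟨_, g, rfl⟩
    haveI := Fintype.ofFinite (blk g)
    show Nat.card {v : blk g // v ≠ 0} ≤ 3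
    rw [Nat.card_eq_fintype_card, Fintype.card_subtype_compl, Fintype.card_subtype_eq,
      ← Nat.card_eq_fintype_card, hblkcard, hd]
    norm_num
  have hker : Cb π.ker (3 ^ t) := by
    have h := Cb.of_family (fun i => (act i).rangeRestrict) (fun _ => 3)
      (fun i => cb_of_three (hpts i) (act i).range.subtype (act i).range.subtype_injective) Finset.univ
      fun g hg => Subtype.ext (hρ (LinearEquiv.ext fun v => by
        obtain ⟨f, rfl⟩ := hΦs v
        rw [hΦ, map_sum, map_sum]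
        refine Finset.sum_congr rfl fun i _ => ?_
        show ρ g (f i : V) = ρ 1 (f i : V)
        rw [rho_one]
        by_cases h0 : f i = 0
        · simp [h0]
        · have h1 := Equiv.congr_fun (congrArg Subtype.val (hg i (Finset.mem_univ i))) ⟨f i, h0⟩
          exact congrArg (fun v : pts i => (v.1 : V)) h1))
    simpa [t] using h
  refine Cb.of_hom π hker (Cb.of_card ?_)
  rw [Nat.card_perm, Nat.card_eq_fintype_card]

end CfsgLib.KR
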