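import Mathlib
import Cfsg.Agent.Lib.KR.SympBlocks
import Cfsg.Agent.Lib.KR.Eisenstein

/-!
Irreducible solvable subgroups of the binary symplectic groups of dimension four and six.
-/

set_option autoImplicit false
set_option linter.style.haveILetI false

namespace CfsgLib.KR

universe u

variable {X V : Type u} [Group X] [Finite X] [AddCommGroup V] [Module (ZMod 2) V] [Finite V]
  {ρ : X →* (V ≃ₗ[ZMod 2] V)} {B : LinearMap.BilinForm (ZMod 2) V}

/-- A subgroup free on the nonzero vectors of an invariant subspace. -/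
theorem card_dvd_of_free (H : Subgroup X) (U : Submodule (ZMod 2) V) (hU : ∀ h ∈ H, ∀ v ∈ U, ρ h v ∈ U)
    (hfree : ∀ h ∈ H, ∀ v ∈ U, v ≠ 0 → ρ h v = v → h = 1) :
    Nat.card H ∣ Nat.card U - 1 := by
  classical
  let P : Type u := {v : U // v ≠ 0}
  letI : MulAction H P :=
    { smul := fun h v => ⟨⟨ρ h v.1.1, hU h h.2 _ v.1.2⟩, fun e => v.2 (Subtype.ext
        ((map_eq_zero_iff _ (ρ (h : X)).injective).mp (congrArg Subtype.val e)))⟩
      one_smul := fun v => Subtype.ext (Subtype.ext (rho_one _))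
      mul_smul := fun a b v => Subtype.ext (Subtype.ext (rho_mul _ _ _)) }
  have hst : ∀ b : P, MulAction.stabilizer H b = ⊥ := fun b => by
    rw [Subgroup.eq_bot_iff_forall]
    intro h hh
    exact Subtype.ext (hfree h h.2 _ b.1.2 (fun e => b.2 (Subtype.ext e))
      (congrArg (fun v : P => (v.1 : V)) hh))
  have hP : Nat.card P = Nat.card U - 1 := by
    haveI := Fintype.ofFinite U
    show Nat.card {v : U // v ≠ 0} = _
    rw [Nat.card_eq_fintype_card, Fintype.card_subtype_compl, Fintype.card_subtype_eq,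
      ← Nat.card_eq_fintype_card]
  rw [← hP, Nat.card_congr (MulAction.selfEquivOrbitsQuotientProd hst), Nat.card_prod]
  exact dvd_mul_left _ _

theorem card_sub_eq (U : Submodule (ZMod 2) V) {n : ℕ} (hV : Nat.card V = 2 ^ n) :
    ∃ a ≤ n, Nat.card U = 2 ^ a := by
  haveI : Module.Finite (ZMod 2) V := Module.Finite.of_finite
  have h1 : Module.finrank (ZMod 2) V = n := by
    have h := Module.natCard_eq_pow_finrank (K := ZMod 2) (V := V)
    rw [hV, Nat.card_zmod] at h
    exact (Nat.pow_right_injective le_rfl h).symm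
  exact ⟨Module.finrank (ZMod 2) U, h1 ▸ Submodule.finrank_le U,
    by rw [Module.natCard_eq_pow_finrank (K := ZMod 2), Nat.card_zmod]⟩

/-- The centralizer of a generator of the semiregular subgroup has small index. -/
theorem index_centralizer_le {N : Subgroup X} (hN : N.Normal) {x : X} (hx : x ∈ N) (hx1 : x ≠ 1) :
    (Subgroup.centralizer ({x} : Set X)).index ≤ Nat.card N - 1 := by
  classical
  have hne : ∀ g : X, g * x * g⁻¹ ≠ 1 := fun g e => hx1 (by
    calc x = g⁻¹ * (g * x * g⁻¹) * g := by group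
      _ = 1 := by rw [e]; group)
  have hc : ∀ g h : X, (g⁻¹ * h ∈ Subgroup.centralizer ({x} : Set X)) ↔ g * x * g⁻¹ = h * x * h⁻¹ := by
    intro g h
    rw [Subgroup.mem_centralizer_singleton_iff]
    constructor
    · intro e
      calc g * x * g⁻¹ = g * (x * (g⁻¹ * h)) * h⁻¹ := by group
        _ = g * ((g⁻¹ * h) * x) * h⁻¹ := by rw [e]
        _ = _ := by group
    · intro e
      calc g⁻¹ * h * x = g⁻¹ * (h * x * h⁻¹) * h := by group
        _ = g⁻¹ * (g * x * g⁻¹) * h := by rw [e]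
        _ = _ := by group
  have hle : (Subgroup.centralizer ({x} : Set X)).index ≤ Nat.card {a : N // a ≠ 1} :=
    Nat.card_le_card_of_injective (Quotient.lift
      (fun g : X => (⟨⟨g * x * g⁻¹, hN.conj_mem x hx g⟩, fun e => hne g (congrArg Subtype.val e)⟩ :
        {a : N // a ≠ 1}))
      fun g h e => Subtype.ext (Subtype.ext ((hc g h).mp (QuotientGroup.leftRel_apply.mp e)))) (by
      rintro ⟨g⟩ ⟨h⟩ e
      exact Quotient.sound (QuotientGroup.leftRel_apply.mpr ((hc g h).mpr
        (congrArg (fun v : {a : N // a ≠ 1} => ((v : N) : X)) e))))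
  haveI := Fintype.ofFinite N
  rwa [Nat.card_eq_fintype_card, Fintype.card_subtype_compl, Fintype.card_subtype_eq,
    ← Nat.card_eq_fintype_card] at hle

theorem rel_three {x : X} (hx3 : x ^ 3 = 1) (hfpf : ∀ v, ρ x v = v → v = 0) (v : V) :
    ρ x (ρ x v) + ρ x v + v = 0 := by
  refine hfpf _ ?_
  have e : ρ x (ρ x (ρ x v)) = v := by
    rw [← rho_mul, ← rho_mul, ← pow_three', hx3, rho_one]
  rw [map_add, map_add, e]
  abel

theorem semi_three (hρ : Function.Injective ρ) (hS : Symp ρ B) {m : ℕ} (hm : m = 2 ∨ m = 3)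
    (hV : Nat.card V = 4 ^ m) {N : Subgroup X} (hN : N.Normal) (hN3 : ∀ a ∈ N, a ^ 3 = 1) (hN1 : N ≠ ⊥)
    (hab : ∀ a ∈ N, ∀ b ∈ N, a * b = b * a)
    (hsemi : ∀ a ∈ N, a ≠ 1 → ∀ v, ρ a v = v → v = 0) : Cb X (3 ^ (2 ^ m - 1)) := by
  classical
  obtain ⟨x, hx, hx1⟩ := (Subgroup.bot_or_exists_ne_one N).resolve_left hN1
  have key : ∀ y ∈ N, y ≠ 1 → x * y ≠ 1 → x = y := by
    intro y hy hy1 hxy
    refine hρ (LinearEquiv.ext fun v => ?_)
    have h1 := rel_three (hN3 x hx) (hsemi x hx hx1) v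
    have h2 := rel_three (hN3 y hy) (hsemi y hy hy1) v
    have h3 := rel_three (hN3 _ (mul_mem hx hy)) (hsemi _ (mul_mem hx hy) hxy) v
    have hyy : ρ y (ρ y v) = ρ y v + v := by
      rw [add_assoc] at h2
      exact (eq_neg_of_add_eq_zero_left h2).trans (ZModModule.neg_eq_self _)
    have hxx : ρ x (ρ x (ρ y v)) = ρ x (ρ y v) + ρ y v := by
      have h := rel_three (hN3 x hx) (hsemi x hx hx1) (ρ y v)
      rw [add_assoc] at h
      exact (eq_neg_of_add_eq_zero_left h).trans (ZModModule.neg_eq_self _)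
    have hxx0 : ρ x (ρ x v) = ρ x v + v := by
      rw [add_assoc] at h1
      exact (eq_neg_of_add_eq_zero_left h1).trans (ZModModule.neg_eq_self _)
    have e : ρ (x * y) (ρ (x * y) v) = ρ x (ρ x (ρ y v)) + ρ x (ρ x v) := by
      rw [← map_add, ← map_add, ← hyy, ← rho_mul, ← rho_mul, ← rho_mul, ← rho_mul]
      congr 2
      calc x * y * (x * y) = x * (y * x) * y := by group
        _ = x * (x * y) * y := by rw [hab y hy x hx]
        _ = x * x * y * y := by simp only [mul_assoc]
    rw [e, hxx, hxx0, rho_mul] at h3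
    have h4 : ρ x v + ρ y v = 0 := by
      rw [← h3]
      generalize ρ x (ρ y v) = a
      generalize ρ x v = b
      generalize ρ y v = c
      calc b + c = (a + a) + (v + v) + (b + c) := by
            rw [ZModModule.add_self, ZModModule.add_self, zero_add, zero_add]
        _ = _ := by abel
    exact (eq_neg_of_add_eq_zero_left h4).trans (ZModModule.neg_eq_self _)
  have hcN : Nat.card N ≤ 3 := by
    let f : N → Fin 3 := fun a => if (a : X) = 1 then 0 else if (a : X) = x then 1 else 2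
    refine le_trans (Nat.card_le_card_of_injective f ?_) (le_of_eq (Nat.card_fin 3))
    intro a b e
    have hinv : ∀ c : N, (c : X) ≠ 1 → (c : X) ≠ x → (c : X) = x⁻¹ := fun c h1 h2 => by
      by_contra h
      exact h2 (key c c.2 h1 fun e => h (eq_inv_of_mul_eq_one_right e)).symm
    apply Subtype.ext
    simp only [f] at e
    split_ifs at e with h1 h2 h3 h4 h5 h6 <;>
      first
      | exact absurd e (by decide)
      | (simp_all; done)
      | exact (hinv a (by assumption) (by assumption)).trans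
          (hinv b (by assumption) (by assumption)).symm
  set C := Subgroup.centralizer ({x} : Set X) with hC
  have hidx : C.index ≤ 2 := (index_centralizer_le hN hx hx1).trans (by omega)
  have hCc : Nat.card C ≤ centBound m := by
    obtain ⟨-, h⟩ := count B (ρ x) hS.alt (fun u v => hS.inv x u v)
      (rel_three (hN3 x hx) (hsemi x hx hx1)) m ⊤ (fun w _ => trivial)
      (fun w _ h => hS.nd w fun u => h u trivial) (by
        rw [← hV]; exact Nat.card_congr (LinearEquiv.ofTop (⊤ : Submodule (ZMod 2) V) rfl).toEquiv)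
    refine le_of_eq_of_le ?_ (h (C.map ρ) ?_ ?_ (fun g _ w _ => trivial) ?_)
    · exact Nat.card_congr (C.equivMapOfInjective ρ hρ).toEquiv
    · rintro _ ⟨g, -, rfl⟩ u v
      exact hS.inv g u v
    · rintro _ ⟨g, hg, rfl⟩ v
      rw [← rho_mul, Subgroup.mem_centralizer_singleton_iff.mp hg, rho_mul]
    · rintro _ ⟨g, -, rfl⟩ v hv
      have : v = 0 := hS.nd v fun w => by rw [← hS.alt.neg_eq, hv w trivial, neg_zero]
      rw [this, map_zero]
  rcases hm with rfl | rfl
  · have hXle : Nat.card X ≤ 36 := by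
      rw [← C.card_mul_index]
      exact le_trans (Nat.mul_le_mul hCc hidx) (le_of_eq (by decide))
    refine fun Y => le_trans ?_ (by norm_num : 27 ≤ 3 ^ (2 ^ 2 - 1))
    by_cases hY : Y = ⊤
    · subst hY
      rw [kc_congr Subgroup.topEquiv]
      by_cases hc : ∀ a b : X, a * b = b * a
      · refine (kc_le_card X).trans (le_trans ?_ (show centBound 2 ≤ 27 by decide))
        refine le_trans (le_of_eq ?_) hCc
        rw [show C = ⊤ from eq_top_iff.mpr fun g _ =>
          Subgroup.mem_centralizer_singleton_iff.mpr (hc g x), Subgroup.card_top]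
      · have := kc_le_five_eighths hc
        omega
    · refine (kc_le_card Y).trans ?_
      have h1 := Subgroup.one_lt_index_of_ne_top hY
      have h2 : Nat.card Y * 2 ≤ 36 :=
        le_trans (Nat.mul_le_mul_left _ h1) (Y.card_mul_index.le.trans hXle)
      omega
  · refine Cb.of_card (le_trans ?_ (by norm_num : 1296 ≤ 3 ^ (2 ^ 3 - 1)))
    rw [← C.card_mul_index]
    exact le_trans (Nat.mul_le_mul hCc hidx) (le_of_eq (by decide))

theorem semi_five (hρ : Function.Injective ρ) (hS : Symp ρ B) (hV : Nat.card V = 4 ^ 2) {N : Subgroup X}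
    (hN : N.Normal) {x : X} (hxN : x ∈ N) (hx1 : x ≠ 1) (hx5 : x ^ 5 = 1)
    (hsemi : ∀ a ∈ N, a ≠ 1 → ∀ v, ρ a v = v → v = 0) (hN5 : Nat.card N = 5) : Nat.card X ≤ 20 := by
  classical
  have hV' : Nat.card V = 2 ^ 4 := by rw [hV]; norm_num
  set C := Subgroup.centralizer ({x} : Set X) with hC
  have hxo : orderOf x = 5 := (Nat.prime_five.eq_one_or_self_of_dvd _ (orderOf_dvd_of_pow_eq_one hx5)
    ).resolve_left fun h => hx1 (orderOf_eq_one_iff.mp h)
  have hU : ∀ U : Submodule (ZMod 2) V, (∀ v ∈ U, ρ x v ∈ U) → U ≠ ⊥ → U = ⊤ := by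
    intro U hU hU0
    have hinv : ∀ h ∈ Subgroup.zpowers x, ∀ v ∈ U, ρ h v ∈ U := by
      intro h hh
      rw [mem_zpowers_iff_mem_range_orderOf, Finset.mem_image] at hh
      obtain ⟨k, -, rfl⟩ := hh
      induction k with
      | zero => intro v hv; rwa [pow_zero, rho_one]
      | succ k ih => intro v hv; rw [pow_succ', rho_mul]; exact hU _ (ih v hv)
    have h := card_dvd_of_free (ρ := ρ) (Subgroup.zpowers x) U hinv fun h hh v _ hv e => by
      by_contra h1
      exact hv (hsemi h (Subgroup.zpowers_le.mpr hxN hh) h1 v e)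
    rw [Nat.card_zpowers, hxo] at h
    obtain ⟨a, ha, hUa⟩ := card_sub_eq U hV'
    rw [hUa] at h
    interval_cases a <;> norm_num at h
    · exact absurd ((Submodule.eq_bot_iff _).mpr fun v hv => by
        haveI : Subsingleton U := (Nat.card_eq_one_iff_unique.mp (by rw [hUa, pow_zero])).1
        exact congrArg Subtype.val (Subsingleton.elim (⟨v, hv⟩ : U) 0)) hU0
    · exact Submodule.toAddSubgroup_injective (AddSubgroup.eq_top_of_card_eq _ (hUa.trans hV'.symm))
  have hfree : ∀ g ∈ C, ∀ v : V, v ≠ 0 → ρ g v = v → g = 1 := by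
    intro g hg v hv e
    let U : Submodule (ZMod 2) V := LinearMap.eqLocus (ρ g : V →ₗ[ZMod 2] V) LinearMap.id
    have htop := hU U (fun w (hw : ρ g w = w) => by
      show ρ g (ρ x w) = ρ x w
      rw [← rho_mul, Subgroup.mem_centralizer_singleton_iff.mp hg, rho_mul, hw])
      (fun h => hv ((Submodule.eq_bot_iff _).mp h v e))
    refine hρ (LinearEquiv.ext fun w => ?_)
    rw [rho_one]
    exact (htop ▸ Submodule.mem_top : w ∈ U)
  have hdvd : Nat.card C ∣ 15 := by
    have h := card_dvd_of_free (ρ := ρ) C ⊤ (fun _ _ _ _ => trivial) (fun g hg v _ => hfree g hg v)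
    rwa [Nat.card_congr (LinearEquiv.ofTop (⊤ : Submodule (ZMod 2) V) rfl).toEquiv, hV',
      show (2 : ℕ) ^ 4 - 1 = 15 by norm_num] at h
  have hxC : x ∈ C := Subgroup.mem_centralizer_singleton_iff.mpr rfl
  have h5 : 5 ∣ Nat.card C := hxo ▸ Subgroup.orderOf_dvd_natCard C hxC
  have hC15 : Nat.card C ≠ 15 := by
    intro h15
    obtain ⟨a, ha⟩ : ∃ a : V, a ≠ 0 := by
      haveI : Nontrivial V := Finite.one_lt_card_iff_nontrivial.mp (by rw [hV]; norm_num)
      exact exists_ne 0
    haveI := Fintype.ofFinite V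
    have hsurj : ∀ v : V, v ≠ 0 → ∃ g ∈ C, ρ g a = v := by
      have hb : Function.Bijective (fun g : C => (⟨ρ g a, fun e => ha
          ((map_eq_zero_iff _ (ρ (g : X)).injective).mp e)⟩ : {v : V // v ≠ 0})) := by
        rw [Nat.bijective_iff_injective_and_card]
        refine ⟨fun g h e => ?_, ?_⟩
        · have e' : ρ g a = ρ h a := congrArg Subtype.val e
          have h1 := hfree ((h : X)⁻¹ * g) (mul_mem (inv_mem h.2) g.2) a ha (by
            rw [rho_mul, e', ← rho_mul, inv_mul_cancel, rho_one])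
          exact Subtype.ext (inv_mul_eq_one.mp h1).symm
        · rw [h15, Nat.card_eq_fintype_card, Fintype.card_subtype_compl, Fintype.card_subtype_eq,
            ← Nat.card_eq_fintype_card, hV]
          norm_num
      intro v hv
      obtain ⟨g, hg⟩ := hb.2 ⟨v, hv⟩
      exact ⟨g, g.2, congrArg Subtype.val hg⟩
    let β : V → ZMod 2 := fun v => B v (ρ x v)
    have hβ : ∀ v, v ≠ 0 → β v = β a := by
      intro v hv
      obtain ⟨g, hg, rfl⟩ := hsurj v hv
      show B (ρ g a) (ρ x (ρ g a)) = B a (ρ x a)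
      rw [← rho_mul x g, ← Subgroup.mem_centralizer_singleton_iff.mp hg, rho_mul, hS.inv]
    have hadd : ∀ u v, β (u + v) = β u + β v + (B u (ρ x v) + B v (ρ x u)) := fun u v => by
      simp only [β, map_add, LinearMap.add_apply]
      ring
    have hP : ∀ u v : V, u ≠ 0 → v ≠ 0 → u ≠ v → B u (ρ x v) + B v (ρ x u) = β a := by
      intro u v hu hv huv
      have h := hadd u v
      rw [hβ _ (fun e => huv ((eq_neg_of_add_eq_zero_left e).trans (ZModModule.neg_eq_self _))), hβ u hu,
        hβ v hv] at h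
      generalize β a = c at h ⊢
      generalize B u (ρ x v) + B v (ρ x u) = q at h ⊢
      revert c q; decide
    obtain ⟨v, hv0, hva⟩ : ∃ v : V, v ≠ 0 ∧ v ≠ a := by
      by_contra h
      push Not at h
      have : Fintype.card V ≤ ({0, a} : Finset V).card := Finset.card_le_card fun w _ => by
        by_cases hw : w = 0
        · simp [hw]
        · simp [h w hw]
      rw [← Nat.card_eq_fintype_card, hV] at this
      have := this.trans Finset.card_le_two
      omega
    obtain ⟨w, hw0, hwa, hwv, hwav⟩ : ∃ w : V, w ≠ 0 ∧ w ≠ a ∧ w ≠ v ∧ w ≠ a + v := by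
      by_contra h
      push Not at h
      have : Fintype.card V ≤ ({0, a, v, a + v} : Finset V).card := Finset.card_le_card fun w _ => by
        simp only [Finset.mem_insert, Finset.mem_singleton]
        by_contra h'
        push Not at h'
        exact h'.2.2.2 (h w h'.1 h'.2.1 h'.2.2.1)
      rw [← Nat.card_eq_fintype_card, hV] at this
      have := this.trans Finset.card_le_four
      omega
    have hc : β a = 0 := by
      have h1 := hP a v ha hv0 hva.symm
      have h2 := hP a w ha hw0 hwa.symm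
      have h3 := hP a (v + w) ha
        (fun e => hwv ((eq_neg_of_add_eq_zero_right e).trans (ZModModule.neg_eq_self _)))
        (fun e => hwav (by rw [e, add_assoc, add_comm w v, ← add_assoc, ZModModule.add_self, zero_add]))
      simp only [map_add, LinearMap.add_apply] at h3
      generalize B a (ρ x v) = p at *
      generalize B a (ρ x w) = q at *
      generalize B v (ρ x a) = r at *
      generalize B w (ρ x a) = s at *
      clear hβ hP hadd
      generalize β a = c at *
      revert p q r s c; decide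
    have hsym : ∀ u v, B u v = B v u := fun u v => by
      rw [← hS.alt.neg_eq v u, ZModModule.neg_eq_self]
    have hβ0 : ∀ v, β v = 0 := fun v => by
      by_cases h : v = 0
      · simp [β, h]
      · rw [hβ v h, hc]
    have hsq : ρ (x * x) = 1 := LinearEquiv.ext fun v => by
      show ρ (x * x) v = v
      rw [← sub_eq_zero]
      refine hS.nd _ fun u => ?_
      have h := hadd u v
      rw [hβ0, hβ0, hβ0, add_zero, zero_add] at h
      have h' : B u (ρ x v) = B v (ρ x u) := by
        generalize B u (ρ x v) = p at h ⊢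
        generalize B v (ρ x u) = q at h ⊢
        revert p q; decide
      rw [map_sub, LinearMap.sub_apply, sub_eq_zero, rho_mul, hsym _ u]
      calc B u (ρ x (ρ x v)) = B (ρ x v) (ρ x u) := by
            have h2 := hadd u (ρ x v)
            rw [hβ0, hβ0, hβ0, add_zero, zero_add] at h2
            generalize B u (ρ x (ρ x v)) = p at h2 ⊢
            generalize B (ρ x v) (ρ x u) = q at h2 ⊢
            revert p q; decide
        _ = B v u := hS.inv x v u
    have h2 : x * x = 1 := hρ (hsq.trans (map_one ρ).symm)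
    have := orderOf_dvd_of_pow_eq_one (n := 2) (by rw [pow_two, h2] : x ^ 2 = 1)
    rw [hxo] at this
    norm_num at this
  have hC5 : Nat.card C ≤ 5 := by
    have := Nat.le_of_dvd (by norm_num) hdvd
    interval_cases (Nat.card C) <;> omega
  have hidx : C.index ≤ 4 := (index_centralizer_le hN hxN hx1).trans (by omega)
  rw [← C.card_mul_index]
  exact le_trans (Nat.mul_le_mul hC5 hidx) le_rfl

theorem semi_seven (hρ : Function.Injective ρ) (hS : Symp ρ B) (hV : Nat.card V = 4 ^ 3) {N : Subgroup X}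
    (hN : N.Normal) {x : X} (hxN : x ∈ N) (hx1 : x ≠ 1) (hx7 : x ^ 7 = 1)
    (hsemi : ∀ a ∈ N, a ≠ 1 → ∀ v, ρ a v = v → v = 0) (hN7 : Nat.card N = 7) : Nat.card X ≤ 294 := by
  classical
  have hV' : Nat.card V = 2 ^ 6 := by rw [hV]; norm_num
  set C := Subgroup.centralizer ({x} : Set X) with hC
  have hxo : orderOf x = 7 :=
    ((by norm_num : Nat.Prime 7).eq_one_or_self_of_dvd _ (orderOf_dvd_of_pow_eq_one hx7)
      ).resolve_left fun h => hx1 (orderOf_eq_one_iff.mp h)
  have hfpf : ∀ v, ρ x v = v → v = 0 := hsemi x hxN hx1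
  have hU : ∀ U : Submodule (ZMod 2) V, (∀ v ∈ U, ρ x v ∈ U) → U ≠ ⊥ → U ≠ ⊤ → Nat.card U = 8 := by
    intro U hU hU0 hU1
    have hinv : ∀ h ∈ Subgroup.zpowers x, ∀ v ∈ U, ρ h v ∈ U := by
      intro h hh
      rw [mem_zpowers_iff_mem_range_orderOf, Finset.mem_image] at hh
      obtain ⟨k, -, rfl⟩ := hh
      induction k with
      | zero => intro v hv; rwa [pow_zero, rho_one]
      | succ k ih => intro v hv; rw [pow_succ', rho_mul]; exact hU _ (ih v hv)
    have h := card_dvd_of_free (ρ := ρ) (Subgroup.zpowers x) U hinv fun h hh v _ hv e => by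
      by_contra h1
      exact hv (hsemi h (Subgroup.zpowers_le.mpr hxN hh) h1 v e)
    rw [Nat.card_zpowers, hxo] at h
    obtain ⟨a, ha, hUa⟩ := card_sub_eq U hV'
    rw [hUa] at h
    interval_cases a <;> norm_num at h
    · exact absurd ((Submodule.eq_bot_iff _).mpr fun v hv => by
        haveI : Subsingleton U := (Nat.card_eq_one_iff_unique.mp (by rw [hUa, pow_zero])).1
        exact congrArg Subtype.val (Subsingleton.elim (⟨v, hv⟩ : U) 0)) hU0
    · rw [hUa]; norm_num
    · exact absurd (Submodule.toAddSubgroup_injective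
        (AddSubgroup.eq_top_of_card_eq _ (hUa.trans hV'.symm))) hU1
  let u1 : V →ₗ[ZMod 2] V := (ρ (x ^ 3) : V →ₗ[ZMod 2] V) + (ρ x : V →ₗ[ZMod 2] V) + LinearMap.id
  let u2 : V →ₗ[ZMod 2] V := (ρ (x ^ 3) : V →ₗ[ZMod 2] V) + (ρ (x ^ 2) : V →ₗ[ZMod 2] V) + LinearMap.id
  have hu1 : ∀ v, u1 v = ρ (x ^ 3) v + ρ x v + v := fun v => rfl
  have hu2 : ∀ v, u2 v = ρ (x ^ 3) v + ρ (x ^ 2) v + v := fun v => rfl
  have hsum : ∀ v : V, (∑ i ∈ Finset.range 7, ρ (x ^ i) v) = 0 := fun v => hfpf _ (by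
    rw [map_sum, Finset.sum_congr rfl fun i _ => (show ρ x (ρ (x ^ i) v) = ρ (x ^ (i + 1)) v by
      rw [← rho_mul, ← pow_succ'])]
    simp only [Finset.sum_range_succ, Finset.sum_range_zero]
    rw [hx7, pow_zero, rho_one]
    abel)
  have h12 : ∀ v, u1 (u2 v) = 0 := by
    intro v
    have h := hsum v
    simp only [Finset.sum_range_succ, Finset.sum_range_zero, pow_zero, rho_one, pow_one] at h
    rw [hu1, hu2]
    simp only [map_add, ← rho_mul, ← pow_add, ← pow_succ']
    simp only [Nat.reduceAdd, zero_add] at h ⊢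
    calc _ = (v + ρ x v + ρ (x ^ 2) v + ρ (x ^ 3) v + ρ (x ^ 4) v + ρ (x ^ 5) v + ρ (x ^ 6) v) +
          (ρ (x ^ 3) v + ρ (x ^ 3) v) := by abel
      _ = _ := by rw [h, ZModModule.add_self, add_zero]
  have hsym : ∀ u v, B u v = B v u := fun u v => by
    rw [← hS.alt.neg_eq v u, ZModModule.neg_eq_self]
  have hadj : ∀ u v, B (u2 u) (ρ (x ^ 3) v) = B u (u1 v) := by
    intro u v
    rw [hu2, hu1]
    simp only [map_add, LinearMap.add_apply]
    have e : ρ (x ^ 3) v = ρ (x ^ 2) (ρ x v) := by rw [← rho_mul, ← pow_succ]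
    rw [hS.inv (x ^ 3)]
    conv_lhs => arg 1; arg 2; rw [e, hS.inv (x ^ 2)]
    abel
  have h21 : ∀ v, u2 (u1 v) = 0 := fun v => by
    rw [← h12 v, hu1, hu2, hu2, hu1]
    simp only [map_add, ← rho_mul, ← pow_add, ← pow_succ, ← pow_succ', Nat.reduceAdd]
    abel
  have h10 : LinearMap.ker u1 ≠ ⊥ := by
    intro e
    have hz : ∀ v, u2 v = 0 := fun v => LinearMap.ker_eq_bot.mp e ((h12 v).trans (map_zero u1).symm)
    have hz1 : ∀ v, u1 v = 0 := fun v => hS.nd _ fun u => by
      rw [hsym, ← hadj, hz, map_zero, LinearMap.zero_apply]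
    haveI : Nontrivial V := Finite.one_lt_card_iff_nontrivial.mp (by rw [hV]; norm_num)
    obtain ⟨v, hv⟩ := exists_ne (0 : V)
    exact hv ((Submodule.eq_bot_iff _).mp e v (hz1 v))
  have h1t : ¬ ∀ v, u1 v = 0 := by
    intro hz1
    have hz2 : ∀ v, u2 v = 0 := fun v => hS.nd _ fun u => by
      have := hadj v (ρ (x ^ 3)⁻¹ u)
      rw [hz1, map_zero, ← rho_mul, mul_inv_cancel, rho_one] at this
      exact this
    haveI : Nontrivial V := Finite.one_lt_card_iff_nontrivial.mp (by rw [hV]; norm_num)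
    obtain ⟨v, hv⟩ := exists_ne (0 : V)
    refine hv ?_
    have h := (hu1 v).symm.trans (hz1 v)
    have h' := (hu2 v).symm.trans (hz2 v)
    have h3 : ρ x v + ρ (x ^ 2) v = 0 := by
      calc ρ x v + ρ (x ^ 2) v = (ρ (x ^ 3) v + ρ x v + v) + (ρ (x ^ 3) v + ρ (x ^ 2) v + v) := by
            calc _ = (ρ (x ^ 3) v + ρ (x ^ 3) v) + (v + v) + (ρ x v + ρ (x ^ 2) v) := by
                  rw [ZModModule.add_self, ZModModule.add_self, zero_add, zero_add]
              _ = _ := by abel
        _ = 0 := by rw [h, h', add_zero]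
    refine (map_eq_zero_iff _ (ρ x).injective).mp (hfpf _ ?_)
    rw [← rho_mul, ← pow_two]
    exact ((eq_neg_of_add_eq_zero_left h3).trans (ZModModule.neg_eq_self _)).symm
  have h1t' : LinearMap.ker u1 ≠ ⊤ := fun e => h1t fun v => LinearMap.mem_ker.mp (e ▸ Submodule.mem_top)
  have h20 : LinearMap.ker u2 ≠ ⊥ := by
    intro e
    exact h1t fun v => LinearMap.ker_eq_bot.mp e ((h21 v).trans (map_zero u2).symm)
  have h2t : LinearMap.ker u2 ≠ ⊤ := by
    intro e
    refine h1t fun v => hS.nd _ fun u => ?_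
    rw [hsym, ← hadj, LinearMap.mem_ker.mp (e ▸ Submodule.mem_top : u ∈ LinearMap.ker u2), map_zero,
      LinearMap.zero_apply]
  have hcomm : ∀ g ∈ C, ∀ k : ℕ, ∀ v, ρ g (ρ (x ^ k) v) = ρ (x ^ k) (ρ g v) := fun g hg k v => by
    rw [← rho_mul, ← rho_mul]
    congr 2
    exact (Commute.pow_right (show Commute g x from Subgroup.mem_centralizer_singleton_iff.mp hg) k).eq
  have hcomm1 : ∀ g ∈ C, ∀ v, ρ g (ρ x v) = ρ x (ρ g v) := fun g hg v => by
    simpa using hcomm g hg 1 v
  have hinv1 : ∀ g ∈ C, ∀ v ∈ LinearMap.ker u1, ρ g v ∈ LinearMap.ker u1 := fun g hg v hv => by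
    rw [LinearMap.mem_ker] at hv ⊢
    rw [hu1, ← hcomm g hg 3, ← hcomm1 g hg, ← map_add, ← map_add, ← hu1, hv, map_zero]
  have hinv2 : ∀ g ∈ C, ∀ v ∈ LinearMap.ker u2, ρ g v ∈ LinearMap.ker u2 := fun g hg v hv => by
    rw [LinearMap.mem_ker] at hv ⊢
    rw [hu2, ← hcomm g hg 3, ← hcomm g hg 2, ← map_add, ← map_add, ← hu2, hv, map_zero]
  have hxC : x ∈ C := Subgroup.mem_centralizer_singleton_iff.mpr rfl
  set W1 := LinearMap.ker u1 with hW1
  set W2 := LinearMap.ker u2 with hW2
  have c1 := hU W1 (fun v hv => hinv1 x hxC v hv) h10 h1t'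
  have c2 := hU W2 (fun v hv => hinv2 x hxC v hv) h20 h2t
  obtain ⟨a, ha, ha0⟩ := Submodule.exists_mem_ne_zero_of_ne_bot h10
  obtain ⟨b, hb, hb0⟩ := Submodule.exists_mem_ne_zero_of_ne_bot h20
  have hdisj : W1 ⊓ W2 = ⊥ := by
    rw [Submodule.eq_bot_iff]
    rintro v ⟨h, h'⟩
    have e1 : ρ (x ^ 3) v + ρ x v + v = 0 := LinearMap.mem_ker.mp h
    have e2 : ρ (x ^ 3) v + ρ (x ^ 2) v + v = 0 := LinearMap.mem_ker.mp h'
    have h3 : ρ x v = ρ (x ^ 2) v := add_left_cancel (add_right_cancel (e1.trans e2.symm))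
    refine (map_eq_zero_iff _ (ρ x).injective).mp (hfpf _ ?_)
    rw [← rho_mul, ← pow_two, ← h3]
  -- an element of `C` is determined by the images of `a` and `b`
  have hinj : Function.Injective fun g : C =>
      ((⟨⟨ρ g a, hinv1 g g.2 a ha⟩, fun e => ha0 ((map_eq_zero_iff _ (ρ (g : X)).injective).mp
          (congrArg Subtype.val e))⟩ : {v : W1 // v ≠ 0}),
       (⟨⟨ρ g b, hinv2 g g.2 b hb⟩, fun e => hb0 ((map_eq_zero_iff _ (ρ (g : X)).injective).mp
          (congrArg Subtype.val e))⟩ : {v : W2 // v ≠ 0})) := by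
    intro g h e
    simp only [Prod.mk.injEq, Subtype.mk.injEq] at e
    let U : Submodule (ZMod 2) V :=
      LinearMap.eqLocus (ρ (g : X) : V →ₗ[ZMod 2] V) (ρ (h : X) : V →ₗ[ZMod 2] V)
    have hUx : ∀ v ∈ U, ρ x v ∈ U := fun v (hv : ρ g v = ρ h v) => by
      show ρ g (ρ x v) = ρ h (ρ x v)
      rw [hcomm1 g g.2, hcomm1 h h.2, hv]
    have hfull : ∀ (W : Submodule (ZMod 2) V), (∀ v ∈ W, ρ x v ∈ W) → Nat.card W = 8 →
        ∀ c ∈ W, c ≠ 0 → c ∈ U → W ≤ U := by
      intro W hWx hWc c hc hc0 hcU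
      by_cases hWU : W ⊓ U = ⊤
      · exact fun v _ => (hWU ▸ Submodule.mem_top : v ∈ W ⊓ U).2
      have h8 := hU (W ⊓ U) (fun v hv => ⟨hWx v hv.1, hUx v hv.2⟩)
        (fun e' => hc0 ((Submodule.eq_bot_iff _).mp e' c ⟨hc, hcU⟩)) hWU
      intro v hv
      have heq : (W ⊓ U).toAddSubgroup = W.toAddSubgroup :=
        AddSubgroup.eq_of_le_of_card_ge (fun z hz => hz.1) (le_of_eq (hWc.trans h8.symm))
      have : v ∈ (W ⊓ U).toAddSubgroup := by rw [heq]; exact hv
      exact this.2
    have l1 := hfull W1 (fun v hv => hinv1 x hxC v hv) c1 a ha ha0 e.1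
    have l2 := hfull W2 (fun v hv => hinv2 x hxC v hv) c2 b hb hb0 e.2
    have htop : W1 ⊔ W2 = ⊤ := by
      haveI : Module.Finite (ZMod 2) V := Module.Finite.of_finite
      refine Submodule.eq_top_of_finrank_eq ?_
      have hf := Submodule.finrank_sup_add_finrank_inf_eq W1 W2
      rw [hdisj, finrank_bot, add_zero] at hf
      have hd : ∀ W : Submodule (ZMod 2) V, Nat.card W = 8 → Module.finrank (ZMod 2) W = 3 := fun W hW => by
        have h := Module.natCard_eq_pow_finrank (K := ZMod 2) (V := W)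
        rw [hW, Nat.card_zmod] at h
        exact (Nat.pow_right_injective le_rfl ((show (2 : ℕ) ^ 3 = 8 by norm_num).trans h)).symm
      rw [hd _ c1, hd _ c2] at hf
      have h := Module.natCard_eq_pow_finrank (K := ZMod 2) (V := V)
      rw [hV', Nat.card_zmod] at h
      rw [hf, ← Nat.pow_right_injective le_rfl h]
    refine Subtype.ext (hρ (LinearEquiv.ext fun v => ?_))
    exact (sup_le l1 l2 : W1 ⊔ W2 ≤ U) (htop ▸ Submodule.mem_top)
  have hCc : Nat.card C ≤ 49 := by
    refine (Nat.card_le_card_of_injective _ hinj).trans (le_of_eq ?_)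
    haveI := Fintype.ofFinite W1
    haveI := Fintype.ofFinite W2
    rw [Nat.card_prod, Nat.card_eq_fintype_card, Nat.card_eq_fintype_card, Fintype.card_subtype_compl,
      Fintype.card_subtype_compl, Fintype.card_subtype_eq, Fintype.card_subtype_eq,
      ← Nat.card_eq_fintype_card, ← Nat.card_eq_fintype_card, c1, c2]
  have hidx : C.index ≤ 6 := (index_centralizer_le hN hxN hx1).trans (by omega)
  rw [← C.card_mul_index]
  exact le_trans (Nat.mul_le_mul hCc hidx) le_rfl

theorem cb_two_small (hX : Group.IsSolvable X) (hρ : Function.Injective ρ) (hS : Symp ρ B)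
    (hirr : ∀ W, SInv ρ W → W = ⊥ ∨ W = ⊤) {m : ℕ} (hm : m = 2 ∨ m = 3) (hV : Nat.card V = 4 ^ m) :
    Cb X (3 ^ (2 ^ m - 1)) := by
  rcases subsingleton_or_nontrivial X with h | h
  · exact Cb.of_subsingleton.mono (Nat.one_le_pow _ _ (by norm_num))
  rcases blocks_or_semiregular hX hρ hS hirr hV with
    ⟨d, t, ht, hd, hdt, hcb⟩ | ⟨r, N, hr, hr2, hN, ⟨k, hk⟩, hN1, hab, hexp, hsemi⟩
  · have hd1 : d = 1 := by
      by_contra h
      have h4 := Nat.mul_le_mul (show 2 ≤ d by omega) ht
      omega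
    subst hd1
    rw [one_mul] at hdt
    subst hdt
    refine (hcb rfl).mono ?_
    rcases hm with rfl | rfl <;> decide
  have hk0 : k ≠ 0 := fun e => hN1 (Subgroup.eq_bot_of_card_eq N (by rw [hk, e, pow_zero]))
  have hdvd : r ^ k ∣ 4 ^ m - 1 := by
    have h := card_dvd_of_free (ρ := ρ) N ⊤ (fun _ _ _ _ => trivial) fun g hg v _ hv e => by
      by_contra h1
      exact hv (hsemi g hg h1 v e)
    rwa [Nat.card_congr (LinearEquiv.ofTop (⊤ : Submodule (ZMod 2) V) rfl).toEquiv, hV, hk] at h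
  have hrd : r ∣ 4 ^ m - 1 := (dvd_pow_self r hk0).trans hdvd
  by_cases h3 : r = 3
  · subst h3
    exact semi_three hρ hS hm hV hN hexp hN1 hab hsemi
  obtain ⟨x, hxN, hx1⟩ := (Subgroup.bot_or_exists_ne_one N).resolve_left hN1
  have hne3 : ∀ j, ¬ r ∣ 3 ^ j := fun j hj =>
    h3 ((Nat.prime_dvd_prime_iff_eq hr Nat.prime_three).mp (hr.dvd_of_dvd_pow hj))
  have hk2 : ∀ j q : ℕ, q.Prime → ¬ q * q ∣ 3 ^ j * q → r ^ k ∣ 3 ^ j * q → r = q ∧ r ^ k = r := by
    intro j q hq hqq hdvd'
    have hrq : r = q := (Nat.prime_dvd_prime_iff_eq hr hq).mp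
      ((hr.dvd_mul.mp ((dvd_pow_self r hk0).trans hdvd')).resolve_left (hne3 j))
    refine ⟨hrq, ?_⟩
    rcases Nat.lt_or_ge k 2 with h2 | h2
    · rw [show k = 1 by omega, pow_one]
    · refine absurd ((show r * r ∣ r ^ k from ?_).trans hdvd') (hrq ▸ hqq)
      rw [← pow_two]; exact pow_dvd_pow r h2
  rcases hm with rfl | rfl
  · obtain ⟨h5, hk1⟩ := hk2 1 5 Nat.prime_five (by norm_num) hdvd
    subst h5
    exact Cb.of_card ((semi_five hρ hS hV hN hxN hx1 (hexp x hxN) hsemi (hk.trans hk1)).trans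
      (by norm_num))
  · obtain ⟨h7, hk1⟩ := hk2 2 7 (by norm_num) (by norm_num) hdvd
    subst h7
    exact Cb.of_card ((semi_seven hρ hS hV hN hxN hx1 (hexp x hxN) hsemi (hk.trans hk1)).trans
      (by norm_num))

end CfsgLib.KR
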