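import Mathlib
import Cfsg.Agent.Lib.KR.SympTwo

/-!
A solvable symplectic group without invariant totally isotropic subspace on a space of order `e ^ 2`:
every subgroup has at most `3 ^ (e - 1)` classes.
-/

set_option autoImplicit false
set_option linter.style.haveILetI false

namespace CfsgLib.KR

universe u

variable {p : ℕ} [hp : Fact p.Prime]

theorem cube_le {q : ℕ} (hq : 7 ≤ q) : q ^ 3 ≤ 3 ^ (q - 1) := by
  induction q, hq using Nat.le_induction with
  | base => norm_num
  | succ n hn ih =>
    rw [show n + 1 - 1 = (n - 1) + 1 by omega, pow_succ]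
    calc (n + 1) ^ 3 ≤ 3 * n ^ 3 := by nlinarith [Nat.mul_le_mul hn hn]
      _ ≤ 3 * 3 ^ (n - 1) := Nat.mul_le_mul_left _ ih
      _ = _ := mul_comm _ _

theorem six_le {q : ℕ} (hq : 17 ≤ q) : q ^ 6 ≤ 3 ^ (q - 1) := by
  induction q, hq using Nat.le_induction with
  | base => norm_num
  | succ n hn ih =>
    rw [show n + 1 - 1 = (n - 1) + 1 by omega, pow_succ (3 : ℕ)]
    have h6 : (n + 1) ^ 6 ≤ 3 * n ^ 6 := by
      have h : 6 * (n + 1) ≤ 7 * n := by omega
      have h2 : (6 * (n + 1)) ^ 6 ≤ (7 * n) ^ 6 := Nat.pow_le_pow_left h 6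
      rw [mul_pow, mul_pow] at h2
      norm_num at h2
      omega
    calc (n + 1) ^ 6 ≤ 3 * n ^ 6 := h6
      _ ≤ 3 * 3 ^ (n - 1) := Nat.mul_le_mul_left _ ih
      _ = _ := mul_comm _ _

theorem exp_add_le {a b : ℕ} (ha : 1 ≤ a) (hb : 1 ≤ b) : (a - 1) + (b - 1) ≤ a * b - 1 := by
  obtain ⟨a, rfl⟩ := Nat.exists_eq_add_of_le ha
  obtain ⟨b, rfl⟩ := Nat.exists_eq_add_of_le hb
  have : (1 + a) * (1 + b) = 1 + a + b + a * b := by ring
  omega

theorem symp_good : ∀ (n : ℕ) (X : Type u) [Group X] [Finite X], Group.IsSolvable X →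
    ∀ (V : Type u) [AddCommGroup V] [Module (ZMod p) V] [Finite V], Nat.card V = n →
    ∀ (B : LinearMap.BilinForm (ZMod p) V) (ρ : X →* (V ≃ₗ[ZMod p] V)), Function.Injective ρ →
    Symp ρ B → ∃ m, Nat.card V = p ^ (2 * m) ∧ Cb X (3 ^ (p ^ m - 1)) := by
  intro n
  induction n using Nat.strong_induction_on with
  | _ n ih =>
  intro X _ _ hX V _ _ _ hn B ρ hρ hS
  classical
  haveI := hX
  haveI : Module.Finite (ZMod p) V := Module.Finite.of_finite
  by_cases hred : ∃ W, SInv ρ W ∧ W ≠ ⊥ ∧ W ≠ ⊤
  · obtain ⟨W, hW, hW0, hW1⟩ := hred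
    have hd := inf_perp_eq_bot hS hW
    have hc := sup_perp_eq_top hd
    have hW' := hW.perp hS
    have hW'1 : perp B W ≠ ⊤ := fun e => hW0 (by rw [e, inf_top_eq] at hd; exact hd)
    have hlt : ∀ U : Submodule (ZMod p) V, U ≠ ⊤ → Nat.card U < n := fun U hU => by
      rw [← hn]
      refine lt_of_le_of_ne (Finite.card_subtype_le _) fun e => hU ?_
      exact Submodule.toAddSubgroup_injective (AddSubgroup.eq_top_of_card_eq _ e)
    haveI : Finite (sres W hW).range := Finite.of_surjective _ (sres W hW).rangeRestrict_surjective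
    haveI : Finite (sres _ hW').range := Finite.of_surjective _ (sres _ hW').rangeRestrict_surjective
    obtain ⟨a, ha, hca⟩ := ih _ (hlt W hW1) (sres W hW).range
      (Group.isSolvable_of_surjective (sres W hW).rangeRestrict_surjective) W rfl _ _
      (sres W hW).range.subtype_injective (hS.res hW)
    obtain ⟨b, hb, hcb⟩ := ih _ (hlt _ hW'1) (sres _ hW').range
      (Group.isSolvable_of_surjective (sres _ hW').rangeRestrict_surjective) (perp B W) rfl _ _
      (sres _ hW').range.subtype_injective (hS.res hW')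
    refine ⟨a + b, ?_, ?_⟩
    · rw [← Nat.card_congr (Submodule.prodEquivOfIsCompl W (perp B W)
        ⟨disjoint_iff.mpr hd, codisjoint_iff.mpr hc⟩).toEquiv, Nat.card_prod, ha, hb, ← pow_add,
        mul_add]
    · have h := Cb.of_pair (sres W hW).rangeRestrict (sres _ hW').rangeRestrict hca hcb
        fun x h1 h2 => hρ (LinearEquiv.ext fun v => by
          have hv : v ∈ W ⊔ perp B W := hc ▸ Submodule.mem_top
          obtain ⟨w, hw, u, hu, rfl⟩ := Submodule.mem_sup.mp hv
          rw [map_add, map_one]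
          have e1 := congrArg Subtype.val (LinearEquiv.congr_fun (congrArg Subtype.val h1) ⟨w, hw⟩)
          have e2 := congrArg Subtype.val (LinearEquiv.congr_fun (congrArg Subtype.val h2) ⟨u, hu⟩)
          exact congrArg₂ (· + ·) e1 e2)
      refine h.mono ?_
      rw [← pow_add, pow_add p]
      refine Nat.pow_le_pow_right (by norm_num) ?_
      rw [add_comm]
      exact exp_add_le (Nat.one_le_pow _ _ hp.out.pos) (Nat.one_le_pow _ _ hp.out.pos)
  push Not at hred
  have hirr : ∀ W, SInv ρ W → W = ⊥ ∨ W = ⊤ := fun W hW => or_iff_not_imp_left.mpr (hred W hW)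
  obtain ⟨m, b, h1, h2, h3⟩ := CfsgLib.Forms.exists_symplectic_basis_nondeg B hS.alt hS.nd
  have hV : Nat.card V = p ^ (2 * m) := by
    rw [Nat.card_congr b.equivFun.toEquiv, Nat.card_fun, Nat.card_zmod, Nat.card_sum, Nat.card_fin,
      two_mul]
  refine ⟨m, hV, ?_⟩
  rcases Nat.eq_zero_or_pos m with hm0 | hmpos
  · subst hm0
    haveI : Subsingleton V := (Nat.card_eq_one_iff_unique.mp (by simpa using hV)).1
    haveI : Subsingleton X := ⟨fun g h => hρ (LinearEquiv.ext fun v => Subsingleton.elim _ _)⟩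
    exact Cb.of_subsingleton.mono (Nat.one_le_pow _ _ (by norm_num))
  haveI : Nontrivial V := Finite.one_lt_card_iff_nontrivial.mp
    (hV ▸ Nat.one_lt_pow (by omega) hp.out.one_lt)
  obtain ⟨f, hf⟩ := exists_symp_hom ρ hS.inv hS.alt b h1 h2 h3 hρ
  have hfr : ∀ B' : ℕ, Nat.card f.range ≤ B' → Nat.card X ≤ B' := fun B' h =>
    (Nat.card_congr (MonoidHom.ofInjective hf).toEquiv).le.trans h
  have hsr : Group.IsSolvable f.range := Group.isSolvable_of_surjective f.rangeRestrict_surjective
  rcases Nat.lt_or_ge m 2 with hm2 | hm2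
  · obtain rfl : m = 1 := by omega
    rw [pow_one]
    by_cases hp2 : p = 2
    · subst hp2
      let act : X →* Equiv.Perm {v : V // v ≠ 0} :=
        MonoidHom.toHomPerm
          { toFun := fun g v => ⟨ρ g v, fun e => v.2 ((map_eq_zero_iff _ (ρ g).injective).mp e)⟩
            map_one' := funext fun v => Subtype.ext (rho_one _)
            map_mul' := fun a b => funext fun v => Subtype.ext (rho_mul _ _ _) }
      refine (cb_of_three ?_ act fun g h e => hρ (LinearEquiv.ext fun v => ?_)).mono (by norm_num)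
      · haveI := Fintype.ofFinite V
        rw [Nat.card_eq_fintype_card, Fintype.card_subtype_compl, Fintype.card_subtype_eq,
          ← Nat.card_eq_fintype_card, hV]
        norm_num
      · by_cases hv : v = 0
        · simp [hv]
        · exact congrArg Subtype.val (Equiv.congr_fun e ⟨v, hv⟩)
    by_cases hp3 : p = 3
    · subst hp3
      obtain ⟨g, hg⟩ := exists_sl2_hom ρ hS.inv hS.alt (b.reindex finSumFinEquiv) (by
        simp only [Module.Basis.reindex_apply]
        exact (h1 0 0).trans (if_pos rfl)) hρ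
      exact (Cb.of_injective cb_sl2_three g hg).mono (by norm_num)
    by_cases hp5 : p = 5
    · subst hp5
      exact Cb.of_card ((hfr 60 (card_solvable_sp_one_five f.range hsr)).trans (by norm_num))
    have hp7 : 7 ≤ p := by
      have := hp.out.two_le
      by_contra h
      interval_cases p <;> first | omega | exact absurd hp.out (by norm_num)
    refine Cb.of_card (le_trans ?_ (cube_le hp7))
    set x := b (.inl 0)
    set y := b (.inr 0)
    have hinj : Function.Injective fun g : X =>
        (⟨(ρ g x, ρ g y), fun e => b.ne_zero (.inl 0) ((map_eq_zero_iff _ (ρ g).injective).mp e),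
          (hS.inv g x y).trans ((h1 0 0).trans (if_pos rfl))⟩ :
          {q : V × V // q.1 ≠ 0 ∧ B q.1 q.2 = 1}) := by
      intro g h e
      simp only [Subtype.mk.injEq, Prod.mk.injEq] at e
      refine hρ (LinearEquiv.toLinearMap_injective (b.ext fun i => ?_))
      rcases i with i | i <;> obtain rfl := Subsingleton.elim i 0
      · exact e.1
      · exact e.2
    have hc := card_pairs_le (B := B) hS.nd 1
    rw [hV] at hc
    have := (Nat.mul_le_mul_left p (Nat.card_le_card_of_injective _ hinj)).trans hc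
    refine Nat.le_of_mul_le_mul_left (this.trans (le_of_eq ?_)) hp.out.pos
    ring
  by_cases hp22 : p = 2 ∧ (m = 2 ∨ m = 3)
  · obtain ⟨rfl, hm⟩ := hp22
    exact cb_two_small hX hρ hS hirr hm (by rw [hV, pow_mul]; norm_num)
  by_cases hp32 : p = 3 ∧ m = 2
  · obtain ⟨rfl, rfl⟩ := hp32
    exact Cb.of_card ((hfr 6561 (card_solvable_sp_two_three f.range hsr)).trans (by norm_num))
  obtain ⟨a, c, d, ha, hinj⟩ := exists_triple hX hρ hirr
  have hcube : Nat.card X ≤ (p ^ m) ^ 6 := by
    refine (Nat.card_le_card_of_injective _ hinj).trans (le_of_eq ?_)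
    rw [Nat.card_prod, Nat.card_prod, hV]
    ring
  by_cases hp24 : p = 2 ∧ m = 4
  · obtain ⟨rfl, rfl⟩ := hp24
    refine Cb.of_card ?_
    have hinj' : Function.Injective fun g : X =>
        ((⟨(ρ g a, ρ g c), fun e => ha ((map_eq_zero_iff _ (ρ g).injective).mp e), hS.inv g a c⟩ :
          {q : V × V // q.1 ≠ 0 ∧ B q.1 q.2 = B a c}), ρ g d) := fun g h e => hinj (by
      simp only [Prod.mk.injEq, Subtype.mk.injEq] at e
      show (ρ g a, ρ g c, ρ g d) = (ρ h a, ρ h c, ρ h d)
      rw [e.1.1, e.1.2, e.2])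
    have hb := Nat.card_le_card_of_injective _ hinj'
    rw [Nat.card_prod] at hb
    have hc := card_pairs_le (B := B) hS.nd (B a c)
    rw [hV] at hb hc
    norm_num at hb hc ⊢
    omega
  refine Cb.of_card (hcube.trans (six_le ?_))
  by_contra hlt
  have hp2 := hp.out.two_le
  have hpp : p ^ 2 ≤ p ^ m := Nat.pow_le_pow_right hp.out.pos hm2
  have hp4 : p ≤ 4 := by nlinarith
  have hm4 : m ≤ 4 := by
    by_contra h
    have h5 := (Nat.pow_le_pow_right (show 1 ≤ 2 by norm_num) (show 5 ≤ m by omega)).trans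
      (Nat.pow_le_pow_left hp2 m)
    omega
  interval_cases p <;> interval_cases m <;>
    first
    | (have := hp.out; norm_num at this; done)
    | norm_num at *

end CfsgLib.KR
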