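import Mathlib
import Cfsg.Agent.Lib.KR.SympMain

/-!
A solvable group on a finite abelian group with a pairing and no invariant isotropic subgroup.
-/

set_option autoImplicit false
set_option linter.style.haveILetI false

namespace CfsgLib.KR

universe u

theorem sum_sub_one_le {ι : Type*} (s : Finset ι) (f : ι → ℕ) (hf : ∀ i ∈ s, 1 ≤ f i) :
    ∑ i ∈ s, (f i - 1) ≤ (∏ i ∈ s, f i) - 1 := by
  classical
  induction s using Finset.induction_on with
  | empty => simp
  | insert a s ha ih =>
    rw [Finset.sum_insert ha, Finset.prod_insert ha]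
    refine (Nat.add_le_add_left (ih fun i hi => hf i (Finset.mem_insert_of_mem hi)) _).trans
      (exp_add_le (hf a (Finset.mem_insert_self a s)) ?_)
    exact Finset.one_le_prod' fun i hi => hf i (Finset.mem_insert_of_mem hi)

variable {E : Type u} [CommGroup E] [Finite E]

/-- The elements killed by `p`. -/
def tors (E : Type u) [CommGroup E] (p : ℕ) : Subgroup E := (powMonoidHom p : E →* E).ker

theorem mem_tors {p : ℕ} {a : E} : a ∈ tors E p ↔ a ^ p = 1 := Iff.rfl

theorem pow_eq_one_of_squarefree (hsq : ∀ (q : ℕ) (a : E), q.Prime → a ^ (q * q) = 1 → a ^ q = 1)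
    {q : ℕ} (hq : q.Prime) : ∀ (k : ℕ) (a : E), a ^ q ^ k = 1 → a ^ q = 1 := by
  intro k
  induction k with
  | zero =>
    intro a h
    rw [pow_zero, pow_one] at h
    rw [h, one_pow]
  | succ k ih =>
    intro a h
    rw [pow_succ', pow_mul] at h
    refine hsq q a hq ?_
    rw [pow_mul]
    exact ih _ h

theorem card_tors (hsq : ∀ (q : ℕ) (a : E), q.Prime → a ^ (q * q) = 1 → a ^ q = 1) (p : ℕ)
    [hp : Fact p.Prime] : Nat.card (tors E p) = p ^ (Nat.card E).factorization p := by
  obtain ⟨P⟩ : Nonempty (Sylow p E) := inferInstance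
  have hPt : (P : Subgroup E) = tors E p := by
    refine le_antisymm (fun a ha => ?_) ?_
    · obtain ⟨k, hk⟩ := P.2 ⟨a, ha⟩
      exact pow_eq_one_of_squarefree hsq hp.out k a (congrArg Subtype.val hk)
    · exact IsPGroup.le_sylow_of_normal (fun a => ⟨1, Subtype.ext (by rw [pow_one]; exact a.2)⟩) P
  rw [← hPt, P.card_eq_multiplicity]

/-- Automorphisms of a group of prime exponent as linear maps. -/
def linAut {p : ℕ} {H G : Type u} [CommGroup H] [Group G] [Module (ZMod p) (Additive H)]
    (f : G →* MulAut H) : G →* (Additive H ≃ₗ[ZMod p] Additive H) where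
  toFun g :=
    { toFun := fun a => Additive.ofMul (f g (Additive.toMul a))
      invFun := fun a => Additive.ofMul ((f g).symm (Additive.toMul a))
      map_add' := fun a b => congrArg Additive.ofMul (map_mul (f g) _ _)
      map_smul' := fun c a => ZMod.map_smul (MonoidHom.toAdditive (f g).toMonoidHom) c a
      left_inv := fun a => congrArg Additive.ofMul ((f g).symm_apply_apply _)
      right_inv := fun a => congrArg Additive.ofMul ((f g).apply_symm_apply _) }
  map_one' := LinearEquiv.ext fun a => by
    show Additive.ofMul (f 1 (Additive.toMul a)) = a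
    rw [map_one]; rfl
  map_mul' g h := LinearEquiv.ext fun a => by
    show Additive.ofMul (f (g * h) (Additive.toMul a)) = Additive.ofMul (f g (f h (Additive.toMul a)))
    rw [map_mul]; rfl

/-- The class bound from a pairing. -/
theorem pairing_bound {X : Type u} [Group X] [Finite X] (hX : Group.IsSolvable X) {M : Type u} [CommRing M]
    [IsDomain M] (φ : X →* MulAut E) (hφ : Function.Injective φ) (β : E →* E →* Mˣ)
    (halt : ∀ a, β a a = 1) (hnd : ∀ a, (∀ b, β a b = 1) → a = 1)
    (hinv : ∀ x a b, β (φ x a) (φ x b) = β a b)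
    (hsq : ∀ (q : ℕ) (a : E), q.Prime → a ^ (q * q) = 1 → a ^ q = 1)
    (hiso : ∀ U : Subgroup E, (∀ x, ∀ a ∈ U, φ x a ∈ U) → (∀ a ∈ U, ∀ b ∈ U, β a b = 1) → U = ⊥) :
    ∃ e, Nat.card E = e ^ 2 ∧ Cb X (3 ^ (e - 1)) := by
  classical
  haveI := hX
  set P := (Nat.card E).primeFactors
  have hstab : ∀ p (x : X) (a : E), a ∈ tors E p → φ x a ∈ tors E p := fun p x a ha => by
    rw [mem_tors, ← map_pow, mem_tors.mp ha, map_one]
  let act : ∀ p : ℕ, X →* MulAut (tors E p) := fun p =>
    { toFun := fun x =>
        { toFun := fun a => ⟨φ x a, hstab p x a a.2⟩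
          invFun := fun a => ⟨φ x⁻¹ a, hstab p x⁻¹ a a.2⟩
          left_inv := fun a => Subtype.ext (by
            show (φ x⁻¹ * φ x) (a : E) = a
            rw [← map_mul, inv_mul_cancel, map_one]; rfl)
          right_inv := fun a => Subtype.ext (by
            show (φ x * φ x⁻¹) (a : E) = a
            rw [← map_mul, mul_inv_cancel, map_one]; rfl)
          map_mul' := fun a b => Subtype.ext (map_mul (φ x) _ _) }
      map_one' := by
        ext a
        show φ 1 (a : E) = a
        rw [map_one]; rfl
      map_mul' := fun x y => by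
        ext a
        show φ (x * y) (a : E) = φ x (φ y a)
        rw [map_mul]; rfl }
  have hgen : (⨆ p ∈ P, tors E p) = ⊤ := by
    refine Subgroup.eq_top_of_card_eq _ (Nat.dvd_antisymm (Subgroup.card_subgroup_dvd_card _) ?_)
    rw [← Nat.factorization_le_iff_dvd Nat.card_pos.ne' Nat.card_pos.ne']
    intro q
    by_cases hq : q ∈ P
    · haveI : Fact q.Prime := ⟨Nat.prime_of_mem_primeFactors hq⟩
      have h := Subgroup.card_dvd_of_le (le_biSup (fun p => tors E p) hq)
      rw [card_tors hsq q] at h
      exact ((Nat.prime_of_mem_primeFactors hq).pow_dvd_iff_le_factorization Nat.card_pos.ne').mp h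
    · rw [Nat.support_factorization (Nat.card E) |>.symm.subset.trans le_rfl |> fun _ =>
        Finsupp.notMem_support_iff.mp (show q ∉ (Nat.card E).factorization.support by
          rwa [Nat.support_factorization])]
      exact Nat.zero_le _
  have hker : ∀ x : X, (∀ p ∈ P, act p x = 1) → x = 1 := by
    intro x hx
    refine hφ (MulEquiv.ext fun a => ?_)
    rw [map_one]
    have hle : (⨆ p ∈ P, tors E p) ≤ (φ x : E ≃* E).toMonoidHom.eqLocus (MonoidHom.id E) :=
      iSup₂_le fun p hp b hb =>
        congrArg Subtype.val (DFunLike.congr_fun (hx p hp) (⟨b, hb⟩ : tors E p))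
    exact hle (hgen ▸ Subgroup.mem_top a)
  -- values on coprime parts
  have hcop : ∀ p q : ℕ, p.Prime → q.Prime → p ≠ q → ∀ a ∈ tors E p, ∀ b ∈ tors E q, β a b = 1 := by
    intro p q hp hq hne a ha b hb
    have h1 : β a b ^ p = 1 := by
      rw [← MonoidHom.pow_apply, ← map_pow, mem_tors.mp ha, map_one, MonoidHom.one_apply]
    have h2 : β a b ^ q = 1 := by rw [← map_pow, mem_tors.mp hb, map_one]
    have h := Nat.dvd_gcd (orderOf_dvd_of_pow_eq_one h1) (orderOf_dvd_of_pow_eq_one h2)
    rwa [(Nat.coprime_primes hp hq).mpr hne, Nat.dvd_one, orderOf_eq_one_iff] at h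
  have hblock : ∀ p ∈ P, ∃ m, (Nat.card E).factorization p = 2 * m ∧
      Cb (act p).range (3 ^ (p ^ m - 1)) := by
    intro p hp
    haveI : Fact p.Prime := ⟨Nat.prime_of_mem_primeFactors hp⟩
    have hp0 : ∀ a : Additive (tors E p), p • a = 0 := fun a =>
      congrArg Additive.ofMul (Subtype.ext (Additive.toMul a).2 : (Additive.toMul a) ^ p = 1)
    haveI iM : Module (ZMod p) (Additive (tors E p)) := AddCommGroup.zmodModule hp0
    have hndp : ∀ a : tors E p, (∀ b : tors E p, β (a : E) b = 1) → a = 1 := by
      intro a ha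
      refine Subtype.ext (hnd _ fun b => ?_)
      have hle : (⨆ q ∈ P, tors E q) ≤ (β (a : E)).ker := iSup₂_le fun q hq c hc => by
        by_cases hqp : q = p
        · subst hqp; exact ha ⟨c, hc⟩
        · exact hcop p q (Fact.out) (Nat.prime_of_mem_primeFactors hq) (Ne.symm hqp) _ a.2 c hc
      exact hle (hgen ▸ Subgroup.mem_top b)
    obtain ⟨a₀, b₀, hab₀⟩ : ∃ a b : tors E p, β (a : E) b ≠ 1 := by
      by_contra h
      push Not at h
      have hbot : ∀ a : tors E p, a = 1 := fun a => hndp a (h a)
      haveI : Subsingleton (tors E p) := ⟨fun a b => (hbot a).trans (hbot b).symm⟩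
      have h1 := card_tors hsq p
      rw [Nat.card_unique] at h1
      have h2 := (Fact.out : p.Prime).factorization_pos_of_dvd Nat.card_pos.ne'
        (Nat.dvd_of_mem_primeFactors hp)
      have h3 := Nat.one_lt_pow h2.ne' (Fact.out : p.Prime).one_lt
      omega
    set ζ := β (a₀ : E) b₀ with hζ
    have hpow : ∀ (a : tors E p) (b : E), β (a : E) b ^ p = 1 := fun a b => by
      rw [← MonoidHom.pow_apply, ← map_pow, mem_tors.mp a.2, map_one, MonoidHom.one_apply]
    have hprim : IsPrimitiveRoot ζ p :=
      IsPrimitiveRoot.iff_orderOf.mpr (orderOf_eq_prime (hpow a₀ b₀) hab₀)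
    have hmem : ∀ (a : tors E p) (b : E), β (a : E) b ∈ Subgroup.zpowers ζ := fun a b => by
      rw [hprim.zpowers_eq, mem_rootsOfUnity]
      exact hpow a b
    let lg : Additive (Subgroup.zpowers ζ) →+ ZMod p := hprim.zmodEquivZPowers.symm.toAddMonoidHom
    let bf : (Additive (tors E p)) → (Additive (tors E p)) → ZMod p := fun a b =>
      lg (Additive.ofMul ⟨β ((Additive.toMul a : tors E p) : E) ((Additive.toMul b : tors E p) : E),
        hmem _ _⟩)
    have hadd2 : ∀ a b c : (Additive (tors E p)), bf a (b + c) = bf a b + bf a c := fun a b c => by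
      simp only [bf]
      rw [← map_add]
      refine congrArg lg (congrArg Additive.ofMul (Subtype.ext ?_))
      exact map_mul (β ((Additive.toMul a : tors E p) : E)) _ _
    have hadd1 : ∀ a b c : (Additive (tors E p)), bf (a + b) c = bf a c + bf b c := fun a b c => by
      simp only [bf]
      rw [← map_add]
      refine congrArg lg (congrArg Additive.ofMul (Subtype.ext ?_))
      exact DFunLike.congr_fun (map_mul β _ _) _
    have hzero : ∀ a b : (Additive (tors E p)), bf a b = 0 ↔
        β ((Additive.toMul a : tors E p) : E) ((Additive.toMul b : tors E p) : E) = 1 := fun a b => by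
      simp only [bf, lg]
      rw [AddEquiv.coe_toAddMonoidHom, AddEquiv.map_eq_zero_iff]
      exact ⟨fun h => congrArg Subtype.val (congrArg Additive.toMul h),
        fun h => congrArg Additive.ofMul (Subtype.ext h)⟩
    let B : LinearMap.BilinForm (ZMod p) (Additive (tors E p)) := LinearMap.mk₂ (ZMod p) bf hadd1
      (fun c a b => ZMod.map_smul (AddMonoidHom.mk' (fun x => bf x b) fun x y => hadd1 x y b) c a)
      hadd2 (fun c a b => ZMod.map_smul (AddMonoidHom.mk' (bf a) (hadd2 a)) c b)
    let ρ : (act p).range →* (Additive (tors E p) ≃ₗ[ZMod p] Additive (tors E p)) :=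
      linAut (act p).range.subtype
    have hρ : Function.Injective ρ := fun g h e => Subtype.ext (MulEquiv.ext fun a =>
      congrArg Additive.toMul (LinearEquiv.congr_fun e (Additive.ofMul a)))
    haveI : Finite (Additive (tors E p)) := inferInstanceAs (Finite (tors E p))
    haveI : Finite (act p).range := Finite.of_surjective _ (act p).rangeRestrict_surjective
    have hS : Symp ρ B := by
      refine ⟨fun a => (hzero a a).mpr (halt _), ?_, fun a ha => ?_, fun W hW hWiso => ?_⟩
      · rintro ⟨_, x, rfl⟩ a b
        exact congrArg lg (congrArg Additive.ofMul (Subtype.ext (hinv x _ _)))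
      · exact congrArg Additive.ofMul (hndp (Additive.toMul a) fun b =>
          (hzero a (Additive.ofMul b)).mp (ha (Additive.ofMul b)))
      · let U : Subgroup E := (AddSubgroup.toSubgroup' W.toAddSubgroup).map (tors E p).subtype
        have hUbot := hiso U (fun x a ha => by
            obtain ⟨b, hb, rfl⟩ := Subgroup.mem_map.mp ha
            exact Subgroup.mem_map.mpr ⟨act p x b, hW ⟨_, x, rfl⟩ (Additive.ofMul b) hb, rfl⟩) (by
            rintro _ ⟨a, ha, rfl⟩ _ ⟨b, hb, rfl⟩
            exact (hzero (Additive.ofMul a) (Additive.ofMul b)).mp (hWiso _ ha _ hb))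
        rw [Subgroup.map_eq_bot_iff_of_injective _ (tors E p).subtype_injective] at hUbot
        exact (Submodule.eq_bot_iff _).mpr fun a ha =>
          congrArg Additive.ofMul ((Subgroup.eq_bot_iff_forall _).mp hUbot (Additive.toMul a) ha)
    obtain ⟨m, hm, hcb⟩ := symp_good _ (act p).range
      (Group.isSolvable_of_surjective (act p).rangeRestrict_surjective) (Additive (tors E p)) rfl B ρ hρ hS
    refine ⟨m, ?_, hcb⟩
    have h1 : p ^ (Nat.card E).factorization p = p ^ (2 * m) := (card_tors hsq p).symm.trans hm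
    exact Nat.pow_right_injective (Fact.out : p.Prime).two_le h1
  choose! m hm hcb using hblock
  refine ⟨∏ p ∈ P, p ^ m p, ?_, ?_⟩
  · rw [← Finset.prod_pow]
    conv_lhs => rw [← Nat.factorization_prod_pow_eq_self (Nat.card_pos (α := E)).ne']
    rw [Finsupp.prod, Nat.support_factorization]
    refine Finset.prod_congr rfl fun p hp => ?_
    rw [hm p hp, ← pow_mul, mul_comm]
  · have h := Cb.of_family (fun p : P => (act p).rangeRestrict) (fun p : P => 3 ^ ((p : ℕ) ^ m p - 1))
      (fun p => hcb p p.2) Finset.univ fun x hx => hker x fun p hp =>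
        congrArg Subtype.val (hx ⟨p, hp⟩ (Finset.mem_univ _))
    refine h.mono ?_
    rw [Finset.prod_pow_eq_pow_sum, Finset.sum_coe_sort P (fun p => p ^ m p - 1)]
    exact Nat.pow_le_pow_right (by norm_num)
      (sum_sub_one_le _ _ fun p hp => Nat.one_le_pow _ _ (Nat.prime_of_mem_primeFactors hp).pos)

end CfsgLib.KR
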