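import Mathlib
import Cfsg.Prelude.Def_Solvable
import Cfsg.Agent.Lib.KR.Pairing
import Cfsg.Agent.Lib.Fitting.Basic
import Cfsg.Agent.Lib.PSolvable.Core

/-!
A solvable linear group all of whose abelian normal subgroups are scalar: the quotient by the Fitting
subgroup has at most `3 ^ (n - 1)` classes in every subgroup.
-/

set_option autoImplicit false
set_option linter.style.haveILetI false

namespace CfsgLib.KR

open scoped commutatorElement

universe u

variable {F : Type u} [Field F] {V : Type u} [AddCommGroup V] [Module F V] {G : Type u} [Group G]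
  (ρ : G →* (V ≃ₗ[F] V))

/-- An element acting as a scalar. -/
def IsScal (g : G) : Prop := ∃ c : F, ∀ v, ρ g v = c • v

theorem rho_apply_mul (g h : G) (v : V) : ρ (g * h) v = ρ g (ρ h v) := by rw [map_mul]; rfl

/-- The scalar elements. -/
def scalGrp : Subgroup G where
  carrier := {g | IsScal ρ g}
  one_mem' := ⟨1, fun v => by rw [map_one, one_smul]; rfl⟩
  mul_mem' := fun {g h} ⟨c, hc⟩ ⟨d, hd⟩ => ⟨c * d, fun v => by
    rw [rho_apply_mul, hd, map_smul, hc, smul_smul, mul_comm d c]⟩
  inv_mem' := fun {g} ⟨c, hc⟩ => ⟨c⁻¹, fun v => by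
    have h : c • ρ g⁻¹ v = v := by
      rw [← hc, ← rho_apply_mul, mul_inv_cancel, map_one]; rfl
    by_cases h0 : c = 0
    · rw [h0, zero_smul] at h
      rw [h0, inv_zero, zero_smul, ← h, map_zero]
    · conv_rhs => rw [← h, smul_smul, inv_mul_cancel₀ h0, one_smul]⟩

theorem mem_scalGrp {g : G} : g ∈ scalGrp ρ ↔ IsScal ρ g := Iff.rfl

variable {ρ}

theorem scal_comm (hρ : Function.Injective ρ) {g : G} (hg : g ∈ scalGrp ρ) (h : G) :
    g * h = h * g := by
  obtain ⟨c, hc⟩ := hg
  exact hρ (LinearEquiv.ext fun v => by rw [rho_apply_mul, rho_apply_mul, hc, hc, map_smul])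

theorem scalGrp_normal (hρ : Function.Injective ρ) : (scalGrp ρ).Normal :=
  ⟨fun g hg h => by rwa [← scal_comm hρ hg, mul_inv_cancel_right]⟩

/-- The scalar of an element. -/
noncomputable def scalHom [Nontrivial V] : scalGrp ρ →* Fˣ :=
  MonoidHom.toHomUnits
    { toFun := fun g => Classical.choose (mem_scalGrp ρ |>.mp g.2)
      map_one' := by
        obtain ⟨v, hv⟩ := exists_ne (0 : V)
        have h := Classical.choose_spec (mem_scalGrp ρ |>.mp (1 : scalGrp ρ).2) v
        refine smul_left_injective F hv (h.symm.trans ?_)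
        show ρ 1 v = (1 : F) • v
        rw [map_one, one_smul]; rfl
      map_mul' := fun g h => by
        obtain ⟨v, hv⟩ := exists_ne (0 : V)
        refine smul_left_injective F hv ?_
        show _ • v = (_ * _) • v
        rw [← Classical.choose_spec (mem_scalGrp ρ |>.mp (g * h).2) v, Subgroup.coe_mul, rho_apply_mul,
          Classical.choose_spec (mem_scalGrp ρ |>.mp h.2) v, map_smul,
          Classical.choose_spec (mem_scalGrp ρ |>.mp g.2) v, smul_smul, mul_comm] }

theorem scalHom_spec [Nontrivial V] (g : scalGrp ρ) (v : V) :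
    ρ g v = ((scalHom g : Fˣ) : F) • v :=
  Classical.choose_spec (mem_scalGrp ρ |>.mp g.2) v

theorem scalHom_injective [Nontrivial V] (hρ : Function.Injective ρ) :
    Function.Injective (scalHom (ρ := ρ)) := fun g h e =>
  Subtype.ext (hρ (LinearEquiv.ext fun v => by rw [scalHom_spec, scalHom_spec, e]))

/-- The derived subgroup of the Fitting subgroup is scalar. -/
theorem commutator_scalar [Finite G] [Group.IsSolvable G] (hρ : Function.Injective ρ)
    (hscal : ∀ A : Subgroup G, A.Normal → (∀ a ∈ A, ∀ b ∈ A, a * b = b * a) → ∀ a ∈ A, IsScal ρ a) :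
    ∀ a ∈ Cfsg.fittingSubgroup G, ∀ b ∈ Cfsg.fittingSubgroup G, ⁅a, b⁆ ∈ scalGrp ρ := by
  set N := Cfsg.fittingSubgroup G with hN
  haveI : N.Normal := CfsgLib.Fitting.fittingSubgroup_normal
  obtain ⟨n, hn⟩ := Subgroup.nilpotent_iff_lowerCentralSeries.mp
    (CfsgLib.Fitting.fittingSubgroup_isNilpotent (G := G))
  have hn' : N.lowerCentralSeries n = ⊥ := by
    have h := congrArg (Subgroup.map N.subtype) hn
    rwa [Subgroup.map_lowerCentralSeries, ← MonoidHom.range_eq_map, Subgroup.range_subtype,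
      Subgroup.map_bot] at h
  have hnorm : ∀ k, (N.lowerCentralSeries k).Normal := by
    intro k
    induction k with
    | zero => rw [Subgroup.lowerCentralSeries_zero]; infer_instance
    | succ k ih => rw [Subgroup.lowerCentralSeries_succ]; haveI := ih; infer_instance
  have hle : ∀ k, N.lowerCentralSeries k ≤ N := fun k =>
    le_trans (N.lowerCentralSeries_antitone (Nat.zero_le k)) N.lowerCentralSeries_zero.le
  set A := N ⊓ Subgroup.centralizer (N : Set G) with hA
  haveI : A.Normal := inferInstance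
  have hAc : ⁅A, N⁆ = ⊥ := Subgroup.commutator_eq_bot_iff_le_centralizer.mpr inf_le_right
  have key : ∀ j k, 1 ≤ k → k + j = max n 1 → N.lowerCentralSeries k ≤ A := by
    intro j
    induction j with
    | zero =>
      intro k hk hkj
      refine le_trans (le_of_eq (le_bot_iff.mp ?_)) bot_le
      rw [← hn']
      exact N.lowerCentralSeries_antitone (by omega)
    | succ j ih =>
      intro k hk hkj
      have h1 := ih (k + 1) (by omega) (by omega)
      haveI := hnorm k
      have hz : ∀ H : Subgroup G, H = N.lowerCentralSeries (k + 1) → ⁅H, N⁆ = ⊥ := fun H hH =>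
        le_bot_iff.mp (hAc ▸ Subgroup.commutator_mono (hH ▸ h1) le_rfl)
      have h2 : ⁅⁅N, N⁆, N.lowerCentralSeries k⁆ = ⊥ := by
        refine Subgroup.commutator_commutator_eq_bot_of_rotate ?_ ?_
        · exact hz _ (by rw [Subgroup.commutator_comm, Subgroup.lowerCentralSeries_succ])
        · exact hz _ (by rw [Subgroup.lowerCentralSeries_succ])
      have hk1 : N.lowerCentralSeries k ≤ ⁅N, N⁆ :=
        (N.lowerCentralSeries_antitone hk).trans (le_of_eq (by
          rw [Subgroup.lowerCentralSeries_succ, Subgroup.lowerCentralSeries_zero]))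
      have hab : ∀ a ∈ N.lowerCentralSeries k, ∀ b ∈ N.lowerCentralSeries k, a * b = b * a := by
        intro a ha b hb
        have h := Subgroup.commutator_eq_bot_iff_le_centralizer.mp h2 (hk1 ha)
        exact (Subgroup.mem_centralizer_iff.mp h b hb).symm
      intro a ha
      exact ⟨hle k ha, Subgroup.mem_centralizer_iff.mpr fun b _ =>
        (scal_comm hρ (hscal _ (hnorm k) hab a ha) b).symm⟩
  intro a ha b hb
  have h1 := key (max n 1 - 1) 1 le_rfl (by omega)
  have hAab : ∀ x ∈ A, ∀ y ∈ A, x * y = y * x := fun x hx y hy =>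
    (Subgroup.mem_centralizer_iff.mp hx.2 y hy.1).symm
  refine hscal A inferInstance hAab _ (h1 ?_)
  rw [Subgroup.lowerCentralSeries_succ, Subgroup.lowerCentralSeries_zero]
  exact Subgroup.commutator_mem_commutator ha hb

/-- Commutator scalars are bilinear. -/
theorem scalar_bound [Finite G] [Group.IsSolvable G] [FiniteDimensional F V] [Nontrivial V]
    (hρ : Function.Injective ρ)
    (hscal : ∀ A : Subgroup G, A.Normal → (∀ a ∈ A, ∀ b ∈ A, a * b = b * a) → ∀ a ∈ A, IsScal ρ a)
    [hFn : (Cfsg.fittingSubgroup G).Normal] :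
    Cb (G ⧸ Cfsg.fittingSubgroup G) (3 ^ (Module.finrank F V - 1)) := by
  classical
  have hcs := commutator_scalar hρ hscal
  set N := Cfsg.fittingSubgroup G with hN
  haveI : (scalGrp ρ).Normal := scalGrp_normal hρ
  set Z : Subgroup N := (scalGrp ρ).subgroupOf N with hZ
  have hcomm : ∀ a b : N ⧸ Z, a * b = b * a := by
    rintro ⟨a⟩ ⟨b⟩
    refine QuotientGroup.eq.mpr (Subgroup.mem_subgroupOf.mpr ?_)
    have h := hcs _ (inv_mem b.2) _ (inv_mem a.2)
    simp only [commutatorElement_def, inv_inv] at h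
    simp only [Subgroup.coe_mul, Subgroup.coe_inv, mul_inv_rev]
    simpa [mul_assoc] using h
  letI : CommGroup (N ⧸ Z) := { (inferInstance : Group (N ⧸ Z)) with mul_comm := hcomm }
  let c : N → N → Fˣ := fun a b => scalHom ⟨⁅(a : G), (b : G)⁆, hcs a a.2 b b.2⟩
  have hright : ∀ a b b' : N, c a (b * b') = c a b * c a b' := fun a b b' => by
    simp only [c]
    rw [← map_mul]
    refine congrArg _ (Subtype.ext ?_)
    show ⁅(a : G), (b : G) * b'⁆ = ⁅(a : G), (b : G)⁆ * ⁅(a : G), (b' : G)⁆
    calc ⁅(a : G), (b : G) * b'⁆ = ⁅(a : G), (b : G)⁆ * ((b : G) * ⁅(a : G), (b' : G)⁆ * (b : G)⁻¹) := by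
          simp only [commutatorElement_def]; group
      _ = _ := by rw [← scal_comm hρ (hcs a a.2 b' b'.2) (b : G), mul_inv_cancel_right]
  have hleft : ∀ a a' b : N, c (a * a') b = c a b * c a' b := fun a a' b => by
    simp only [c]
    rw [← map_mul]
    refine congrArg _ (Subtype.ext ?_)
    show ⁅(a : G) * a', (b : G)⁆ = ⁅(a : G), (b : G)⁆ * ⁅(a' : G), (b : G)⁆
    calc ⁅(a : G) * a', (b : G)⁆ = (a : G) * ⁅(a' : G), (b : G)⁆ * (a : G)⁻¹ * ⁅(a : G), (b : G)⁆ := by
          simp only [commutatorElement_def]; group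
      _ = ⁅(a' : G), (b : G)⁆ * ⁅(a : G), (b : G)⁆ := by
          rw [← scal_comm hρ (hcs a' a'.2 b b.2) (a : G), mul_inv_cancel_right]
      _ = _ := scal_comm hρ (hcs a' a'.2 b b.2) _
  let c1 : N → (N →* Fˣ) := fun a => MonoidHom.mk' (c a) (hright a)
  let c2 : N →* N →* Fˣ := MonoidHom.mk' c1 fun a a' => MonoidHom.ext fun b => hleft a a' b
  have hker1 : ∀ a : N, Z ≤ (c1 a).ker := fun a z hz => by
    show scalHom ⟨⁅(a : G), (z : G)⁆, _⟩ = 1
    rw [← map_one (scalHom (ρ := ρ))]
    refine congrArg _ (Subtype.ext ?_)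
    exact commutatorElement_eq_one_iff_mul_comm.mpr (scal_comm hρ hz a).symm
  let d : N →* (N ⧸ Z) →* Fˣ :=
    MonoidHom.mk' (fun a => QuotientGroup.lift Z (c1 a) (hker1 a)) fun a a' => by
      refine MonoidHom.ext fun e => ?_
      obtain ⟨b, rfl⟩ := QuotientGroup.mk'_surjective Z e
      exact hleft a a' b
  have hker2 : Z ≤ d.ker := fun z hz => by
    refine MonoidHom.ext fun e => ?_
    obtain ⟨b, rfl⟩ := QuotientGroup.mk'_surjective Z e
    show scalHom ⟨⁅(z : G), (b : G)⁆, _⟩ = 1
    rw [← map_one (scalHom (ρ := ρ))]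
    refine congrArg _ (Subtype.ext ?_)
    exact commutatorElement_eq_one_iff_mul_comm.mpr (scal_comm hρ hz b)
  let β : (N ⧸ Z) →* (N ⧸ Z) →* Fˣ := QuotientGroup.lift Z d hker2
  have hβ : ∀ a b : N, β (a : N ⧸ Z) (b : N ⧸ Z) = c a b := fun a b => rfl
  have hval : ∀ (a b : N) (h : ⁅(a : G), (b : G)⁆ ∈ scalGrp ρ), scalHom ⟨_, h⟩ = 1 → ⁅(a : G), (b : G)⁆ = 1 :=
    fun a b h e => congrArg Subtype.val (scalHom_injective hρ (e.trans (map_one _).symm))
  have hnd : ∀ e, (∀ e', β e e' = 1) → e = 1 := by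
    intro e he
    obtain ⟨a, rfl⟩ := QuotientGroup.mk'_surjective Z e
    refine (QuotientGroup.eq_one_iff a).mpr (Subgroup.mem_subgroupOf.mpr ?_)
    set A : Subgroup G := N ⊓ Subgroup.centralizer (N : Set G)
    have haA : (a : G) ∈ A := ⟨a.2, Subgroup.mem_centralizer_iff.mpr fun b hb =>
      (commutatorElement_eq_one_iff_mul_comm.mp
        (hval a ⟨b, hb⟩ _ (he (⟨b, hb⟩ : N)))).symm⟩
    exact hscal A inferInstance (fun x hx y hy =>
      (Subgroup.mem_centralizer_iff.mp hx.2 y hy.1).symm) _ haA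
  -- the action
  haveI : Z.Normal := Subgroup.normal_subgroupOf
  have hconj : ∀ (g : G) (z : N), z ∈ Z → MulAut.conjNormal g z ∈ Z := fun g z hz =>
    Subgroup.mem_subgroupOf.mpr (by
      rw [MulAut.conjNormal_apply]; exact (scalGrp_normal hρ).conj_mem _ hz g)
  let act0 : G → (N ⧸ Z) →* (N ⧸ Z) := fun g =>
    QuotientGroup.map Z Z (MulAut.conjNormal g : MulAut N).toMonoidHom fun z hz => hconj g z hz
  have hact1 : ∀ e, act0 1 e = e := fun e => by
    obtain ⟨a, rfl⟩ := QuotientGroup.mk'_surjective Z e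
    exact congrArg (QuotientGroup.mk' Z) (by rw [map_one]; rfl)
  have hactm : ∀ g h e, act0 (g * h) e = act0 g (act0 h e) := fun g h e => by
    obtain ⟨a, rfl⟩ := QuotientGroup.mk'_surjective Z e
    exact congrArg (QuotientGroup.mk' Z) (by rw [map_mul]; rfl)
  let act : G →* MulAut (N ⧸ Z) :=
    MonoidHom.mk' (fun g =>
      { toFun := act0 g
        invFun := act0 g⁻¹
        left_inv := fun e => by rw [← hactm, inv_mul_cancel, hact1]
        right_inv := fun e => by rw [← hactm, mul_inv_cancel, hact1]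
        map_mul' := map_mul (act0 g) }) fun g h => MulEquiv.ext (hactm g h)
  have hactN : N ≤ act.ker := fun g hg => MulEquiv.ext fun e => by
    obtain ⟨a, rfl⟩ := QuotientGroup.mk'_surjective Z e
    show QuotientGroup.mk' Z (MulAut.conjNormal g a) = QuotientGroup.mk' Z a
    have h1 : MulAut.conjNormal g a = (⟨g, hg⟩ : N) * a * (⟨g, hg⟩ : N)⁻¹ := Subtype.ext (by
      rw [MulAut.conjNormal_apply]; rfl)
    rw [h1, map_mul, map_mul, map_inv, hcomm (QuotientGroup.mk' Z ⟨g, hg⟩), mul_inv_cancel_right]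
  have hactker : act.ker ≤ N := by
    intro g hg
    have hmem : ∀ a : N, ⁅g, (a : G)⁆ ∈ scalGrp ρ := by
      intro a
      have h := DFunLike.congr_fun (MonoidHom.mem_ker.mp hg) (a : N ⧸ Z)
      have h' : ((MulAut.conjNormal g a : N) : N ⧸ Z) = (a : N ⧸ Z) := h
      have h'' := Subgroup.mem_subgroupOf.mp (QuotientGroup.eq.mp h'.symm)
      rw [Subgroup.coe_mul, Subgroup.coe_inv, MulAut.conjNormal_apply] at h''
      have h3 := (scalGrp_normal hρ).conj_mem _ h'' (a : G)
      rwa [show (a : G) * ((a : G)⁻¹ * (g * (a : G) * g⁻¹)) * (a : G)⁻¹ = ⁅g, (a : G)⁆ by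
        rw [commutatorElement_def]; group] at h3
    let lam : N →* Fˣ := MonoidHom.mk' (fun a => scalHom ⟨⁅g, (a : G)⁆, hmem a⟩) fun a b => by
      rw [← map_mul]
      refine congrArg _ (Subtype.ext ?_)
      show ⁅g, (a : G) * b⁆ = ⁅g, (a : G)⁆ * ⁅g, (b : G)⁆
      calc ⁅g, (a : G) * b⁆ = ⁅g, (a : G)⁆ * ((a : G) * ⁅g, (b : G)⁆ * (a : G)⁻¹) := by
            simp only [commutatorElement_def]; group
        _ = _ := by rw [← scal_comm hρ (hmem b) (a : G), mul_inv_cancel_right]
    have hlamZ : Z ≤ lam.ker := fun z hz => by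
      show scalHom ⟨⁅g, (z : G)⁆, _⟩ = 1
      rw [← map_one (scalHom (ρ := ρ))]
      exact congrArg _ (Subtype.ext (commutatorElement_eq_one_iff_mul_comm.mpr
        (scal_comm hρ hz g).symm))
    let lam' : (N ⧸ Z) →* Fˣ := QuotientGroup.lift Z lam hlamZ
    set R : Subgroup Fˣ := (scalHom (ρ := ρ)).range
    haveI : Finite R := Finite.of_surjective _ (scalHom (ρ := ρ)).rangeRestrict_surjective
    let toR : (N ⧸ Z) → ((N ⧸ Z) →* R) := fun e => (β e).codRestrict R fun e' => by
      obtain ⟨a, rfl⟩ := QuotientGroup.mk'_surjective Z e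
      obtain ⟨b, rfl⟩ := QuotientGroup.mk'_surjective Z e'
      exact ⟨_, rfl⟩
    have hinj : Function.Injective toR := fun e e' h => by
      refine inv_mul_eq_one.mp (hnd _ fun x => ?_)
      have h' : β e x = β e' x := congrArg Subtype.val (DFunLike.congr_fun h x)
      rw [map_mul, map_inv, MonoidHom.mul_apply, MonoidHom.inv_apply, h', inv_mul_cancel]
    haveI : IsCyclic R := subgroup_units_cyclic R
    have hR0 : Nat.card R ≠ 0 := Nat.card_pos.ne'
    obtain ⟨ζ, hζ⟩ : ∃ ζ : ℂˣ, orderOf ζ = Nat.card R :=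
      ⟨(Complex.isPrimitiveRoot_exp _ hR0).isUnit hR0 |>.unit, by
        rw [← orderOf_units, IsUnit.unit_spec]
        exact ((Complex.isPrimitiveRoot_exp _ hR0).eq_orderOf).symm⟩
    let j : R →* ℂˣ := (Subgroup.zpowers ζ).subtype.comp
      (mulEquivOfCyclicCardEq (G' := Subgroup.zpowers ζ) (by rw [Nat.card_zpowers, hζ])).toMonoidHom
    have hj : Function.Injective j :=
      (Subgroup.subtype_injective _).comp (MulEquiv.injective _)
    haveI : Finite ((N ⧸ Z) →* ℂˣ) := Nat.finite_of_card_ne_zero (by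
      rw [CommGroup.card_monoidHom_of_hasEnoughRootsOfUnity]; exact Nat.card_pos.ne')
    haveI : Finite ((N ⧸ Z) →* R) := Finite.of_injective (fun f => j.comp f) fun f f' h =>
      MonoidHom.ext fun x => hj (DFunLike.congr_fun h x)
    have hbij : Function.Bijective toR := by
      rw [Nat.bijective_iff_injective_and_card]
      refine ⟨hinj, le_antisymm (Nat.card_le_card_of_injective toR hinj) ?_⟩
      refine (Nat.card_le_card_of_injective (fun f => j.comp f) fun f f' h =>
        MonoidHom.ext fun x => hj (DFunLike.congr_fun h x)).trans (le_of_eq ?_)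
      exact CommGroup.card_monoidHom_of_hasEnoughRootsOfUnity _ _
    obtain ⟨e, he⟩ := hbij.2 (lam'.codRestrict R fun e' => by
      obtain ⟨b, rfl⟩ := QuotientGroup.mk'_surjective Z e'
      exact ⟨_, rfl⟩)
    obtain ⟨m, rfl⟩ := QuotientGroup.mk'_surjective Z e
    have hm : ∀ a : N, ⁅(m : G), (a : G)⁆ = ⁅g, (a : G)⁆ := fun a => by
      have h : c m a = lam a := congrArg Subtype.val (DFunLike.congr_fun he (a : N ⧸ Z))
      exact congrArg Subtype.val (scalHom_injective hρ h)
    have hC : (m : G)⁻¹ * g ∈ Subgroup.centralizer (N : Set G) := by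
      refine Subgroup.mem_centralizer_iff.mpr fun a ha => ?_
      have h := hm ⟨a, ha⟩
      simp only [commutatorElement_def] at h
      have h2 := mul_right_cancel h
      calc a * ((m : G)⁻¹ * g) = (m : G)⁻¹ * ((m : G) * a * (m : G)⁻¹) * g := by group
        _ = (m : G)⁻¹ * (g * a * g⁻¹) * g := by rw [h2]
        _ = _ := by group
    have := PSolvable.centralizer_fittingSubgroup_le hC
    simpa using mul_mem m.2 this
  let φ : G ⧸ N →* MulAut (N ⧸ Z) := QuotientGroup.lift N act hactN
  have hφ : Function.Injective φ := by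
    rw [← MonoidHom.ker_eq_bot_iff, Subgroup.eq_bot_iff_forall]
    intro x hx
    obtain ⟨g, rfl⟩ := QuotientGroup.mk'_surjective N x
    exact (QuotientGroup.eq_one_iff g).mpr (hactker hx)
  have hinv : ∀ x a b, β (φ x a) (φ x b) = β a b := by
    intro x a b
    obtain ⟨g, rfl⟩ := QuotientGroup.mk'_surjective N x
    obtain ⟨a, rfl⟩ := QuotientGroup.mk'_surjective Z a
    obtain ⟨b, rfl⟩ := QuotientGroup.mk'_surjective Z b
    show scalHom ⟨⁅((MulAut.conjNormal g a : N) : G), ((MulAut.conjNormal g b : N) : G)⁆, _⟩ =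
      scalHom ⟨⁅(a : G), (b : G)⁆, _⟩
    refine congrArg _ (Subtype.ext ?_)
    simp only [MulAut.conjNormal_apply]
    rw [← conjugate_commutatorElement, ← scal_comm hρ (hcs a a.2 b b.2), mul_inv_cancel_right]
  have hiso : ∀ U : Subgroup (N ⧸ Z), (∀ x, ∀ a ∈ U, φ x a ∈ U) →
      (∀ a ∈ U, ∀ b ∈ U, β a b = 1) → U = ⊥ := by
    intro U hU hUiso
    set A : Subgroup G := (U.comap (QuotientGroup.mk' Z)).map N.subtype
    have hAn : A.Normal := by
      constructor
      rintro _ ⟨a, ha, rfl⟩ g
      exact ⟨MulAut.conjNormal g a, hU (QuotientGroup.mk' N g) _ ha,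
        MulAut.conjNormal_apply g a⟩
    have hAab : ∀ x ∈ A, ∀ y ∈ A, x * y = y * x := by
      rintro _ ⟨a, ha, rfl⟩ _ ⟨b, hb, rfl⟩
      exact commutatorElement_eq_one_iff_mul_comm.mp (hval a b _ (hUiso _ ha _ hb))
    refine (Subgroup.eq_bot_iff_forall _).mpr fun e he => ?_
    obtain ⟨a, rfl⟩ := QuotientGroup.mk'_surjective Z e
    exact (QuotientGroup.eq_one_iff a).mpr
      (Subgroup.mem_subgroupOf.mpr (hscal A hAn hAab _ ⟨a, he, rfl⟩))
  have halt : ∀ e, β e e = 1 := fun e => by
    obtain ⟨a, rfl⟩ := QuotientGroup.mk'_surjective Z e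
    show scalHom ⟨⁅(a : G), (a : G)⁆, _⟩ = 1
    rw [← map_one (scalHom (ρ := ρ))]
    exact congrArg _ (Subtype.ext (commutatorElement_self _))
  have hsq : ∀ (q : ℕ) (a : N ⧸ Z), q.Prime → a ^ (q * q) = 1 → a ^ q = 1 := by
    intro q a _ ha
    let W : Subgroup (N ⧸ Z) := ((powMonoidHom (q * q) : N ⧸ Z →* N ⧸ Z).ker).map (powMonoidHom q)
    have hW := hiso W (fun x y hy => by
      obtain ⟨b, hb, rfl⟩ := Subgroup.mem_map.mp hy
      refine Subgroup.mem_map.mpr ⟨φ x b, ?_, (map_pow (φ x) b q).symm⟩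
      have hb' : b ^ (q * q) = 1 := hb
      show φ x b ^ (q * q) = 1
      rw [← map_pow, hb', map_one]) (by
      rintro _ ⟨b, hb, rfl⟩ _ ⟨b', -, rfl⟩
      show β (b ^ q) (b' ^ q) = 1
      have hb'' : b ^ (q * q) = 1 := hb
      rw [map_pow (β (b ^ q)), ← MonoidHom.pow_apply, ← map_pow β, ← pow_mul, hb'',
        map_one, MonoidHom.one_apply])
    exact (Subgroup.eq_bot_iff_forall _).mp hW _ ⟨a, ha, rfl⟩
  obtain ⟨e, he, hcb⟩ := pairing_bound (inferInstance : Group.IsSolvable (G ⧸ N)) φ hφ β halt hnd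
    hinv hsq hiso
  refine hcb.mono (Nat.pow_le_pow_right (by norm_num) (Nat.sub_le_sub_right ?_ 1))
  -- independence
  haveI : Fintype (N ⧸ Z) := Fintype.ofFinite _
  let f : N ⧸ Z → Module.End F V := fun x => (ρ ((x.out : N) : G) : V →ₗ[F] V)
  have hind : LinearIndependent F f := by
    rw [Fintype.linearIndependent_iff]
    intro co hco x0
    obtain ⟨v, hv⟩ := exists_ne (0 : V)
    have hv' : ∀ y : N ⧸ Z, ∑ x, co x • ((β y x : Fˣ) : F) • ρ ((x.out : N) : G) v = 0 := by
      intro y
      set w := (ρ ((y.out : N) : G)).symm v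
      have h0 : ∑ x, co x • ρ ((x.out : N) : G) w = 0 := by
        have := LinearMap.congr_fun hco w
        simpa [f] using this
      have h1 := congrArg (ρ ((y.out : N) : G)) h0
      rw [map_sum, map_zero] at h1
      rw [← h1]
      refine Finset.sum_congr rfl fun x _ => ?_
      rw [map_smul]
      congr 1
      have hxy : ((y.out : N) : G) * (x.out : N) =
          ⁅((y.out : N) : G), ((x.out : N) : G)⁆ * ((x.out : N) : G) * (y.out : N) := by
        rw [commutatorElement_def]; group
      rw [← rho_apply_mul, hxy, rho_apply_mul, rho_apply_mul,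
        show ρ ((y.out : N) : G) w = v from LinearEquiv.apply_symm_apply _ _]
      have hb := hβ y.out x.out
      rw [QuotientGroup.out_eq', QuotientGroup.out_eq'] at hb
      rw [hb]
      exact (scalHom_spec (⟨_, hcs _ y.out.2 _ x.out.2⟩ : scalGrp ρ) _).symm
    obtain ⟨l, hl⟩ : ∃ l : Module.Dual F V, l (ρ ((x0.out : N) : G) v) ≠ 0 := by
      by_contra h
      push Not at h
      exact hv ((map_eq_zero_iff _ (ρ _).injective).mp
        ((Module.forall_dual_apply_eq_zero_iff F _).mp h))
    let χ : N ⧸ Z → (N ⧸ Z →* F) := fun x =>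
      (Units.coeHom F).comp (MonoidHom.mk' (fun y => β y x) fun a b => by
        rw [map_mul, MonoidHom.mul_apply])
    have hχ : Function.Injective χ := fun a b h => by
      refine inv_mul_eq_one.mp (hnd _ fun y => ?_)
      have hy : β y a = β y b := Units.ext (DFunLike.congr_fun h y)
      have hswap : ∀ s t, β s t * β t s = 1 := fun s t => by
        have h2 := halt (s * t)
        rw [map_mul, map_mul, MonoidHom.mul_apply, MonoidHom.mul_apply, halt, halt, one_mul, mul_one,
          mul_comm] at h2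
        exact h2
      have e1 : β a y = (β y a)⁻¹ := eq_inv_of_mul_eq_one_left (hswap a y)
      have e2 : β b y = (β y b)⁻¹ := eq_inv_of_mul_eq_one_left (hswap b y)
      rw [map_mul, map_inv, MonoidHom.mul_apply, MonoidHom.inv_apply, e1, e2, hy, inv_inv,
        mul_inv_cancel]
    have hli := (linearIndependent_monoidHom (N ⧸ Z) F).comp χ hχ
    have hz := Fintype.linearIndependent_iff.mp hli (fun x => co x * l (ρ ((x.out : N) : G) v)) (by
      funext y
      have h := congrArg l (hv' y)
      rw [map_sum, map_zero] at h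
      simp only [map_smul, smul_eq_mul] at h
      rw [Finset.sum_apply, Pi.zero_apply, ← h]
      refine Finset.sum_congr rfl fun x _ => ?_
      simp only [Pi.smul_apply, Function.comp_apply, smul_eq_mul]
      show co x * l (ρ ((x.out : N) : G) v) * ((β y x : Fˣ) : F) = _
      ring) x0
    exact (mul_eq_zero.mp hz).resolve_right hl
  have hcard := hind.fintype_card_le_finrank
  rw [← Nat.card_eq_fintype_card, he, Module.finrank_linearMap, ← pow_two] at hcard
  exact Nat.pow_le_pow_iff_left two_ne_zero |>.mp hcard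

/-- The order of the Fitting subgroup is prime to the characteristic for completely reducible groups. -/
theorem not_dvd_card_fitting [Finite G] {p : ℕ} [Fact p.Prime]
    (hbot : ∀ (N : Subgroup G), N.Normal → IsPGroup p N → N = ⊥) :
    ¬ p ∣ Nat.card (Cfsg.fittingSubgroup G) := by
  intro hdvd
  haveI := CfsgLib.Fitting.fittingSubgroup_normal (G := G)
  set N := Cfsg.fittingSubgroup G
  obtain ⟨P⟩ : Nonempty (Sylow p N) := inferInstance
  haveI hPn : (P : Subgroup N).Normal :=
    (((Group.isNilpotent_of_finite_tfae (G := N)).out 0 3 :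
      Group.IsNilpotent N ↔ ∀ (p : ℕ) (_hp : Fact p.Prime) (P : Sylow p N), (P : Subgroup N).Normal).mp
      (CfsgLib.Fitting.fittingSubgroup_isNilpotent (G := G))) p inferInstance P
  haveI := Sylow.characteristic_of_normal P hPn
  have h := hbot _ (inferInstance : ((P : Subgroup N).map N.subtype).Normal) (P.2.map _)
  rw [Subgroup.map_eq_bot_iff_of_injective _ N.subtype_injective] at h
  exact P.ne_bot_of_dvd_card hdvd h

end CfsgLib.KR
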