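import Mathlib
import Cfsg.Agent.Lib.KR.Affine
import Cfsg.Agent.Lib.KR.Scalar
import Cfsg.Agent.Lib.KR.Ring
import Cfsg.Agent.Lib.KR.PermBound
import Cfsg.Agent.S4958

/-!
Solvable linear groups: classes modulo the Fitting subgroup, and classes of the affine group.
-/

set_option autoImplicit false
set_option linter.style.haveILetI false
set_option maxHeartbeats 1000000

namespace CfsgLib.KR

open CfsgLib.OddBase (Inv CR res ext_end)
open scoped commutatorElement

universe u

instance fitNormal (G : Type*) [Group G] : (Cfsg.fittingSubgroup G).Normal :=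
  CfsgLib.Fitting.fittingSubgroup_normal

/-- The quotient by the Fitting subgroup. -/
abbrev Top (G : Type u) [Group G] : Type u := G ⧸ Cfsg.fittingSubgroup G

theorem map_fitting_le {G H : Type u} [Group G] [Finite G] [Group H] (f : G →* H)
    (hf : Function.Surjective f) :
    (Cfsg.fittingSubgroup G).map f ≤ Cfsg.fittingSubgroup H := by
  haveI := CfsgLib.Fitting.fittingSubgroup_isNilpotent (G := G)
  refine CfsgLib.Fitting.le_fittingSubgroup ((fitNormal G).map f hf) ?_
  exact Group.nilpotent_of_surjective (f.subgroupMap (Cfsg.fittingSubgroup G))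
    (f.subgroupMap_surjective _)

theorem map_fitting_le_of_normal {G : Type u} [Group G] [Finite G] (K : Subgroup G) [K.Normal] :
    (Cfsg.fittingSubgroup K).map K.subtype ≤ Cfsg.fittingSubgroup G := by
  refine CfsgLib.Fitting.le_fittingSubgroup ⟨?_⟩ ?_
  · rintro _ ⟨k, hk, rfl⟩ g
    exact ⟨(MulAut.conjNormal g : MulAut K) k, map_fitting_le (MulAut.conjNormal g : MulAut K).toMonoidHom
      (MulEquiv.surjective _) ⟨k, hk, rfl⟩, MulAut.conjNormal_apply g k⟩
  · haveI := CfsgLib.Fitting.fittingSubgroup_isNilpotent (G := K)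
    exact Group.nilpotent_of_surjective (K.subtype.subgroupMap (Cfsg.fittingSubgroup K))
      (K.subtype.subgroupMap_surjective _)

/-- From a normal subgroup to the group. -/
theorem top_of_normal {G : Type u} [Group G] [Finite G] (K : Subgroup G) [K.Normal] {a b : ℕ}
    (ha : Cb (Top K) a) (hb : K.index ≤ b) : Cb (Top G) (a * b) := by
  let π : G →* Top G := QuotientGroup.mk' _
  let f : Top G →* G ⧸ (K ⊔ Cfsg.fittingSubgroup G) :=
    QuotientGroup.map (Cfsg.fittingSubgroup G) (K ⊔ Cfsg.fittingSubgroup G) (MonoidHom.id G)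
      fun x hx => Subgroup.mem_sup_right hx
  refine Cb.of_hom f ?_ (Cb.of_card ?_)
  · let g : Top K →* Top G :=
      QuotientGroup.map (Cfsg.fittingSubgroup K) (Cfsg.fittingSubgroup G) K.subtype fun x hx =>
        map_fitting_le_of_normal K ⟨x, hx, rfl⟩
    have hg : ∀ x ∈ f.ker, x ∈ g.range := by
      intro x hx
      obtain ⟨y, rfl⟩ := QuotientGroup.mk'_surjective (Cfsg.fittingSubgroup G) x
      have hy : y ∈ K ⊔ Cfsg.fittingSubgroup G := (QuotientGroup.eq_one_iff y).mp hx
      obtain ⟨k, hk, n, hn, rfl⟩ := Subgroup.mem_sup_of_normal_right.mp hy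
      refine ⟨QuotientGroup.mk' _ (⟨k, hk⟩ : K), ?_⟩
      exact QuotientGroup.eq.mpr (by
        show k⁻¹ * (k * n) ∈ Cfsg.fittingSubgroup G
        rwa [inv_mul_cancel_left])
    exact Cb.of_injective (ha.of_surjective g.rangeRestrict g.rangeRestrict_surjective)
      (Subgroup.inclusion (show f.ker ≤ g.range from hg)) (Subgroup.inclusion_injective _)
  · refine le_trans ?_ hb
    rw [← Subgroup.index_eq_card]
    exact Nat.le_of_dvd (Nat.pos_of_ne_zero Subgroup.index_ne_zero_of_finite)
      (Subgroup.index_dvd_of_le le_sup_left)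

/-- Jointly faithful quotients. -/
theorem top_of_family {G : Type u} [Group G] [Finite G] {ι : Type u} [Fintype ι] {H : ι → Type u}
    [∀ i, Group (H i)] [∀ i, Finite (H i)] (f : ∀ i, G →* H i) (hf : ∀ i, Function.Surjective (f i))
    (hinj : ∀ x, (∀ i, f i x = 1) → x = 1) (b : ι → ℕ) (hb : ∀ i, Cb (Top (H i)) (b i)) :
    Cb (Top G) (∏ i, b i) := by
  let g : ∀ i, Top G →* Top (H i) := fun i =>
    QuotientGroup.map _ _ (f i) fun x hx => map_fitting_le (f i) (hf i) ⟨x, hx, rfl⟩
  refine Cb.of_family g b hb Finset.univ fun x hx => ?_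
  obtain ⟨y, rfl⟩ := QuotientGroup.mk'_surjective (Cfsg.fittingSubgroup G) x
  refine (QuotientGroup.eq_one_iff y).mpr ?_
  set N : Subgroup G := ⨅ i, (Cfsg.fittingSubgroup (H i)).comap (f i)
  have hy : y ∈ N := Subgroup.mem_iInf.mpr fun i =>
    (QuotientGroup.eq_one_iff (f i y)).mp (hx i (Finset.mem_univ i))
  refine CfsgLib.Fitting.le_fittingSubgroup ?_ ?_ hy
  · exact Subgroup.normal_iInf_normal fun i => (fitNormal (H i)).comap (f i)
  · haveI : ∀ i, Group.IsNilpotent (Cfsg.fittingSubgroup (H i)) := fun i =>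
      CfsgLib.Fitting.fittingSubgroup_isNilpotent
    let e : N →* (∀ i, Cfsg.fittingSubgroup (H i)) :=
      MonoidHom.pi fun i =>
        { toFun := fun x => ⟨f i x, Subgroup.mem_iInf.mp x.2 i⟩
          map_one' := Subtype.ext (map_one (f i))
          map_mul' := fun a c => Subtype.ext (map_mul (f i) _ _) }
    refine Subgroup.isNilpotent_of_ker_le_center e fun x hx => ?_
    have h1 : x = 1 := Subtype.ext (hinj _ fun i =>
      congrArg Subtype.val (congrFun (MonoidHom.mem_ker.mp hx) i))
    rw [h1]
    exact one_mem _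

/-- The action by additive maps. -/
def endo {F : Type u} [Field F] {V : Type u} [AddCommGroup V] [Module F V] {G : Type u} [Group G]
    (ρ : G →* (V ≃ₗ[F] V)) : G →* AddMonoid.End V where
  toFun g := (ρ g : V →ₗ[F] V).toAddMonoidHom
  map_one' := ext_end fun v => by
    show ρ 1 v = v
    rw [map_one]; rfl
  map_mul' g h := ext_end fun v => rho_apply_mul ρ g h v

theorem endo_apply {F : Type u} [Field F] {V : Type u} [AddCommGroup V] [Module F V] {G : Type u} [Group G]
    (ρ : G →* (V ≃ₗ[F] V)) (g : G) (v : V) : endo ρ g v = ρ g v := rfl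

theorem endo_injective {F : Type u} [Field F] {V : Type u} [AddCommGroup V] [Module F V] {G : Type u}
    [Group G] {ρ : G →* (V ≃ₗ[F] V)} (hρ : Function.Injective ρ) : Function.Injective (endo ρ) :=
  fun _ _ e => hρ (LinearEquiv.ext fun v => DFunLike.congr_fun e v)

theorem kc_aff_congr {G G' V : Type u} [Group G] [Group G'] [AddCommGroup V] [Finite G'] [Finite V]
    (τ : G →* AddMonoid.End V) (σ : G' →* AddMonoid.End V) (f : G' →* G) (hf : Function.Bijective f)
    (h : ∀ g, τ (f g) = σ g) : kc (Aff τ) = kc (Aff σ) := by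
  refine (kc_congr (MulEquiv.ofBijective
    ({ toFun := fun x => ⟨x.left, f x.right⟩
       map_one' := SemidirectProduct.ext rfl (map_one f)
       map_mul' := fun a b => SemidirectProduct.ext
         (congrArg (fun e : AddMonoid.End V =>
           a.left * Multiplicative.ofAdd (e (Multiplicative.toAdd b.left))) (h a.right).symm)
         (map_mul f _ _) } : Aff σ →* Aff τ) ⟨?_, ?_⟩)).symm
  · intro a b e
    exact SemidirectProduct.ext (congrArg (fun x : Aff τ => x.left) e)
      (hf.1 (congrArg (fun x : Aff τ => x.right) e))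
  · intro y
    obtain ⟨g, hg⟩ := hf.2 y.right
    exact ⟨⟨y.left, g⟩, SemidirectProduct.ext rfl hg⟩

/-- A coprime group with an abelian stabilizer. -/
theorem kc_aff_le_card {p : ℕ} [hp : Fact p.Prime] {H V : Type u} [Group H] [Finite H] [AddCommGroup V]
    [Finite V] (σ : H →* AddMonoid.End V) (hσ : Function.Injective σ) (hexp : ∀ v : V, p • v = 0)
    (hcop : ¬ p ∣ Nat.card H) (v : V)
    (hab : ∀ a b : H, σ a v = v → σ b v = v → a * b = b * a) :
    kc (Aff σ) ≤ Nat.card V := by
  set Vs : Subgroup (Aff σ) := (SemidirectProduct.inl : Multiplicative V →* Aff σ).range with hVs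
  set Gs : Subgroup (Aff σ) := (SemidirectProduct.inr : H →* Aff σ).range with hGs
  haveI hn : Vs.Normal := by
    rw [hVs, SemidirectProduct.range_inl_eq_ker_rightHom]; infer_instance
  have hmem : ∀ x : Aff σ, x ∈ Vs ↔ x.right = 1 := fun x => by
    rw [hVs, SemidirectProduct.range_inl_eq_ker_rightHom]; rfl
  have hcard : Nat.card Vs = Nat.card V :=
    Nat.card_congr (MonoidHom.ofInjective SemidirectProduct.inl_injective).symm.toEquiv
  have hcompl : Subgroup.IsComplement' Vs Gs := by
    refine Subgroup.isComplement'_of_disjoint_and_mul_eq_univ ?_ ?_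
    · rw [Subgroup.disjoint_def]
      rintro x h1 ⟨g, rfl⟩
      have : g = 1 := (hmem _).mp h1
      rw [this, map_one]
    · refine Set.eq_univ_of_forall fun x => ⟨SemidirectProduct.inl x.left, ⟨_, rfl⟩,
        SemidirectProduct.inr x.right, ⟨_, rfl⟩, ?_⟩
      exact SemidirectProduct.inl_left_mul_inr_right x
  have hidx : ¬ p ∣ Vs.index := by
    rwa [hcompl.symm.index_eq_card, Nat.card_congr
      (MonoidHom.ofInjective (SemidirectProduct.inr_injective (φ := mact σ))).symm.toEquiv]
  have hpow : ∀ x ∈ Vs, x ^ p = 1 := by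
    rintro _ ⟨a, rfl⟩
    rw [← map_pow, show a ^ p = 1 from congrArg Multiplicative.ofAdd (hexp (Multiplicative.toAdd a)),
      map_one]
  have hconj : ∀ (g : H) (a : Multiplicative V),
      (SemidirectProduct.inr g : Aff σ) * SemidirectProduct.inl a * (SemidirectProduct.inr g)⁻¹ =
        SemidirectProduct.inl (mact σ g a) := fun g a => by
    rw [SemidirectProduct.inl_aut]
    simp
  have hself : Subgroup.centralizer (Vs : Set (Aff σ)) = Vs := by
    refine le_antisymm (fun x hx => (hmem x).mpr (hσ (ext_end fun w => ?_))) ?_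
    · rw [map_one, OddBase.one_apply']
      have h := congrArg SemidirectProduct.left (Subgroup.mem_centralizer_iff.mp hx
        (SemidirectProduct.inl (Multiplicative.ofAdd w)) ⟨_, rfl⟩)
      simp only [SemidirectProduct.mul_left, SemidirectProduct.left_inl, SemidirectProduct.right_inl,
        map_one, MulAut.one_apply] at h
      rw [mul_comm] at h
      exact (congrArg Multiplicative.toAdd (mul_left_cancel h)).symm
    · rintro _ ⟨a, rfl⟩
      refine Subgroup.mem_centralizer_iff.mpr ?_
      rintro _ ⟨b, rfl⟩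
      rw [← map_mul, ← map_mul, mul_comm]
  rw [← hcard]
  refine Cfsg.Agent.S4958.result p Vs hpow hidx hself Gs hcompl
    (SemidirectProduct.inl (Multiplicative.ofAdd v)) ⟨_, rfl⟩ ?_
  have hst : ∀ a ∈ Gs ⊓ Subgroup.centralizer
      ({(SemidirectProduct.inl (Multiplicative.ofAdd v) : Aff σ)} : Set (Aff σ)),
      ∃ g, (SemidirectProduct.inr g : Aff σ) = a ∧ σ g v = v := by
    rintro _ ⟨⟨g, rfl⟩, hg⟩
    refine ⟨g, rfl, ?_⟩
    have h := hconj g (Multiplicative.ofAdd v)
    rw [Subgroup.mem_centralizer_singleton_iff.mp hg, mul_inv_cancel_right] at h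
    exact (congrArg Multiplicative.toAdd (SemidirectProduct.inl_injective h)).symm
  intro a ha b hb
  obtain ⟨g, rfl, hg⟩ := hst a ha
  obtain ⟨g', rfl, hg'⟩ := hst b hb
  rw [← map_mul, ← map_mul, hab g g' hg hg']

/-- The conclusion for one linear group. -/
def Out (F : Type u) [Field F] (V : Type u) [AddCommGroup V] [Module F V] (G : Type u) [Group G]
    (ρ : G →* (V ≃ₗ[F] V)) : Prop :=
  Cb (Top G) (3 ^ (Module.finrank F V - 1)) ∧
    (Finite V → kc (Aff (endo ρ)) ≤ 3 ^ (Module.finrank F V - 1) * Nat.card V)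

/-- The standing hypothesis on the coefficient field. -/
def Good (F : Type u) [Field F] (V : Type u) [AddCommGroup V] [Module F V] (G : Type u) [Group G]
    (ρ : G →* (V ≃ₗ[F] V)) : Prop :=
  CharZero F ∨ (Finite V ∧ CR (endo ρ))

theorem exists_char {F : Type u} [Field F] {V : Type u} [AddCommGroup V] [Module F V] [Finite V]
    [Nontrivial V] : ∃ p : ℕ, p.Prime ∧ (p : F) = 0 ∧ (∀ v : V, p • v = 0) := by
  obtain ⟨v, hv⟩ := exists_ne (0 : V)
  haveI : Finite F := Finite.of_injective (fun c : F => c • v) (smul_left_injective F hv)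
  haveI : Fact (ringChar F).Prime := ⟨CharP.char_is_prime F (ringChar F)⟩
  refine ⟨ringChar F, Fact.out, CharP.cast_eq_zero F _, fun w => ?_⟩
  rw [← Nat.cast_smul_eq_nsmul F, CharP.cast_eq_zero, zero_smul]

theorem normal_pgroup_eq_bot {F : Type u} [Field F] {V : Type u} [AddCommGroup V] [Module F V]
    [Finite V] {G : Type u} [Group G] {ρ : G →* (V ≃ₗ[F] V)} (hρ : Function.Injective ρ)
    (hcr : CR (endo ρ)) {p : ℕ} [Fact p.Prime] (hexp : ∀ v : V, p • v = 0) (N : Subgroup G)
    (hN : N.Normal) (hNp : IsPGroup p N) : N = ⊥ :=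
  eq_bot_of_isPGroup (endo ρ) (endo_injective hρ) hcr
    (fun a => ⟨1, by
      rw [pow_one]
      exact congrArg Multiplicative.ofAdd (hexp (Multiplicative.toAdd a))⟩) N hNp

theorem card_cast_ne_zero {F : Type u} [Field F] {V : Type u} [AddCommGroup V] [Module F V]
    [Nontrivial V] {G : Type u} [Group G] [Finite G] {ρ : G →* (V ≃ₗ[F] V)} (hρ : Function.Injective ρ)
    (hgood : Good F V G ρ) (A : Subgroup G) [A.Normal] (hA : ∀ a ∈ A, ∀ b ∈ A, a * b = b * a) :
    (Nat.card A : F) ≠ 0 := by
  rcases hgood with h0 | ⟨hfin, hcr⟩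
  · exact Nat.cast_ne_zero.mpr Nat.card_pos.ne'
  intro h
  obtain ⟨p, hp, hp0, hexp⟩ := exists_char (F := F) (V := V)
  haveI : Fact p.Prime := ⟨hp⟩
  haveI : CharP F p := (CharP.charP_iff_prime_eq_zero hp).mpr hp0
  have hdvd : p ∣ Nat.card A := (CharP.cast_eq_zero_iff F p _).mp h
  obtain ⟨P⟩ : Nonempty (Sylow p A) := inferInstance
  haveI hPn : (P : Subgroup A).Normal := ⟨fun x hx g => by
    rwa [show g * x = x * g from Subtype.ext (hA g g.2 x x.2), mul_inv_cancel_right]⟩
  haveI := Sylow.characteristic_of_normal P hPn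
  have h1 := normal_pgroup_eq_bot hρ hcr hexp _
    (inferInstance : ((P : Subgroup A).map A.subtype).Normal) (P.2.map _)
  rw [Subgroup.map_eq_bot_iff_of_injective _ A.subtype_injective] at h1
  exact P.ne_bot_of_dvd_card hdvd h1

theorem three_pow_ineq {n' m : ℕ} (hn : 1 ≤ n') (hm : 1 ≤ m) : m * 3 ^ (n' - 1) ≤ 3 ^ (n' * m - 1) := by
  have h1 : m ≤ 3 ^ (m - 1) := by
    have := Nat.lt_pow_self (n := m - 1) (show 1 < 3 by norm_num)
    omega
  refine (Nat.mul_le_mul_right _ h1).trans ?_
  rw [← pow_add]
  refine Nat.pow_le_pow_right (by norm_num) ?_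
  rw [add_comm, mul_comm]
  exact (add_comm _ _).le.trans (exp_add_le hm hn)

/-- The scalar case. -/
theorem scalar_case {F : Type u} [Field F] {V : Type u} [AddCommGroup V] [Module F V]
    [FiniteDimensional F V] [Nontrivial V] {G : Type u} [Group G] [Finite G]
    (hG : Group.IsSolvable G) (ρ : G →* (V ≃ₗ[F] V)) (hρ : Function.Injective ρ) (hgood : Good F V G ρ)
    (hscal : ∀ A : Subgroup G, A.Normal → (∀ a ∈ A, ∀ b ∈ A, a * b = b * a) → ∀ a ∈ A, IsScal ρ a) :
    Out F V G ρ := by
  haveI := hG
  have h1 := scalar_bound hρ hscal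
  refine ⟨h1, fun hfin => ?_⟩
  obtain ⟨p, hp, hp0, hexp⟩ := exists_char (F := F) (V := V)
  haveI : Fact p.Prime := ⟨hp⟩
  have hcr : CR (endo ρ) := hgood.elim (fun h0 => by
    haveI := h0
    exact absurd hp0 (Nat.cast_ne_zero.mpr hp.ne_zero)) (·.2)
  have hcop := not_dvd_card_fitting (G := G) (p := p) fun N hN hNp =>
    normal_pgroup_eq_bot hρ hcr hexp N hN hNp
  obtain ⟨v, hv⟩ := exists_ne (0 : V)
  set N := Cfsg.fittingSubgroup G
  have h2 : kc (Aff ((endo ρ).comp N.subtype)) ≤ Nat.card V := by
    refine kc_aff_le_card ((endo ρ).comp N.subtype)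
      ((endo_injective hρ).comp N.subtype_injective) hexp hcop v fun a b ha hb => ?_
    have hc := commutator_scalar hρ hscal a a.2 b b.2
    obtain ⟨c, hc'⟩ := hc
    let St : Subgroup G :=
      { carrier := {g | ρ g v = v}
        one_mem' := by show ρ 1 v = v; rw [map_one]; rfl
        mul_mem' := fun {x y} (hx : ρ x v = v) (hy : ρ y v = v) => by
          show ρ (x * y) v = v
          rw [rho_apply_mul, hy, hx]
        inv_mem' := fun {x} (hx : ρ x v = v) => by
          show ρ x⁻¹ v = v
          conv_lhs => rw [← hx, ← rho_apply_mul, inv_mul_cancel, map_one]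
          rfl }
    have hmem : ⁅(a : G), (b : G)⁆ ∈ St := by
      rw [commutatorElement_def]
      exact St.mul_mem (St.mul_mem (St.mul_mem ha hb) (St.inv_mem ha)) (St.inv_mem hb)
    have hone : c = 1 := smul_left_injective F hv (((hc' v).symm.trans hmem).trans (one_smul F v).symm)
    refine Subtype.ext (commutatorElement_eq_one_iff_mul_comm.mp (hρ (LinearEquiv.ext fun w => ?_)))
    rw [hc', hone, one_smul, map_one]; rfl
  calc kc (Aff (endo ρ)) ≤ kc (Aff ((endo ρ).comp N.subtype)) * kc (G ⧸ N) := kc_le_normal _ N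
    _ ≤ Nat.card V * 3 ^ (Module.finrank F V - 1) := Nat.mul_le_mul h2 h1.self
    _ = _ := mul_comm _ _

/-- The inductive step data: the theorem in smaller dimension. -/
def Below (n : ℕ) : Prop :=
  ∀ m < n, ∀ (F : Type u) [Field F] (V : Type u) [AddCommGroup V] [Module F V] [FiniteDimensional F V],
    Module.finrank F V = m → ∀ (G : Type u) [Group G] [Finite G], Group.IsSolvable G →
    ∀ ρ : G →* (V ≃ₗ[F] V), Function.Injective ρ → Good F V G ρ → Out F V G ρ

theorem main : ∀ (n : ℕ), Below.{u} n := by
  intro n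
  induction n with
  | zero => exact fun m hm => absurd hm (Nat.not_lt_zero m)
  | succ n ih =>
  intro m hm
  rcases Nat.lt_or_ge m n with hlt | hge
  · exact ih m hlt
  obtain rfl : m = n := by omega
  intro F _ V _ _ _ hn G _ _ hG ρ hρ hgood
  classical
  haveI := hG
  rcases subsingleton_or_nontrivial V with hV | hV
  · haveI : Subsingleton G := ⟨fun g h => hρ (LinearEquiv.ext fun v => Subsingleton.elim _ _)⟩
    haveI : Subsingleton (Top G) := Quotient.instSubsingletonQuotient _
    refine ⟨Cb.of_subsingleton.mono (Nat.one_le_pow _ _ (by norm_num)), fun _ => ?_⟩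
    haveI : Subsingleton (Aff (endo ρ)) :=
      ⟨fun a b => SemidirectProduct.ext (Subsingleton.elim (α := V) _ _) (Subsingleton.elim _ _)⟩
    exact ((kc_le_card _).trans (Finite.card_le_one_iff_subsingleton.mpr ‹_›)).trans
      (Nat.mul_pos (Nat.pow_pos (by norm_num)) Nat.card_pos)
  by_cases hscal : ∀ A : Subgroup G, A.Normal → (∀ a ∈ A, ∀ b ∈ A, a * b = b * a) → ∀ a ∈ A, IsScal ρ a
  · exact scalar_case hG ρ hρ hgood hscal
  push Not at hscal
  obtain ⟨A, hAn, hAab, a₀, ha₀, hns⟩ := hscal
  let gens : A → Module.End F V := fun a => (ρ (a : G) : V →ₗ[F] V)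
  have hgc : ∀ x ∈ Set.range gens, ∀ y ∈ Set.range gens, x * y = y * x := by
    rintro _ ⟨a, rfl⟩ _ ⟨b, rfl⟩
    refine LinearMap.ext fun v => ?_
    show ρ a (ρ b v) = ρ b (ρ a v)
    rw [← rho_apply_mul, ← rho_apply_mul, hAab a a.2 b b.2]
  set R : Subalgebra F (Module.End F V) := Algebra.adjoin F (Set.range gens) with hR
  have hRc : ∀ x y : R, x * y = y * x := fun x y => by
    haveI := Algebra.isMulCommutative_adjoin F hgc
    exact mul_comm' x y
  letI iCR : CommRing R := { (inferInstance : Ring R) with mul_comm := hRc }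
  haveI : FiniteDimensional F R := FiniteDimensional.finiteDimensional_subalgebra R
  -- reduced
  letI iA : CommGroup A :=
    { (inferInstance : Group A) with mul_comm := fun a b => Subtype.ext (hAab a a.2 b b.2) }
  haveI : Fintype A := Fintype.ofFinite A
  haveI : NeZero (Nat.card A : F) := ⟨card_cast_ne_zero hρ hgood A hAab⟩
  let gh : A →* R :=
    { toFun := fun a => ⟨gens a, Algebra.subset_adjoin ⟨a, rfl⟩⟩
      map_one' := Subtype.ext (LinearMap.ext fun v => by
        show ρ ((1 : A) : G) v = v
        rw [OneMemClass.coe_one, map_one]; rfl)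
      map_mul' := fun a b => Subtype.ext (LinearMap.ext fun v => rho_apply_mul ρ a b v) }
  let lf : MonoidAlgebra F A →ₐ[F] R := MonoidAlgebra.lift F R A gh
  have hlf : Function.Surjective lf := by
    intro x
    obtain ⟨y, hy⟩ : (x : Module.End F V) ∈ ((R.val).comp lf).range := by
      have hle : R ≤ ((R.val).comp lf).range := Algebra.adjoin_le (by
        rintro _ ⟨a, rfl⟩
        exact ⟨MonoidAlgebra.of F A a, congrArg Subtype.val (MonoidAlgebra.lift_of gh a)⟩)
      exact hle x.2
    exact ⟨y, Subtype.ext hy⟩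
  haveI : IsSemisimpleRing R := RingHom.isSemisimpleRing_of_surjective lf.toRingHom hlf
  haveI : IsReduced R := inferInstance
  haveI : Nontrivial R := ⟨⟨0, 1, fun h => by
    obtain ⟨v, hv⟩ := exists_ne (0 : V)
    exact hv (LinearMap.congr_fun (congrArg Subtype.val h) v).symm⟩⟩
  -- conjugation
  have hconjmem : ∀ (g : G) (x : R), (ρ g).conjAlgEquiv F (x : Module.End F V) ∈ R := by
    intro g x
    have hle : R ≤ R.comap ((ρ g).conjAlgEquiv F).toAlgHom := Algebra.adjoin_le (by
      rintro _ ⟨a, rfl⟩
      refine Algebra.subset_adjoin ⟨⟨g * a * g⁻¹, hAn.conj_mem a a.2 g⟩, LinearMap.ext fun v => ?_⟩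
      show ρ (g * a * g⁻¹) v = ρ g (ρ a ((ρ g).symm v))
      rw [rho_apply_mul, rho_apply_mul, map_inv]; rfl)
    exact hle x.2
  have hconjmul : ∀ (g h : G) (x : Module.End F V),
      (ρ (g * h)).conjAlgEquiv F x = (ρ g).conjAlgEquiv F ((ρ h).conjAlgEquiv F x) := fun g h x => by
    rw [map_mul]; rfl
  have hconjone : ∀ x : Module.End F V, (ρ (1 : G)).conjAlgEquiv F x = x := fun x => by
    rw [map_one]; rfl
  let σ : G →* (R ≃ₐ[F] R) :=
    MonoidHom.mk' (fun g =>
      { toFun := fun x => ⟨_, hconjmem g x⟩
        invFun := fun x => ⟨_, hconjmem g⁻¹ x⟩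
        left_inv := fun x => Subtype.ext (by
          show (ρ g⁻¹).conjAlgEquiv F ((ρ g).conjAlgEquiv F (x : Module.End F V)) = x
          rw [← hconjmul, inv_mul_cancel, hconjone])
        right_inv := fun x => Subtype.ext (by
          show (ρ g).conjAlgEquiv F ((ρ g⁻¹).conjAlgEquiv F (x : Module.End F V)) = x
          rw [← hconjmul, mul_inv_cancel, hconjone])
        map_mul' := fun x y => Subtype.ext (map_mul ((ρ g).conjAlgEquiv F) _ _)
        map_add' := fun x y => Subtype.ext (map_add ((ρ g).conjAlgEquiv F) _ _)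
        commutes' := fun c => Subtype.ext (AlgEquiv.commutes ((ρ g).conjAlgEquiv F) c) })
      fun g h => AlgEquiv.ext fun x => Subtype.ext (hconjmul g h _)
  have hσv : ∀ (g : G) (x : R) (v : V),
      (σ g x : Module.End F V) (ρ g v) = ρ g ((x : Module.End F V) v) := fun g x v => by
    show ρ g ((x : Module.End F V) ((ρ g).symm (ρ g v))) = _
    rw [LinearEquiv.symm_apply_apply]
  let P := {e : R // IsPrimIdem e}
  haveI : Finite P := finite_primIdem (F := F) (R := R)
  haveI : Fintype P := Fintype.ofFinite P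
  have hsum := sum_primIdem (F := F) (R := R)
  have hVfin : Finite V → CR (endo ρ) := fun hf => hgood.elim (fun h0 => by
    obtain ⟨p, hp, hp0, -⟩ := exists_char (F := F) (V := V)
    haveI := h0
    exact absurd hp0 (Nat.cast_ne_zero.mpr hp.ne_zero)) (·.2)
  by_cases ht : 1 < Fintype.card P
  · -- blocks
    have hprim : ∀ (g : G) (e : R), IsPrimIdem e → IsPrimIdem (σ g e) := by
      intro g e he
      refine ⟨by rw [← map_mul, he.1], fun h => he.2.1 ((map_eq_zero_iff _ (σ g).injective).mp h),
        fun f hf hef => ?_⟩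
      obtain ⟨f, rfl⟩ := (σ g).surjective f
      rw [← map_mul] at hf hef
      rcases he.2.2 f ((σ g).injective hf) ((σ g).injective hef) with rfl | rfl
      · exact Or.inl (map_zero _)
      · exact Or.inr rfl
    let τ : G →* Equiv.Perm P :=
      MonoidHom.toHomPerm
        { toFun := fun g e => ⟨σ g e, hprim g e e.2⟩
          map_one' := funext fun e => Subtype.ext (by
            show σ 1 (e : R) = e
            rw [map_one]; rfl)
          map_mul' := fun g h => funext fun e => Subtype.ext (by
            show σ (g * h) (e : R) = σ g (σ h e)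
            rw [map_mul]; rfl) }
    set K := τ.ker with hK
    let W : P → Submodule F V := fun e => LinearMap.range ((e : R) : Module.End F V)
    have hKcomm : ∀ (k : K) (e : P) (v : V),
        ((e : R) : Module.End F V) (ρ k v) = ρ k (((e : R) : Module.End F V) v) := fun k e v => by
      have h : σ (k : G) (e : R) = e := congrArg Subtype.val (Equiv.congr_fun (MonoidHom.mem_ker.mp k.2) e)
      rw [← hσv, h]
    have hKW : ∀ (k : K) (e : P), ∀ v ∈ W e, ρ k v ∈ W e := by
      rintro k e _ ⟨v, rfl⟩
      exact ⟨ρ k v, hKcomm k e v⟩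
    have hidem : ∀ (e : P) (v : V),
        ((e : R) : Module.End F V) (((e : R) : Module.End F V) v) = ((e : R) : Module.End F V) v :=
      fun e v => LinearMap.congr_fun (congrArg Subtype.val e.2.1) v
    let π : ∀ e : P, V →ₗ[F] W e := fun e => ((e : R) : Module.End F V).rangeRestrict
    have hπd : ∀ (e : P) (w : W e), π e (w : V) = w := by
      rintro e ⟨_, v, rfl⟩
      exact Subtype.ext (hidem e v)
    have hπo : ∀ (e f : P) (w : W e), f ≠ e → π f (w : V) = 0 := by
      rintro e f ⟨_, v, rfl⟩ hne
      exact Subtype.ext (LinearMap.congr_fun (congrArg Subtype.val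
        (f.2.mul_eq_zero e.2 fun h => hne (Subtype.ext h))) v)
    have hπs : ∀ v, ∑ e : P, ((π e v : W e) : V) = v := fun v => by
      have h := congrArg Subtype.val hsum
      have h2 := LinearMap.congr_fun h v
      simp only [AddSubmonoidClass.coe_finsetSum, LinearMap.coe_sum, Finset.sum_apply] at h2
      exact h2
    have hsep : ∀ v, (∀ e, π e v = 0) → v = 0 := fun v h => by
      rw [← hπs v]
      exact Finset.sum_eq_zero fun e _ => by rw [h e]; rfl
    have hne : ∀ e : P, 1 ≤ Module.finrank F (W e) := fun e => by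
      rw [Submodule.one_le_finrank_iff]
      intro h
      exact e.2.2.1 (Subtype.ext (LinearMap.range_eq_bot.mp h))
    have hfr : ∑ e : P, Module.finrank F (W e) = m := by
      rw [← hn, ← Module.finrank_pi_fintype F]
      symm
      refine LinearEquiv.finrank_eq (LinearEquiv.ofLinear (LinearMap.pi π)
        (∑ e : P, (W e).subtype.comp (LinearMap.proj e)) ?_ ?_)
      · refine LinearMap.ext fun f => funext fun e => ?_
        simp only [LinearMap.comp_apply, LinearMap.pi_apply, LinearMap.coe_sum, Finset.sum_apply, map_sum,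
          LinearMap.id_apply, LinearMap.proj_apply, Submodule.subtype_apply]
        rw [Finset.sum_eq_single e (fun f' _ hf => hπo f' e _ hf.symm) (by simp)]
        exact hπd e _
      · refine LinearMap.ext fun v => ?_
        simp only [LinearMap.comp_apply, LinearMap.coe_sum, Finset.sum_apply, LinearMap.proj_apply,
          LinearMap.pi_apply, Submodule.subtype_apply, LinearMap.id_apply]
        exact hπs v
    have hlt : ∀ e : P, Module.finrank F (W e) < m := fun e => by
      rw [← hfr, ← Finset.add_sum_erase _ _ (Finset.mem_univ e)]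
      have hp := Finset.sum_le_sum (s := Finset.univ.erase e) (fun f _ => hne f)
      rw [Finset.sum_const, smul_eq_mul, mul_one, Finset.card_erase_of_mem (Finset.mem_univ e),
        Finset.card_univ] at hp
      omega
    -- the images
    let rr : ∀ e : P, K →* (W e ≃ₗ[F] W e) := fun e =>
      MonoidHom.mk' (fun k =>
        { toFun := fun w => ⟨ρ k w, hKW k e w w.2⟩
          invFun := fun w => ⟨ρ ((k⁻¹ : K) : G) w, hKW k⁻¹ e w w.2⟩
          left_inv := fun w => Subtype.ext (by
            show ρ ((k⁻¹ : K) : G) (ρ k w) = w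
            rw [← rho_apply_mul, ← Subgroup.coe_mul, inv_mul_cancel, OneMemClass.coe_one, map_one]
            rfl)
          right_inv := fun w => Subtype.ext (by
            show ρ k (ρ ((k⁻¹ : K) : G) w) = w
            rw [← rho_apply_mul, ← Subgroup.coe_mul, mul_inv_cancel, OneMemClass.coe_one, map_one]
            rfl)
          map_add' := fun a b => Subtype.ext (map_add (ρ k) _ _)
          map_smul' := fun c a => Subtype.ext (map_smul (ρ k) c (a : V)) })
        fun a b => LinearEquiv.ext fun w => Subtype.ext (rho_apply_mul ρ _ _ _)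
    haveI : ∀ e, Finite (rr e).range := fun e => Finite.of_surjective _ (rr e).rangeRestrict_surjective
    have hKsol : ∀ e, Group.IsSolvable (rr e).range := fun e =>
      Group.isSolvable_of_surjective (rr e).rangeRestrict_surjective
    have hinv : ∀ e : P, Inv ((endo ρ).comp K.subtype) (W e).toAddSubgroup := fun e k w hw => hKW k e w hw
    have hcre : Finite V → ∀ e, CR (endo (rr e).range.subtype) := by
      intro hf e
      refine cr_of_range (V := W e) (res ((endo ρ).comp K.subtype) (W e).toAddSubgroup (hinv e))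
        (endo (rr e).range.subtype) (fun k => ⟨⟨_, k, rfl⟩, rfl⟩) ?_
        (OddBase.cr_res _ (cr_normal (endo ρ) (hVfin hf) K) _ (hinv e))
      rintro ⟨_, k, rfl⟩
      exact ⟨k, rfl⟩
    have hgood' : ∀ e, ∀ C : Subgroup (rr e).range, C.Normal →
        Good F (W e) C ((rr e).range.subtype.comp C.subtype) := by
      intro e C hC
      rcases hgood with h0 | ⟨hf, -⟩
      · exact Or.inl h0
      · refine Or.inr ⟨inferInstance, ?_⟩
        exact cr_normal (endo (rr e).range.subtype) (hcre hf e) C
    have hout : ∀ e, ∀ C : Subgroup (rr e).range, C.Normal →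
        Out F (W e) C ((rr e).range.subtype.comp C.subtype) := fun e C hC => by
      haveI := hKsol e
      exact ih _ (hlt e) F (W e) rfl C inferInstance _
        ((rr e).range.subtype_injective.comp C.subtype_injective) (hgood' e C hC)
    have hprod : ∏ e : P, 3 ^ (Module.finrank F (W e) - 1) = 3 ^ (m - Fintype.card P) := by
      rw [Finset.prod_pow_eq_pow_sum]
      congr 1
      rw [Finset.sum_tsub_distrib _ fun e _ => hne e, hfr, Finset.sum_const, smul_eq_mul, mul_one,
        Finset.card_univ]
    have htm : Fintype.card P ≤ m := by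
      rw [← hfr, ← Finset.card_univ, Finset.card_eq_sum_ones]
      exact Finset.sum_le_sum fun e _ => hne e
    have hidx : K.index ≤ 3 ^ (Fintype.card P - 1) := by
      rw [hK, Subgroup.index_ker, ← Nat.card_eq_fintype_card]
      exact card_le_three_pow (Group.isSolvable_of_surjective τ.rangeRestrict_surjective)
        τ.range.subtype τ.range.subtype_injective
    have hpow : 3 ^ (m - Fintype.card P) * 3 ^ (Fintype.card P - 1) = 3 ^ (m - 1) := by
      rw [← pow_add]
      congr 1
      omega
    have hKinj : ∀ k : K, (∀ e, rr e k = 1) → k = 1 := fun k hk => by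
      refine Subtype.ext (hρ (LinearEquiv.ext fun v => ?_))
      rw [OneMemClass.coe_one, map_one]
      show ρ k v = v
      rw [← hπs v, map_sum]
      exact Finset.sum_congr rfl fun e _ => congrArg Subtype.val (LinearEquiv.congr_fun (hk e) (π e v))
    refine ⟨?_, fun hf => ?_⟩
    · rw [hn, ← hpow]
      refine top_of_normal K ?_ hidx
      rw [← hprod]
      refine top_of_family (fun e => (rr e).rangeRestrict) (fun e => (rr e).rangeRestrict_surjective)
        (fun k hk => hKinj k fun e => congrArg Subtype.val (hk e)) _ fun e => ?_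
      haveI := hKsol e
      have h := (ih _ (hlt e) F (W e) rfl (rr e).range inferInstance (rr e).range.subtype
        (rr e).range.subtype_injective (hgood.elim Or.inl fun h => Or.inr ⟨by
          haveI := h.1; infer_instance, hcre h.1 e⟩)).1
      exact h
    · rw [hn]
      haveI : Finite V := hf
      have hblocks : kc (Aff ((endo ρ).comp K.subtype)) ≤
          ∏ e : P, 3 ^ (Module.finrank F (W e) - 1) * Nat.card (W e) := by
        refine kc_le_prod ((endo ρ).comp K.subtype) ((endo_injective hρ).comp K.subtype_injective)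
          (fun e => (W e).toAddSubgroup) hinv (fun e => (π e).toAddMonoidHom)
          (fun e k v => hKcomm k e v) hsep hπd (fun e f w h => hπo e f w h) _ fun e C hC => ?_
        let θ : (rr e).range →*
            (res ((endo ρ).comp K.subtype) (W e).toAddSubgroup (hinv e)).toHomUnits.range :=
          MonoidHom.codRestrict ((endo (rr e).range.subtype).toHomUnits) _ (by
            rintro ⟨_, k, rfl⟩
            exact ⟨k, Units.ext rfl⟩)
        have hθi : Function.Injective θ := fun x y h => Subtype.ext (LinearEquiv.ext fun w =>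
          DFunLike.congr_fun (congrArg Units.val (congrArg Subtype.val h)) w)
        haveI := hC
        let f : C.comap θ →* C := θ.subgroupComap C
        have hfb : Function.Bijective f := by
          refine ⟨fun x y h => Subtype.ext (hθi (congrArg Subtype.val h)), ?_⟩
          rintro ⟨⟨_, k, rfl⟩, hc⟩
          refine ⟨⟨⟨_, k, rfl⟩, ?_⟩, rfl⟩
          exact hc
        have h := (hout e (C.comap θ) inferInstance).2 inferInstance
        refine le_of_eq_of_le ?_ h
        exact kc_aff_congr _ _ f hfb fun g => rfl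
      have hcard : ∏ e : P, Nat.card (W e) = Nat.card V := by
        rw [← Nat.card_pi]
        refine (Nat.card_congr (Equiv.ofBijective (fun (v : V) (e : P) => π e v) ⟨?_, ?_⟩)).symm
        · intro a b h
          rw [← hπs a, ← hπs b]
          exact Finset.sum_congr rfl fun e _ => congrArg Subtype.val (congrFun h e)
        · intro f
          refine ⟨∑ e : P, (f e : V), funext fun e => ?_⟩
          show π e (∑ e' : P, (f e' : V)) = f e
          rw [map_sum, Finset.sum_eq_single e (fun f' _ hf' => hπo f' e _ hf'.symm) (by simp), hπd]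
      calc kc (Aff (endo ρ)) ≤ K.index * kc (Aff ((endo ρ).comp K.subtype)) := kc_le_index _ K
        _ ≤ 3 ^ (Fintype.card P - 1) * (3 ^ (m - Fintype.card P) * Nat.card V) := by
            refine Nat.mul_le_mul hidx (hblocks.trans (le_of_eq ?_))
            rw [Finset.prod_mul_distrib, hprod, hcard]
        _ = 3 ^ (m - 1) * Nat.card V := by rw [← hpow]; ring
  -- a field
  have hP1 : ∀ e : P, (e : R) = 1 := fun e => by
    have : Subsingleton P := Fintype.card_le_one_iff_subsingleton.mp (not_lt.mp ht)
    have h := hsum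
    rwa [Fintype.sum_subsingleton _ e] at h
  have htriv : ∀ e : R, e * e = e → e = 0 ∨ e = 1 := by
    intro e he
    obtain ⟨f⟩ : Nonempty P := by
      by_contra h
      haveI := not_nonempty_iff.mp h
      rw [Fintype.sum_empty] at hsum
      exact zero_ne_one hsum
    rcases f.2.2.2 e he (by rw [hP1 f, one_mul]) with h | h
    · exact Or.inl h
    · exact Or.inr (h.trans (hP1 f))
  letI iF : Field R := (isField_of_trivial_idem (F := F) htriv).toField
  have hd : 2 ≤ Module.finrank F R := by
    by_contra h
    have h1 : Module.finrank F R = 1 := by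
      have := Module.finrank_pos (R := F) (M := R)
      omega
    apply hns
    have hbot : R = ⊥ := Subalgebra.eq_bot_of_finrank_one h1
    have hmem : gens ⟨a₀, ha₀⟩ ∈ (⊥ : Subalgebra F (Module.End F V)) :=
      hbot ▸ Algebra.subset_adjoin ⟨_, rfl⟩
    obtain ⟨c, hc⟩ := Algebra.mem_bot.mp hmem
    exact ⟨c, fun v => (LinearMap.congr_fun hc v).symm⟩
  haveI : IsScalarTower F R V := ⟨fun c r v => rfl⟩
  haveI : Module.Finite R V := Module.Finite.of_restrictScalars_finite F R V
  set n' := Module.finrank R V with hn'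
  have hmul : Module.finrank F R * n' = m := hn ▸ Module.finrank_mul_finrank F R V
  have hn'1 : 1 ≤ n' := Module.finrank_pos
  have hn'lt : n' < m := by
    rw [← hmul]
    calc n' = 1 * n' := (one_mul _).symm
      _ < Module.finrank F R * n' := Nat.mul_lt_mul_of_pos_right (by omega) (by omega)
  set C := σ.ker with hC
  have hidx : C.index ≤ Module.finrank F R := by
    rw [hC, Subgroup.index_ker]
    refine (Subgroup.card_le_card_group _).trans ?_
    rw [@Nat.card_eq_fintype_card _ (AlgEquiv.fintype F R)]
    exact AlgEquiv.card_le (F := F) (K := R)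
  have hlin : ∀ (c : C) (r : R) (v : V), ρ c (r • v) = r • ρ c v := fun c r v => by
    show ρ c ((r : Module.End F V) v) = (r : Module.End F V) (ρ c v)
    have h : σ (c : G) r = r := AlgEquiv.congr_fun (MonoidHom.mem_ker.mp c.2) r
    rw [← hσv, h]
  let ρ' : C →* (V ≃ₗ[R] V) :=
    MonoidHom.mk' (fun c => { (ρ (c : G)).toAddEquiv with map_smul' := fun r v => hlin c r v })
      fun a b => LinearEquiv.ext fun v => rho_apply_mul ρ _ _ _
  have hρ' : Function.Injective ρ' := fun a b h =>
    Subtype.ext (hρ (LinearEquiv.ext fun v => LinearEquiv.congr_fun h v))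
  have hgood2 : Good R V C ρ' := by
    rcases hgood with h0 | ⟨hf, hcr⟩
    · haveI := h0
      exact Or.inl (charZero_of_injective_algebraMap (algebraMap F R).injective)
    · exact Or.inr ⟨hf, cr_normal (endo ρ) hcr C⟩
  have hout := ih n' hn'lt R V rfl C inferInstance ρ' hρ' hgood2
  refine ⟨?_, fun hf => ?_⟩
  · refine (top_of_normal C hout.1 hidx).mono ?_
    rw [hn, ← hmul, mul_comm _ (Module.finrank F R), mul_comm (Module.finrank F R) n']
    exact three_pow_ineq hn'1 (by omega)
  · haveI : Finite V := hf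
    rw [hn]
    calc kc (Aff (endo ρ)) ≤ C.index * kc (Aff ((endo ρ).comp C.subtype)) := kc_le_index _ C
      _ ≤ Module.finrank F R * (3 ^ (n' - 1) * Nat.card V) := Nat.mul_le_mul hidx (hout.2 hf)
      _ ≤ 3 ^ (m - 1) * Nat.card V := by
          rw [← mul_assoc]
          refine Nat.mul_le_mul_right _ ((three_pow_ineq hn'1 (by omega)).trans (le_of_eq ?_))
          rw [← hmul, mul_comm n']

/-- Solvable linear groups. -/
theorem solvable_linear {F : Type u} [Field F] {V : Type u} [AddCommGroup V] [Module F V]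
    [FiniteDimensional F V] {G : Type u} [Group G] [Finite G] (hG : Group.IsSolvable G)
    (ρ : G →* (V ≃ₗ[F] V)) (hρ : Function.Injective ρ) (hgood : Good F V G ρ) : Out F V G ρ :=
  main _ _ (Nat.lt_succ_self _) F V rfl G hG ρ hρ hgood

end CfsgLib.KR
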