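import Mathlib
import Cfsg.Agent.Lib.KR.Linear
import Cfsg.Agent.Lib.KR.Head
import Cfsg.Agent.Lib.HallHigman.Layer
import Cfsg.Agent.Lib.ZJ.RealElements
import Cfsg.Agent.Lib.PSolvable.Core
import Cfsg.Agent.S4965

/-!
Classes of a solvable group with trivial `p'`-core.
-/

set_option autoImplicit false
set_option linter.style.haveILetI false
set_option maxHeartbeats 1000000

namespace CfsgLib.KR

open CfsgLib.OddBase (Inv CR ext_end)

universe u

theorem kc_le_core {X : Type u} [Group X] [Finite X] (hX : Group.IsSolvable X) (p : ℕ) [hp : Fact p.Prime]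
    (hO : Cfsg.pPrimeCore p X = ⊥) {d : ℕ} (hd : (Nat.card X).factorization p = d) :
    kc X ≤ 3 ^ (d - 1) * p ^ d := by
  classical
  haveI hRn := Fitting.pCore_normal (G := X) p
  obtain ⟨φ, hφinj, hφ, hcommA, hexpA⟩ :=
    HallHigman.exists_action (PSolvable.isPSolvable_of_isSolvable hX) hO
  set R := Cfsg.pCore p X with hRdef
  have hRp : IsPGroup p R := Fitting.pCore_isPGroup p
  letI : CommGroup (R ⧸ frattini R) :=
    { (inferInstance : Group (R ⧸ frattini R)) with mul_comm := hcommA }
  let A := Additive (R ⧸ frattini R)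
  haveI : Finite A := inferInstanceAs (Finite (R ⧸ frattini R))
  let σ : X ⧸ R →* AddMonoid.End A :=
    { toFun := fun h => MonoidHom.toAdditive (φ h).toMonoidHom
      map_one' := ext_end fun a => by
        show Additive.ofMul (φ 1 (Additive.toMul a)) = a
        rw [map_one]; rfl
      map_mul' := fun g h => ext_end fun a => by
        show Additive.ofMul (φ (g * h) (Additive.toMul a)) = _
        rw [map_mul]; rfl }
  have hσ : Function.Injective σ := fun g h e => hφinj (MulEquiv.ext fun a =>
    Additive.ofMul.injective (DFunLike.congr_fun e (Additive.ofMul a)))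
  have hexpA' : ∀ a : A, p • a = 0 := fun a => congrArg Additive.ofMul (hexpA (Additive.toMul a))
  have hH : Group.IsSolvable (X ⧸ R) :=
    haveI := hX
    Group.isSolvable_of_surjective (f := QuotientGroup.mk' R) (QuotientGroup.mk'_surjective R)
  have hOH : Cfsg.pCore p (X ⧸ R) = ⊥ := le_bot_iff.mp ZJ.pCore_quotient_pCore_le_bot
  -- the kernel of the head
  let inA : R → A := fun r => Additive.ofMul (QuotientGroup.mk r)
  have inA_mul : ∀ a b : R, inA (a * b) = inA a + inA b := fun a b => rfl
  have inA_surj : ∀ a : A, ∃ r, inA r = a := fun a =>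
    (QuotientGroup.mk_surjective (Additive.toMul a)).imp fun r hr => congrArg Additive.ofMul hr
  have inA_conj : ∀ (x : X) (r : R), inA (MulAut.conjNormal x r) = σ (QuotientGroup.mk x) (inA r) :=
    fun x r => congrArg Additive.ofMul (hφ x r).symm
  let U₀ : Subgroup R :=
    { carrier := {r | inA r ∈ radI σ}
      one_mem' := (radI σ).zero_mem
      mul_mem' := fun {a b} ha hb => (radI σ).add_mem ha hb
      inv_mem' := fun {a} ha => (radI σ).neg_mem ha }
  let U' : Subgroup X := U₀.map R.subtype
  have hU'n : U'.Normal := ⟨by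
    rintro _ ⟨r, hr, rfl⟩ g
    refine ⟨MulAut.conjNormal g r, ?_, MulAut.conjNormal_apply g r⟩
    show inA _ ∈ radI σ
    rw [inA_conj]
    exact inv_radI σ _ _ hr⟩
  haveI := hU'n
  have hU'R : U' ≤ R := Subgroup.map_subtype_le _
  set π := QuotientGroup.mk' U' with hπ
  have hπs : Function.Surjective π := QuotientGroup.mk'_surjective U'
  let Rb : Subgroup (X ⧸ U') := R.map π
  haveI hRbn : Rb.Normal := hRn.map π hπs
  let g0 : R →* Rb := π.subgroupMap R
  have g0s : Function.Surjective g0 := π.subgroupMap_surjective R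
  have g0ker : ∀ r, g0 r = 1 ↔ inA r ∈ radI σ := fun r => by
    rw [Subtype.ext_iff]
    show π (r : X) = 1 ↔ _
    rw [hπ, QuotientGroup.mk'_apply, QuotientGroup.eq_one_iff]
    exact Subgroup.mem_map_iff_mem R.subtype_injective
  have hfr : frattini R ≤ g0.ker := fun r hr => (g0ker r).mpr (by
    rw [show inA r = 0 from congrArg Additive.ofMul ((QuotientGroup.eq_one_iff r).mpr hr)]
    exact zero_mem _)
  let fm : R ⧸ frattini R →* Rb := QuotientGroup.lift (frattini R) g0 hfr
  have fms : Function.Surjective fm := fun y => (g0s y).imp' QuotientGroup.mk fun r hr => hr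
  letI : CommGroup Rb :=
    { (inferInstance : Group Rb) with
      mul_comm := fun a b => by
        obtain ⟨a, rfl⟩ := fms a
        obtain ⟨b, rfl⟩ := fms b
        rw [← map_mul, mul_comm, map_mul] }
  have hab : ∀ a ∈ Rb, ∀ b ∈ Rb, a * b = b * a := fun a ha b hb =>
    congrArg Subtype.val (mul_comm (⟨a, ha⟩ : Rb) ⟨b, hb⟩)
  -- the action of the quotient
  let conjR : (X ⧸ U') →* MulAut Rb := MulAut.conjNormal
  have hconj : Rb ≤ conjR.ker := fun y hy => by
    rw [MonoidHom.mem_ker]
    refine MulEquiv.ext fun v => Subtype.ext ?_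
    rw [MulAut.conjNormal_apply, hab y hy v v.2, mul_inv_cancel_right]
    rfl
  let Φ : (X ⧸ U') ⧸ Rb →* MulAut Rb := QuotientGroup.lift Rb conjR hconj
  have hΦ : ∀ (y : X ⧸ U') (v : Rb), ((Φ (QuotientGroup.mk y) v : Rb) : X ⧸ U') = y * v * y⁻¹ :=
    fun y v => MulAut.conjNormal_apply y v
  let G := (X ⧸ U') ⧸ Rb
  let V := Additive Rb
  haveI : Finite V := inferInstanceAs (Finite Rb)
  have hexpV : ∀ v : V, p • v = 0 := by
    intro v
    obtain ⟨a, ha⟩ := fms (Additive.toMul v)
    show Additive.ofMul (Additive.toMul v ^ p) = _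
    rw [← ha, ← map_pow, hexpA, map_one]
    rfl
  letI : Module (ZMod p) V := AddCommGroup.zmodModule hexpV
  let F := ULift.{u} (ZMod p)
  letI : Module F V := ULift.module
  haveI : FiniteDimensional F V := Module.Finite.of_finite
  let ρ : G →* (V ≃ₗ[F] V) :=
    { toFun := fun g => { MulEquiv.toAdditive (Φ g) with
        map_smul' := fun c v => ZMod.map_smul (MulEquiv.toAdditive (Φ g)).toAddMonoidHom c.down v }
      map_one' := LinearEquiv.ext fun v => by
        show Additive.ofMul (Φ 1 (Additive.toMul v)) = v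
        rw [map_one]; rfl
      map_mul' := fun g h => LinearEquiv.ext fun v => by
        show Additive.ofMul (Φ (g * h) (Additive.toMul v)) = _
        rw [map_mul]; rfl }
  let f : A →+ V := MonoidHom.toAdditive fm
  have hf : Function.Surjective f := fms
  have hfker : f.ker = radI σ := by
    ext a
    obtain ⟨r, rfl⟩ := inA_surj a
    rw [AddMonoidHom.mem_ker]
    exact g0ker r
  have hRbπ : R ≤ (((QuotientGroup.mk' Rb).comp π)).ker := fun x hx => by
    rw [MonoidHom.mem_ker, MonoidHom.comp_apply, QuotientGroup.mk'_apply, QuotientGroup.eq_one_iff]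
    exact Subgroup.mem_map_of_mem π hx
  let e : X ⧸ R →* G := QuotientGroup.lift R ((QuotientGroup.mk' Rb).comp π) hRbπ
  have hes : Function.Surjective e := fun y =>
    (((QuotientGroup.mk'_surjective Rb).comp hπs) y).imp' QuotientGroup.mk fun x hx => hx
  let τ : X ⧸ R →* AddMonoid.End V := (endo ρ).comp e
  have hτ : ∀ h a, τ h (f a) = f (σ h a) := by
    intro h a
    obtain ⟨x, rfl⟩ := QuotientGroup.mk_surjective h
    obtain ⟨r, rfl⟩ := inA_surj a
    rw [← inA_conj]
    refine congrArg Additive.ofMul (Subtype.ext ?_)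
    show ((Φ (QuotientGroup.mk (π x)) (g0 r) : Rb) : X ⧸ U') = π (MulAut.conjNormal x r : R)
    rw [hΦ, MulAut.conjNormal_apply, map_mul, map_mul, map_inv]
    rfl
  have hcrτ : CR τ := cr_of_head σ f hf hfker τ hτ
  have hτinj : Function.Injective τ := injective_of_head σ hσ hexpA' hH hOH f hfker τ hτ
  have hρ : Function.Injective ρ := by
    intro a b hab'
    obtain ⟨a', rfl⟩ := hes a
    obtain ⟨b', rfl⟩ := hes b
    exact congrArg e (hτinj (show endo ρ (e a') = endo ρ (e b') from
      congrArg (fun l : V ≃ₗ[F] V => ((l : V →ₗ[F] V).toAddMonoidHom : AddMonoid.End V)) hab'))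
  have hcr : CR (endo ρ) := by
    refine cr_of_range τ (endo ρ) (fun h => ⟨e h, rfl⟩) (fun g => ?_) hcrτ
    obtain ⟨h, rfl⟩ := hes g
    exact ⟨h, rfl⟩
  have hG : Group.IsSolvable G :=
    haveI := hH
    Group.isSolvable_of_surjective hes
  have hout := (solvable_linear hG ρ hρ (Or.inr ⟨inferInstance, hcr⟩)).2 inferInstance
  haveI : Finite (SemidirectProduct Rb G Φ) := Finite.of_equiv _ SemidirectProduct.equivProd.symm
  have hsd : kc (SemidirectProduct Rb G Φ) ≤ kc (Aff (endo ρ)) := le_of_eq (kc_congr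
    ({ toFun := fun x => ⟨Multiplicative.ofAdd (Additive.ofMul x.left), x.right⟩
       invFun := fun x => ⟨Additive.toMul (Multiplicative.toAdd x.left), x.right⟩
       left_inv := fun _ => rfl
       right_inv := fun _ => rfl
       map_mul' := fun _ _ => rfl } : SemidirectProduct Rb G Φ ≃* Aff (endo ρ)))
  have h1 : kc X ≤ kc U' * kc (X ⧸ U') := kc_le_mul X U'
  have h2 : kc (X ⧸ U') ≤ kc (SemidirectProduct Rb G Φ) := Cfsg.Agent.S4965.result Rb hab Φ hΦ
  have hFcard : Nat.card F = p := by rw [Nat.card_congr Equiv.ulift, Nat.card_zmod]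
  haveI : Finite F := Nat.finite_of_card_ne_zero (by rw [hFcard]; exact hp.out.ne_zero)
  have hVn : Nat.card Rb = p ^ Module.finrank F V := by
    rw [show Nat.card Rb = Nat.card V from rfl, Module.natCard_eq_pow_finrank (K := F), hFcard]
  have hRd : Nat.card R ≤ p ^ d := by
    obtain ⟨k, hk⟩ := IsPGroup.iff_card.mp hRp
    rw [hk]
    refine Nat.pow_le_pow_right hp.out.pos ?_
    rw [← hd]
    have h := R.card_subgroup_dvd_card
    rw [hk] at h
    exact (hp.out.pow_dvd_iff_le_factorization Nat.card_pos.ne').mp h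
  have hcardU : Nat.card U' * Nat.card Rb = Nat.card R := by
    have hk : g0.ker.map R.subtype = U' := by
      congr 1
      ext r
      rw [MonoidHom.mem_ker]
      exact g0ker r
    rw [show Nat.card U' = Nat.card g0.ker from (congrArg (fun S : Subgroup X => Nat.card S) hk.symm).trans
        (Subgroup.card_map_of_injective R.subtype_injective),
      ← Nat.card_congr (QuotientGroup.quotientKerEquivOfSurjective g0 g0s).toEquiv, mul_comm,
      ← Subgroup.card_eq_card_quotient_mul_card_subgroup]
  have hn : Module.finrank F V ≤ d := by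
    refine (Nat.pow_le_pow_iff_right hp.out.one_lt).mp ?_
    rw [← hVn]
    refine le_trans ?_ hRd
    rw [← hcardU]
    exact Nat.le_mul_of_pos_left _ Nat.card_pos
  calc kc X ≤ kc U' * kc (X ⧸ U') := h1
    _ ≤ Nat.card U' * (3 ^ (Module.finrank F V - 1) * Nat.card V) :=
        Nat.mul_le_mul (kc_le_card _) (h2.trans (hsd.trans hout))
    _ = 3 ^ (Module.finrank F V - 1) * Nat.card R := by
        rw [← hcardU, show Nat.card V = Nat.card Rb from rfl]; ring
    _ ≤ 3 ^ (d - 1) * p ^ d :=
        Nat.mul_le_mul (Nat.pow_le_pow_right (by norm_num) (by omega)) hRd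

end CfsgLib.KR
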