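import Mathlib
import Cfsg.Agent.Lib.Blocks.OverCharacter
import Cfsg.Agent.Lib.Char.ExtensionCoset
import Cfsg.Agent.Lib.Char.ExtendChar
import Cfsg.Agent.Lib.KR.Basic

/-!
At most as many characters lie over an invariant character as the quotient has classes.
-/

set_option autoImplicit false
set_option linter.unusedSectionVars false
set_option maxHeartbeats 1000000

namespace CfsgLib.KR

open Cfsg CfsgLib CfsgLib.Blocks
open scoped ComplexConjugate CfsgLib.Char

universe u

/-- A character over `θ` of a cyclic extension of `N` is, on each coset, a multiple of an extension. -/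
theorem coset_over_extension {A : Type u} [Group A] [Fintype A] (N : Subgroup A) [N.Normal] [Fintype N]
    {θ : N → ℂ} (hθ : IsIrrCharacter N θ) {η : A → ℂ} (hη : IsIrrCharacter A η)
    (hext : ∀ n : N, η n = θ n) {r : A → ℂ} (hr : IsCharacter A r) {e : ℂ}
    (hres : (fun n : N => r n) = e • θ) (a : A) :
    ∃ c : ℂ, ∀ n : N, r (a * n) = c * η (a * n) := by
  classical
  obtain ⟨m, hm⟩ := Char.exists_multiplicities hr
  have hinv : ∀ g, Char.conjBy N θ g = θ := by
    rw [show θ = fun n : N => η n from funext fun n => (hext n).symm]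
    exact Char.conjBy_restrict N (Char.isClassFunction_of_isCharacter (Char.isCharacter_of_isIrr hη))
  have hone : ∀ φ : IrrCharacter A, m φ ≠ 0 → classInner (fun n : N => (φ : A → ℂ) n) θ ≠ 0 := by
    intro φ hφ h0
    obtain ⟨ψ, hψ⟩ := Char.exists_constituent N (Char.isCharacter_of_isIrr φ.2)
      (Char.irr_degree_ne_zero φ.2)
    have hne : θ ≠ (ψ : N → ℂ) := fun h => hψ (h ▸ h0)
    choose c hc using fun η : IrrCharacter A => Char.exists_nat_classInner
      (Char.isCharacter_restrict N (Char.isCharacter_of_isIrr η.2))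
      (Char.isCharacter_of_isIrr ψ.2)
    have h1 : (fun n : N => r n) =
        ∑ η : IrrCharacter A, (m η : ℂ) • fun n : N => (η : A → ℂ) n := by
      funext n
      have h := congrFun hm (n : A)
      simp only [Finset.sum_apply, Pi.smul_apply] at h ⊢
      exact h
    have h3 : (∑ η : IrrCharacter A, (m η : ℂ) * (c η : ℂ)) = 0 := by
      have := congrArg (fun f => classInner f (ψ : N → ℂ)) (h1.symm.trans hres)
      simp only [Char.classInner_sum_left, Char.classInner_smul_left, hc,
        Char.classInner_irr_ne hθ ψ.2 hne, mul_zero] at this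
      exact this
    have h4 : (∑ η : IrrCharacter A, m η * c η : ℕ) = 0 := by exact_mod_cast h3
    have h5 := Finset.sum_eq_zero_iff.mp h4 φ (Finset.mem_univ _)
    exact hψ (by rw [hc φ, (mul_eq_zero.mp h5).resolve_left hφ, Nat.cast_zero])
  have h1 : (fun _ => (1 : ℂ)) * θ = θ := funext fun n => one_mul _
  have hbij := Char.gallagher N (φ := fun _ => 1) (θ := θ) Char.isIrrCharacter_one (fun g => rfl) hinv
    (by rw [h1]; exact hθ) hη hext
  rw [h1] at hbij
  have hterm : ∀ φ : IrrCharacter A, ∃ c : ℂ, ∀ n : N,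
      (m φ : ℂ) * (φ : A → ℂ) (a * n) = c * η (a * n) := by
    intro φ
    by_cases hφ : m φ = 0
    · exact ⟨0, fun n => by rw [hφ, Nat.cast_zero, zero_mul, zero_mul]⟩
    obtain ⟨b, ⟨hb, hbn⟩, e'⟩ := hbij.surjOn (show (φ : A → ℂ) ∈ {ψ : A → ℂ | IsIrrCharacter A ψ ∧
        classInner (Cfsg.indFun N θ) ψ ≠ 0} from ⟨φ.2, by
      rw [Char.frobenius_reciprocity N θ (Char.isClassFunction_of_isCharacter (Char.isCharacter_of_isIrr φ.2)),
        ← Char.classInner_conj_symm]
      intro h
      exact hone φ hφ (by simpa using h)⟩)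
    have hbc : ∀ n : N, b (a * n) = b a := by
      intro n
      rcases Char.avgN_dichotomy N hb with ⟨-, hc⟩ | ⟨h0, -⟩
      · have hn : a * (n : A) * a⁻¹ ∈ N := (inferInstance : N.Normal).conj_mem _ n.2 a
        have := hc ⟨_, hn⟩ a
        simpa using this
      · exfalso
        apply hbn
        rw [Char.frobenius_reciprocity N _ (Char.isClassFunction_of_isCharacter (Char.isCharacter_of_isIrr hb)),
          show classInner (fun _ : N => (1 : ℂ)) (fun n : N => b n) = conj (Char.avgN N b 1) by
            simp [classInner, Char.avgN],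
          h0, Pi.zero_apply, map_zero]
    exact ⟨(m φ : ℂ) * b a, fun n => by
      rw [← congrFun e' (a * n)]
      show (m φ : ℂ) * (b (a * n) * η (a * n)) = _
      rw [hbc n, mul_assoc]⟩
  choose c hc using hterm
  refine ⟨∑ φ, c φ, fun n => ?_⟩
  rw [congrFun hm, Finset.sum_apply, Finset.sum_mul]
  exact Finset.sum_congr rfl fun φ _ => by rw [Pi.smul_apply, smul_eq_mul, hc φ n]

/-- On one coset the characters over an invariant character are proportional. -/
theorem coset_proportional {G : Type u} [Group G] [Fintype G] (N : Subgroup G) [N.Normal] [Fintype N]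
    {θ : IrrCharacter N} (hinv : ∀ g : G, Char.conjBy N (θ : N → ℂ) g = θ) (g : G) :
    ∃ h : N → ℂ, ∀ χ ∈ overSet N θ, ∃ c : ℂ, ∀ n : N, (χ : G → ℂ) (g * n) = c * h n := by
  classical
  let A : Subgroup G := (Subgroup.zpowers (QuotientGroup.mk' N g)).comap (QuotientGroup.mk' N)
  haveI : Fintype A := Fintype.ofFinite A
  have hNA : N ≤ A := (QuotientGroup.ker_mk' N).ge.trans (Subgroup.ker_le_comap _ _)
  have hgA : g ∈ A := Subgroup.mem_comap.mpr (Subgroup.mem_zpowers _)
  haveI : Fintype (N.subgroupOf A) := Fintype.ofFinite _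
  let e : N.subgroupOf A ≃* N := Subgroup.subgroupOfEquivOfLe hNA
  let θ' : N.subgroupOf A → ℂ := fun n => (θ : N → ℂ) (e n)
  have hθ' : IsIrrCharacter (N.subgroupOf A) θ' := Char.isIrrCharacter_comp_mulEquiv e θ.2
  have hinv' : ∀ a : A, Char.conjBy (N.subgroupOf A) θ' a = θ' := fun a => funext fun n =>
    congrFun (hinv (a : G)) (e n)
  have hcyc : IsCyclic (A ⧸ N.subgroupOf A) := by
    let f : A →* Subgroup.zpowers (QuotientGroup.mk' N g) := (QuotientGroup.mk' N).subgroupComap _
    have hf : Function.Surjective f :=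
      (QuotientGroup.mk' N).subgroupComap_surjective_of_surjective _ (QuotientGroup.mk'_surjective N)
    have hker : f.ker = N.subgroupOf A := by
      ext x
      rw [MonoidHom.mem_ker, Subgroup.mem_subgroupOf, ← QuotientGroup.eq_one_iff]
      exact Subtype.ext_iff
    exact isCyclic_of_surjective
      ((QuotientGroup.quotientKerEquivOfSurjective f hf).symm.trans
        (QuotientGroup.quotientMulEquivOfEq hker)) (MulEquiv.surjective _)
  obtain ⟨η, hη, hext⟩ := Char.extends_of_cyclic (N.subgroupOf A) hθ' hinv' hcyc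
  refine ⟨fun n => η ⟨g * n, mul_mem hgA (hNA n.2)⟩, fun χ hχ => ?_⟩
  have hres : (fun n : N.subgroupOf A => (χ : G → ℂ) ((n : A) : G)) =
      classInner (fun k : N => (χ : G → ℂ) k) (θ : N → ℂ) • θ' := funext fun n => by
    have h := congrFun (restrict_over hinv hχ) (e n)
    exact h
  obtain ⟨c, hc⟩ := coset_over_extension (N.subgroupOf A) hθ' hη hext
    (r := fun a : A => (χ : G → ℂ) a) (Char.isCharacter_restrict A (Char.isCharacter_of_isIrr χ.2)) hres
    ⟨g, hgA⟩
  exact ⟨c, fun n => hc (e.symm n)⟩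

/-- The count. -/
theorem ncard_overSet_le {G : Type u} [Group G] [Fintype G] (N : Subgroup G) [N.Normal] [Fintype N]
    {θ : IrrCharacter N} (hinv : ∀ g : G, Char.conjBy N (θ : N → ℂ) g = θ) :
    (overSet N θ).ncard ≤ kc (G ⧸ N) := by
  classical
  haveI : Fintype (ConjClasses (G ⧸ N)) := Fintype.ofFinite _
  haveI : Finite (IrrCharacter G) := Char.finite_irrCharacter
  haveI : Fintype (overSet N θ) := Fintype.ofFinite _
  choose h hh using fun g => coset_proportional N hinv g
  let rep : ConjClasses (G ⧸ N) → G := fun C => (Quotient.out C : G ⧸ N).out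
  have hrep : ∀ C, ∃ n₀ : N, (∀ n : N, h (rep C) n = 0) ∨ h (rep C) n₀ ≠ 0 := by
    intro C
    by_cases hz : ∀ n : N, h (rep C) n = 0
    · exact ⟨1, Or.inl hz⟩
    · push Not at hz
      obtain ⟨n₀, hn₀⟩ := hz
      exact ⟨n₀, Or.inr hn₀⟩
  choose n₀ hn₀ using hrep
  let F : overSet N θ → (ConjClasses (G ⧸ N) → ℂ) := fun χ C => (χ.1 : G → ℂ) (rep C * n₀ C)
  have hF : LinearIndependent ℂ F := by
    rw [Fintype.linearIndependent_iff]
    intro a ha χ₁
    have hvan : ∀ C (n : N), ∑ χ : overSet N θ, a χ * (χ.1 : G → ℂ) (rep C * n) = 0 := by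
      intro C n
      choose c hc using fun χ : overSet N θ => hh (rep C) χ.1 χ.2
      rcases hn₀ C with hz | hz
      · exact Finset.sum_eq_zero fun χ _ => by rw [hc χ n, hz n, mul_zero, mul_zero]
      · have h0 := congrFun ha C
        simp only [Finset.sum_apply, Pi.smul_apply, smul_eq_mul, F, Pi.zero_apply, hc, ← mul_assoc,
          ← Finset.sum_mul] at h0
        simp only [hc, ← mul_assoc, ← Finset.sum_mul, (mul_eq_zero.mp h0).resolve_right hz, zero_mul]
    have hall : ∀ x : G, ∑ χ : overSet N θ, a χ * (χ.1 : G → ℂ) x = 0 := by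
      intro x
      let C := ConjClasses.mk (QuotientGroup.mk' N x)
      have h1 : IsConj (Quotient.out C : G ⧸ N) (QuotientGroup.mk' N x) :=
        ConjClasses.mk_eq_mk_iff_isConj.mp (Quotient.out_eq C)
      obtain ⟨c', hc'⟩ := isConj_iff.mp h1
      obtain ⟨y, rfl⟩ := QuotientGroup.mk_surjective c'
      have hmem : (rep C)⁻¹ * (y⁻¹ * x * y) ∈ N := by
        rw [← QuotientGroup.eq, QuotientGroup.mk_mul, QuotientGroup.mk_mul, QuotientGroup.mk_inv]
        show ((Quotient.out C : G ⧸ N).out : G ⧸ N) = _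
        rw [QuotientGroup.out_eq']
        rw [show (x : G ⧸ N) = QuotientGroup.mk' N x from rfl, ← hc']
        group
      have := hvan C ⟨_, hmem⟩
      refine Eq.trans (Finset.sum_congr rfl fun χ _ => ?_) this
      have hcl := irr_classFunction χ.1 x y⁻¹
      rw [inv_inv] at hcl
      simp only [mul_inv_cancel_left]
      rw [hcl]
    exact Fintype.linearIndependent_iff.mp
      ((Char.linearIndependent_irr (G := G)).comp (fun χ : overSet N θ => χ.1) Subtype.val_injective) a
      (funext fun x => by simpa [Finset.sum_apply] using hall x) χ₁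
  have := hF.fintype_card_le_finrank
  rw [Module.finrank_pi] at this
  rwa [← Nat.card_eq_fintype_card, Nat.card_coe_set_eq, ← Nat.card_eq_fintype_card] at this

end CfsgLib.KR
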